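import Groth.Prelude.Def_AlgSp3
import Mathlib.AlgebraicGeometry.Morphisms.LocalFlatDescent
import Mathlib.AlgebraicGeometry.Morphisms.FlatMono

/-!
# Chart toolkit for morphisms of algebraic spaces (helper36)
-/

universe u

open CategoryTheory CategoryTheory.Limits AlgebraicGeometry Opposite

namespace Groth.Agent.Lib.Helper36.AlgSpCharts

open AlgSp

variable {S : Scheme.{u}}

/-- A pullback square of `yon`-maps in `Sp S` is a pullback square in `Over S`. -/
theorem isPullback_of_yon {A B C D : Over S} {p1 : A ⟶ B} {p2 : A ⟶ C} {f : B ⟶ D} {g : C ⟶ D}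
    (h : IsPullback ((yon S).map p1) ((yon S).map p2) ((yon S).map f) ((yon S).map g)) :
    IsPullback p1 p2 f g :=
  IsPullback.of_map (yon S) ((yon S).map_injective (by simpa using h.w)) h

/-- A pullback square of `yon`-maps in `Sp S` gives a pullback square of schemes. -/
theorem isPullback_left_of_yon {A B C D : Over S} {p1 : A ⟶ B} {p2 : A ⟶ C} {f : B ⟶ D} {g : C ⟶ D}
    (h : IsPullback ((yon S).map p1) ((yon S).map p2) ((yon S).map f) ((yon S).map g)) :
    IsPullback p1.left p2.left f.left g.left :=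
  (isPullback_of_yon h).map (Over.forget S)

/-- Fibre products of two schemes over a sheaf, when one leg is representable. -/
theorem exists_isPullback_yon {G : Sp S} {U V : Over S} (a : (yon S).obj U ⟶ G)
    (b : (yon S).obj V ⟶ G) (hb : Representable b) :
    ∃ (W : Over S) (p1 : W ⟶ U) (p2 : W ⟶ V),
      IsPullback ((yon S).map p1) ((yon S).map p2) a b :=
  ⟨hb.pullback a, hb.snd a, hb.fst' a, (hb.isPullback' a).flip⟩

/-- Given a pullback square with `b` étale (in the representable sense), the projection to the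
other factor is an étale morphism of schemes. -/
theorem prop_fst_of_isPullback {P : MorphismProperty Scheme.{u}} {G : Sp S} {U V W : Over S}
    {a : (yon S).obj U ⟶ G}
    {b : (yon S).obj V ⟶ G} {p1 : W ⟶ U} {p2 : W ⟶ V}
    (sq : IsPullback ((yon S).map p1) ((yon S).map p2) a b) (hb : RepWith P b) : P p1.left :=
  hb.property a ((yon S).map p2) p1 sq.flip

theorem prop_snd_of_isPullback {P : MorphismProperty Scheme.{u}} {G : Sp S} {U V W : Over S}
    {a : (yon S).obj U ⟶ G}
    {b : (yon S).obj V ⟶ G} {p1 : W ⟶ U} {p2 : W ⟶ V}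
    (sq : IsPullback ((yon S).map p1) ((yon S).map p2) a b) (ha : RepWith P a) : P p2.left :=
  ha.property b ((yon S).map p1) p2 sq

/-- **Étale cancellation for charts**: if `a : h_U ⟶ G` and `b : h_V ⟶ G` are representable étale
and `h : U ⟶ V` satisfies `h_h ≫ b = a`, then `h` is étale. -/
theorem etale_of_comp_eq {G : Sp S} {U V : Over S} (a : (yon S).obj U ⟶ G)
    (b : (yon S).obj V ⟶ G) (h : U ⟶ V) (ha : RepWith @Etale a) (hb : RepWith @Etale b)
    (w : (yon S).map h ≫ b = a) : Etale h.left := by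
  obtain ⟨W, p1, p2, sq⟩ := exists_isPullback_yon a b hb.rep
  have h1 : Etale p1.left := prop_fst_of_isPullback sq hb
  have h2 : Etale p2.left := prop_snd_of_isPullback sq ha
  -- the section
  obtain ⟨σ', hσ1, hσ2⟩ := sq.exists_lift (𝟙 _) ((yon S).map h) (by rw [Category.id_comp, w])
  obtain ⟨σ, rfl⟩ := (yon S).map_surjective σ'
  have e1 : σ ≫ p1 = 𝟙 _ := (yon S).map_injective (by simpa using hσ1)
  have e2 : σ ≫ p2 = h := (yon S).map_injective (by simpa using hσ2)
  have e1' : σ.left ≫ p1.left = 𝟙 _ := by rw [← Over.comp_left, e1]; rfl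
  have : Etale (σ.left ≫ p1.left) := by rw [e1']; infer_instance
  have hσ : Etale σ.left := Etale.of_comp σ.left p1.left
  rw [← e2, Over.comp_left]
  infer_instance

/-- Descent of a property along an étale surjective base change (scheme level, `Over S` form). -/
theorem descend_of_isPullback {P : MorphismProperty Scheme.{u}}
    [P.DescendsAlong (@Surjective ⊓ @Flat ⊓ @LocallyOfFinitePresentation)]
    {A B C D : Over S} {p1 : A ⟶ B} {p2 : A ⟶ C} {f : B ⟶ D} {g : C ⟶ D}
    (sq : IsPullback p1 p2 f g) (hg : Etale g.left) (hgs : Surjective g.left) (h : P p2.left) :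
    P f.left := by
  have sq' : IsPullback p2.left p1.left g.left f.left := (sq.map (Over.forget S)).flip
  exact MorphismProperty.of_isPullback_of_descendsAlong (P := P)
    (Q := @Surjective ⊓ @Flat ⊓ @LocallyOfFinitePresentation) sq'
    ⟨⟨hgs, inferInstance⟩, inferInstance⟩ h

/-- If `f : X ⟶ Y` has `P` étale locally on source and target (`LocP`), `Y` is an algebraic space and
`P` is stable under base change and satisfies fppf descent, then for every étale chart
`φ : h_U ⟶ X` the composite `h_U ⟶ Y` is representable with property `P`. -/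
theorem repWith_comp_of_locP {P : MorphismProperty Scheme.{u}} [P.IsStableUnderBaseChange]
    [P.DescendsAlong (@Surjective ⊓ @Flat ⊓ @LocallyOfFinitePresentation)]
    {X Y : Sp S} (hY : IsAlgSpace Y) (f : X ⟶ Y) (hf : LocP P f) {U : Over S}
    (φ : (yon S).obj U ⟶ X) (hφ : RepWith @Etale φ) : RepWith P (φ ≫ f) := by
  have hrep : Representable (φ ≫ f) := hY.representable_from_yon _
  have : P.RespectsIso := MorphismProperty.IsStableUnderBaseChange.respectsIso
  refine MorphismProperty.relative_of_snd hrep fun T g => ?_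
  -- the chosen pullback square B
  have B := hrep.isPullback' g
  set V := hrep.pullback g
  set snd := hrep.snd g
  set fst' := hrep.fst' g
  change P snd.left
  obtain ⟨W, c, hce, hcs⟩ := hY.atlas
  obtain ⟨T1, t1, t2, C⟩ := exists_isPullback_yon g c hce.rep
  have ht1e : Etale t1.left := prop_fst_of_isPullback C hce
  have ht1s : Surjective t1.left := prop_fst_of_isPullback C hcs
  obtain ⟨U1, u1, u2, D⟩ := exists_isPullback_yon (φ ≫ f) c hce.rep
  have hu1e : Etale u1.left := prop_fst_of_isPullback D hce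
  have hu2 : P u2.left := by
    refine hf ((yon S).map u1 ≫ φ) c u2
      (MorphismProperty.comp_mem _ _ _ ((repWith_yon_map_iff _ _).2 hu1e) hφ) hce ?_
    rw [Category.assoc, D.w]
  -- the pullback V' = V ×_T T1
  have A0 := IsPullback.of_hasPullback snd t1
  set v1 := pullback.fst snd t1
  set v2 := pullback.snd snd t1
  have A : IsPullback ((yon S).map v1) ((yon S).map v2) ((yon S).map snd) ((yon S).map t1) :=
    A0.map (yon S)
  have AB := (A.paste_horiz B).flip
  -- the map r : V' ⟶ U1
  obtain ⟨r', hr1, hr2⟩ := D.exists_lift ((yon S).map (v1 ≫ fst')) ((yon S).map (v2 ≫ t2)) (by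
    rw [Functor.map_comp, Functor.map_comp, Category.assoc, B.w, ← Functor.map_comp_assoc, A0.w,
      Functor.map_comp_assoc, C.w, Category.assoc])
  obtain ⟨r, rfl⟩ := (yon S).map_surjective r'
  have E : IsPullback ((yon S).map v2) ((yon S).map r) ((yon S).map t2) ((yon S).map u2) := by
    refine IsPullback.of_bot ?_ ?_ D.flip
    · rw [hr1, Functor.map_comp, ← C.w]
      exact AB
    · rw [hr2, Functor.map_comp]
  have E' := (isPullback_of_yon E).map (Over.forget S)
  have hv2 : P v2.left := MorphismProperty.of_isPullback E'.flip hu2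
  exact descend_of_isPullback A0 ht1e ht1s hv2

section Cat
universe v₁ u₁
variable {C : Type u₁} [Category.{v₁} C]

theorem isPullback_of_comp_mono {A B X P Q : C} {a : A ⟶ X} {b : A ⟶ B} {c : X ⟶ P} {d : B ⟶ P}
    (m : P ⟶ Q) [Mono m] (h : IsPullback a b (c ≫ m) (d ≫ m)) : IsPullback a b c d := by
  have w : a ≫ c = b ≫ d := by
    rw [← cancel_mono m, Category.assoc, Category.assoc, h.w]
  refine ⟨⟨w⟩, ⟨PullbackCone.IsLimit.mk w
    (fun s => h.lift s.fst s.snd (by rw [← Category.assoc, s.condition, Category.assoc]))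
    (fun s => h.lift_fst _ _ _) (fun s => h.lift_snd _ _ _) ?_⟩⟩
  intro s l h1 h2
  apply h.hom_ext
  · rw [h1, h.lift_fst]
  · rw [h2, h.lift_snd]

variable [HasPullbacks C]

theorem isPullback_of_diagonal {X Y U1 U2 Q R : C} (F : X ⟶ Y) (p1 : U1 ⟶ X) (p2 : U2 ⟶ X)
    {a1 : Q ⟶ U1} {a2 : Q ⟶ U2} (hQ : IsPullback a1 a2 (p1 ≫ F) (p2 ≫ F))
    {ρ : R ⟶ X} {e : R ⟶ Q} (w : Q ⟶ pullback F F)
    (hw1 : w ≫ pullback.fst F F = a1 ≫ p1) (hw2 : w ≫ pullback.snd F F = a2 ≫ p2)
    (hR : IsPullback ρ e (pullback.diagonal F) w) :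
    IsPullback (e ≫ a1) (e ≫ a2) p1 p2 := by
  have hρ1 : ρ = e ≫ a1 ≫ p1 := by
    have := congrArg (· ≫ pullback.fst F F) hR.w
    simpa [hw1] using this
  have hρ2 : ρ = e ≫ a2 ≫ p2 := by
    have := congrArg (· ≫ pullback.snd F F) hR.w
    simpa [hw2] using this
  have comm : (e ≫ a1) ≫ p1 = (e ≫ a2) ≫ p2 := by
    rw [Category.assoc, Category.assoc, ← hρ1, ← hρ2]
  have key : ∀ s : PullbackCone p1 p2, ∃ q : s.pt ⟶ Q, q ≫ a1 = s.fst ∧ q ≫ a2 = s.snd ∧
      (s.fst ≫ p1) ≫ pullback.diagonal F = q ≫ w := by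
    intro s
    refine ⟨hQ.lift s.fst s.snd (by rw [← Category.assoc, s.condition, Category.assoc]),
      hQ.lift_fst _ _ _, hQ.lift_snd _ _ _, ?_⟩
    apply pullback.hom_ext
    · simp only [Category.assoc, pullback.diagonal_fst, Category.comp_id, hw1]
      rw [hQ.lift_fst_assoc]
    · simp only [Category.assoc, pullback.diagonal_snd, Category.comp_id, hw2]
      rw [hQ.lift_snd_assoc, s.condition]
  choose q hq1 hq2 hq3 using key
  refine ⟨⟨comm⟩, ⟨PullbackCone.IsLimit.mk comm
    (fun s => hR.lift (s.fst ≫ p1) (q s) (hq3 s)) ?_ ?_ ?_⟩⟩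
  · intro s
    rw [hR.lift_snd_assoc, hq1]
  · intro s
    rw [hR.lift_snd_assoc, hq2]
  · intro s l h1 h2
    have he : l ≫ e = q s := by
      apply hQ.hom_ext
      · rw [Category.assoc, h1, hq1]
      · rw [Category.assoc, h2, hq2]
    apply hR.hom_ext
    · rw [hR.lift_fst, hρ1, ← Category.assoc, ← Category.assoc, Category.assoc l, h1]
    · rw [hR.lift_snd, he]

end Cat

/-- The relative diagonal of a morphism of sheaves whose source has representable diagonal is
representable. -/
theorem representable_diagonal {X Y : Sp S} (F : X ⟶ Y) (hX : Representable (Limits.diag X)) :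
    Representable (pullback.diagonal F) := by
  intro T g
  let m : pullback F F ⟶ X ⨯ X := prod.lift (pullback.fst F F) (pullback.snd F F)
  have hm : Mono m := ⟨fun a b hab => by
    apply pullback.hom_ext
    · have := congrArg (· ≫ prod.fst) hab
      simp only [m, Category.assoc, prod.lift_fst] at this
      exact this
    · have := congrArg (· ≫ prod.snd) hab
      simp only [m, Category.assoc, prod.lift_snd] at this
      exact this⟩
  have hΔ : pullback.diagonal F ≫ m = Limits.diag X := by
    apply Limits.prod.hom_ext <;> simp [m]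
  obtain ⟨b, snd, fst, sq⟩ := hX (g ≫ m)
  rw [← hΔ] at sq
  exact ⟨b, snd, fst, isPullback_of_comp_mono m sq⟩

/-- Key construction for diagonals: for a chart `p : h_U ⟶ X` (étale), the scheme `UY = U ×_Y U`, the
scheme `R = U ×_X U` presented as the base change of the relative diagonal, and the comparison
`e : R ⟶ UY`. -/
theorem exists_diag_chart {X Y : Sp S} (hX : Representable (Limits.diag X)) (hY : IsAlgSpace Y)
    (F : X ⟶ Y) {U : Over S} (p : (yon S).obj U ⟶ X) (hp : RepWith @Etale p) :
    ∃ (UY R : Over S) (pr1 pr2 : UY ⟶ U) (e : R ⟶ UY) (ρ : (yon S).obj R ⟶ X)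
      (w : (yon S).obj UY ⟶ pullback F F),
      IsPullback ((yon S).map pr1) ((yon S).map pr2) (p ≫ F) (p ≫ F) ∧
      w ≫ pullback.fst F F = (yon S).map pr1 ≫ p ∧ w ≫ pullback.snd F F = (yon S).map pr2 ≫ p ∧
      IsPullback ρ ((yon S).map e) (pullback.diagonal F) w ∧
      IsPullback ((yon S).map (e ≫ pr1)) ((yon S).map (e ≫ pr2)) p p ∧
      Etale (e ≫ pr1).left ∧ Mono e.left := by
  obtain ⟨UY, pr1, pr2, sqUY⟩ := exists_isPullback_yon (p ≫ F) (p ≫ F) (hY.representable_from_yon _)
  let w : (yon S).obj UY ⟶ pullback F F :=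
    pullback.lift ((yon S).map pr1 ≫ p) ((yon S).map pr2 ≫ p) (by simpa using sqUY.w)
  have hw1 : w ≫ pullback.fst F F = (yon S).map pr1 ≫ p := pullback.lift_fst _ _ _
  have hw2 : w ≫ pullback.snd F F = (yon S).map pr2 ≫ p := pullback.lift_snd _ _ _
  have hΔ := representable_diagonal F hX
  have sqR := hΔ.isPullback w
  have sqRR := isPullback_of_diagonal F p p sqUY w hw1 hw2 sqR
  rw [← Functor.map_comp, ← Functor.map_comp] at sqRR
  refine ⟨UY, hΔ.pullback w, pr1, pr2, hΔ.snd w, hΔ.fst w, w, sqUY, hw1, hw2, sqR, sqRR,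
    prop_fst_of_isPullback sqRR hp, ?_⟩
  have : Mono ((yon S).map (hΔ.snd w)) := sqR.mono_snd_of_mono
  have : Mono (hΔ.snd w) := (yon S).mono_of_mono_map this
  infer_instance

end Groth.Agent.Lib.Helper36.AlgSpCharts
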