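import Groth.Agent.Lib.Helper37.AlgSpPoints
import Groth.Agent.Lib.Helper5.SheafPullback
import Groth.Agent.Lib.Helper5.AlgSpCoprod
import Groth.Agent.Lib.Helper23.AlgSpMor2

/-!
# Open subspaces of sheaves / algebraic spaces (helper36)

For a sheaf `X : AlgSp.Sp S` and a set `W` of points of `X`, `openSub X W` is the subsheaf of sections all
of whose points land in `W`, with inclusion `openSubι X W` (a monomorphism).  When `W` is open:
* `exists_isPullback_openSub` : the base change along `g : h_T ⟶ X` is the open subscheme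
  `(ofPt g)⁻¹ W` of `T`;
* `repWith_isOpenImmersion_openSubι` : the inclusion is representable by open immersions;
* `range_map_openSubι` : its image on points is `W` (any `W`);
* `isAlgSpace_openSub` : it is an algebraic space when `X` is.
Also `exists_mem_of_mem_J` : covering sieves of the fppf topology over `S` are jointly surjective;
`ofPt_comp_openSubι_mem`, `exists_lift_openSub` : maps `h_T ⟶ openSub X W` are maps `h_T ⟶ X` all of
whose points land in `W`.
-/

universe u
open CategoryTheory CategoryTheory.Limits AlgebraicGeometry Opposite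
open AlgSp

namespace Groth.Agent.Lib.Helper36.OpenSubspace

open Groth.Agent.Lib.Helper37.AlgSpPoints Groth.Agent.Lib.Helper23.AlgSpMor

variable {S : Scheme.{u}}

set_option backward.isDefEq.respectTransparency false in
/-- Covering sieves of the fppf topology over `S` are jointly surjective. -/
theorem exists_mem_of_mem_J {T : Over S} (R : Sieve T) (hR : R ∈ J S T) (t : ↥T.left) :
    ∃ (T' : Over S) (φ : T' ⟶ T), R φ ∧ t ∈ Set.range φ.left := by
  rw [J_eq, GrothendieckTopology.mem_over_iff] at hR
  have : MorphismProperty.IsMultiplicative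
      (@LocallyOfFinitePresentation : MorphismProperty Scheme.{u}) :=
    { id_mem := fun _ => inferInstance
      comp_mem := fun f g hf hg => by
        have : LocallyOfFinitePresentation f := hf
        have : LocallyOfFinitePresentation g := hg
        exact (inferInstance : LocallyOfFinitePresentation (f ≫ g)) }
  obtain ⟨𝒰, h𝒰⟩ := (Scheme.mem_grothendieckTopology_iff
    (P := @Flat ⊓ @LocallyOfFinitePresentation)).1 hR
  obtain ⟨i, y, hy⟩ := 𝒰.exists_eq t
  have h1 : Sieve.overEquiv T R (𝒰.f i) := h𝒰 _ _ (Presieve.ofArrows.mk i)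
  rw [Sieve.overEquiv_iff] at h1
  exact ⟨_, _, h1, y, hy⟩

/-- The subfunctor of sections of `X` all of whose points land in `W`. -/
def sub (X : Sp S) (W : Set (Points X)) : Subfunctor X.obj where
  obj T := {x | ∀ t : ↥T.unop.left, Points.ofPt ((J S).uliftYonedaEquiv.symm x) t ∈ W}
  map := by
    intro T T' φ x hx t
    show Points.ofPt ((J S).uliftYonedaEquiv.symm (X.obj.map φ x)) t ∈ W
    have e : (J S).uliftYonedaEquiv.symm (X.obj.map φ x) =
        (yon S).map φ.unop ≫ (J S).uliftYonedaEquiv.symm x :=
      (GrothendieckTopology.uliftYonedaEquiv_symm_naturality_left (J S) φ.unop X x).symm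
    rw [e, ofPt_map_comp]
    exact hx _


theorem sub_isSheaf (X : Sp S) (W : Set (Points X)) :
    Presheaf.IsSheaf (J S) (sub X W).toFunctor := by
  rw [isSheaf_iff_isSheaf_of_type]
  rw [Subfunctor.isSheaf_iff _ ((isSheaf_iff_isSheaf_of_type _ _).1 X.property)]
  intro T s hs t
  obtain ⟨T', φ, hφ, t', rfl⟩ := exists_mem_of_mem_J _ hs t
  have h1 : X.obj.map φ.op s ∈ (sub X W).obj (op T') := hφ
  have h2 := h1 t'
  have e : (J S).uliftYonedaEquiv.symm (X.obj.map φ.op s) =
      (yon S).map φ ≫ (J S).uliftYonedaEquiv.symm s :=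
    (GrothendieckTopology.uliftYonedaEquiv_symm_naturality_left (J S) φ X s).symm
  rw [e, ofPt_map_comp] at h2
  exact h2

/-- The open subspace of `X` with set of points `W` (as a sheaf). -/
def openSub (X : Sp S) (W : Set (Points X)) : Sp S := ⟨(sub X W).toFunctor, sub_isSheaf X W⟩

/-- The inclusion of the open subspace. -/
def openSubι (X : Sp S) (W : Set (Points X)) : openSub X W ⟶ X :=
  ObjectProperty.homMk (sub X W).ι

instance (X : Sp S) (W : Set (Points X)) : Mono (openSubι X W) := by
  have : Mono ((sheafToPresheaf (J S) (Type (u + 1))).map (openSubι X W)) :=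
    inferInstanceAs (Mono (sub X W).ι)
  exact (sheafToPresheaf (J S) (Type (u + 1))).mono_of_mono_map this

theorem ofPt_comp_openSubι_mem (X : Sp S) (W : Set (Points X)) {T : Over S}
    (g : (yon S).obj T ⟶ openSub X W) (t : ↥T.left) :
    Points.ofPt (g ≫ openSubι X W) t ∈ W := by
  have h := ((J S).uliftYonedaEquiv g).2 t
  have e : (J S).uliftYonedaEquiv.symm (((J S).uliftYonedaEquiv g).1) = g ≫ openSubι X W := by
    apply (J S).uliftYonedaEquiv.injective
    rw [Equiv.apply_symm_apply, GrothendieckTopology.uliftYonedaEquiv_comp]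
    rfl
  rw [e] at h
  exact h

theorem exists_lift_openSub (X : Sp S) (W : Set (Points X)) {T : Over S}
    (g : (yon S).obj T ⟶ X) (hg : ∀ t : ↥T.left, Points.ofPt g t ∈ W) :
    ∃ g' : (yon S).obj T ⟶ openSub X W, g' ≫ openSubι X W = g := by
  have hmem : (J S).uliftYonedaEquiv g ∈ (sub X W).obj (op T) := by
    intro t
    show Points.ofPt ((J S).uliftYonedaEquiv.symm ((J S).uliftYonedaEquiv g)) t ∈ W
    rw [Equiv.symm_apply_apply]
    exact hg t
  refine ⟨(J S).uliftYonedaEquiv.symm (⟨(J S).uliftYonedaEquiv g, hmem⟩ :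
    (openSub X W).obj.obj (op T)), ?_⟩
  apply (J S).uliftYonedaEquiv.injective
  rw [GrothendieckTopology.uliftYonedaEquiv_comp, Equiv.apply_symm_apply]
  rfl


/-- The open subscheme of `T` where `g : h_T ⟶ X` lands in `W`. -/
def preimageOpens (X : Sp S) (W : Set (Points X)) (hW : IsOpen W) {T : Over S}
    (g : (yon S).obj T ⟶ X) : T.left.Opens :=
  ⟨Points.ofPt g ⁻¹' W, hW.preimage (Points.continuous_ofPt g)⟩

/-- The base change of the open subspace along `g : h_T ⟶ X` is the open subscheme
`(ofPt g)⁻¹ W` of `T`. -/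
theorem exists_isPullback_openSub (X : Sp S) (W : Set (Points X)) (hW : IsOpen W) {T : Over S}
    (g : (yon S).obj T ⟶ X) :
    ∃ top : (yon S).obj (overOpens T (preimageOpens X W hW g)) ⟶ openSub X W,
      IsPullback top ((yon S).map (overOpensι T (preimageOpens X W hW g))) (openSubι X W) g := by
  set V := preimageOpens X W hW g with hV
  have hmem : ∀ t : ↥(overOpens T V).left,
      Points.ofPt ((yon S).map (overOpensι T V) ≫ g) t ∈ W := by
    intro t
    rw [ofPt_overOpensι_comp]
    exact t.2
  obtain ⟨top, htop⟩ := exists_lift_openSub X W _ hmem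
  refine ⟨top, ?_⟩
  have hmono : Mono (overOpensι T V) := by
    have : Mono ((Over.forget S).map (overOpensι T V)) := by
      show Mono V.ι
      infer_instance
    exact (Over.forget S).mono_of_mono_map this
  refine Groth.Agent.Lib.Helper5.sheaf_isPullback_of_yon.{u, u + 1, u + 1} (J S) top
    ((yon S).map (overOpensι T V)) (openSubι X W) g htop ?_ ?_
  · intro T0 z z' _ h2
    obtain ⟨ψ, rfl⟩ := (yon S).map_surjective z
    obtain ⟨ψ', rfl⟩ := (yon S).map_surjective z'
    rw [← Functor.map_comp, ← Functor.map_comp] at h2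
    have h3 := (yon S).map_injective h2
    rw [cancel_mono] at h3
    rw [h3]
  · intro T0 x y hxy
    obtain ⟨φ, rfl⟩ := (yon S).map_surjective y
    have hφ : Set.range φ.left ⊆ Set.range V.ι := by
      rintro _ ⟨t0, rfl⟩
      rw [Scheme.Opens.range_ι]
      show Points.ofPt g (φ.left t0) ∈ W
      rw [← ofPt_map_comp, ← hxy]
      exact ofPt_comp_openSubι_mem X W x t0
    let ψ0 : T0.left ⟶ V.toScheme := IsOpenImmersion.lift V.ι φ.left hφ
    have hψ0 : ψ0 ≫ V.ι = φ.left := IsOpenImmersion.lift_fac _ _ _
    let ψ : T0 ⟶ overOpens T V := Over.homMk ψ0 (by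
      show ψ0 ≫ V.ι ≫ T.hom = T0.hom
      rw [← Category.assoc, hψ0]
      exact Over.w φ)
    have hψ : ψ ≫ overOpensι T V = φ := Over.OverMorphism.ext hψ0
    refine ⟨(yon S).map ψ, ?_, ?_⟩
    · rw [← cancel_mono (openSubι X W), Category.assoc, htop, ← Category.assoc,
        ← Functor.map_comp, hψ, hxy]
    · rw [← Functor.map_comp, hψ]

theorem repWith_isOpenImmersion_openSubι (X : Sp S) (W : Set (Points X)) (hW : IsOpen W) :
    RepWith @IsOpenImmersion (openSubι X W) := by
  apply MorphismProperty.relative.of_exists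
  intro T g
  obtain ⟨top, sq⟩ := exists_isPullback_openSub X W hW g
  exact ⟨_, top, _, sq, (inferInstance : IsOpenImmersion (preimageOpens X W hW g).ι)⟩

theorem range_map_openSubι (X : Sp S) (W : Set (Points X)) :
    Set.range (Points.map (openSubι X W)) = W := by
  apply Set.Subset.antisymm
  · rintro _ ⟨x', rfl⟩
    obtain ⟨p, s, rfl⟩ := exists_ofPt_toHom x'
    rw [Points.map_ofPt]
    exact ofPt_comp_openSubι_mem X W (T := p.pt) p.toHom s
  · intro x hx
    obtain ⟨p, s, rfl⟩ := exists_ofPt_toHom x
    have hmem : ∀ t : ↥(Spec (CommRingCat.of p.K)), Points.ofPt p.toHom t ∈ W := by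
      intro t
      rw [Subsingleton.elim t s]
      exact hx
    obtain ⟨g', hg'⟩ := exists_lift_openSub X W p.toHom hmem
    exact ⟨Points.ofPt g' s, by rw [Points.map_ofPt, hg']⟩

theorem isAlgSpace_openSub (X : Sp S) (hX : IsAlgSpace X) (W : Set (Points X)) (hW : IsOpen W) :
    IsAlgSpace (openSub X W) := by
  constructor
  · have sq := Groth.Agent.Lib.Helper5.isPullback_diag_of_mono (openSubι X W)
    exact (Functor.relativelyRepresentable.isStableUnderBaseChange (yon S)).of_isPullback
      sq.flip hX.diag
  · obtain ⟨U, a, hae, has⟩ := hX.atlas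
    obtain ⟨top, sq⟩ := exists_isPullback_openSub X W hW a
    exact ⟨_, top, (RepWith @Etale).of_isPullback sq.flip hae,
      (RepWith @Surjective).of_isPullback sq.flip has⟩

end Groth.Agent.Lib.Helper36.OpenSubspace
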