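import Groth.Agent.Lib.Helper36.OpenSubLift
import Groth.Agent.Lib.Helper46.OpenImmFpqc
import Groth.Agent.Lib.Helper5.LargestOpenSp

universe u
open CategoryTheory CategoryTheory.Limits AlgebraicGeometry Opposite

namespace Groth.Agent.Lib.Helper36.OpenSubspace

open AlgSp Groth.Agent.Lib.Helper37.AlgSpPoints Groth.Agent.Lib.Helper5.LargestOpenSp

variable {S : Scheme.{u}}

/-- An open immersion of sheaves is isomorphic, over its target, to the open subspace on its range. -/
theorem exists_iso_openSub {U X : Sp S} (u : U ⟶ X) (hu : RepWith @IsOpenImmersion u) :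
    ∃ e : U ≅ openSub X (Set.range (Points.map u)),
      e.hom ≫ openSubι X (Set.range (Points.map u)) = u := by
  obtain ⟨k, hk⟩ := exists_lift_openSub_of_range u (Set.range (Points.map u)) subset_rfl
  have sq : IsPullback (𝟙 U) k u (openSubι X _) := isPullback_of_factor (openSubι X _) u k hk
  have hk' : RepWith @IsOpenImmersion k := (RepWith @IsOpenImmersion).of_isPullback sq hu
  have hs : IsSurjectiveMor k := by
    intro y
    have h1 : Points.map (openSubι X (Set.range (Points.map u))) y ∈ Set.range (Points.map u) := by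
      have h2 := range_map_openSubι X (Set.range (Points.map u))
      exact h2.subset ⟨y, rfl⟩
    obtain ⟨x, hx⟩ := h1
    refine ⟨x, injective_map_of_mono (openSubι X _) ?_⟩
    rw [← Points.map_comp, hk, hx]
  have := Groth.Agent.Lib.Helper46.OpenImmFpqc.isIso_of_isOpenImmersion_of_surjective k hk' hs
  exact ⟨asIso k, hk⟩

/-- A morphism whose points land in the range of an open immersion factors through it. -/
theorem exists_lift_of_openImm {U X T : Sp S} (u : U ⟶ X) (hu : RepWith @IsOpenImmersion u)
    (a : T ⟶ X) (ha : Set.range (Points.map a) ⊆ Set.range (Points.map u)) :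
    ∃ l : T ⟶ U, l ≫ u = a := by
  obtain ⟨e, he⟩ := exists_iso_openSub u hu
  obtain ⟨k, hk⟩ := exists_lift_openSub_of_range a _ ha
  refine ⟨k ≫ e.inv, ?_⟩
  calc (k ≫ e.inv) ≫ u = (k ≫ e.inv) ≫ e.hom ≫ openSubι X (Set.range (Points.map u)) := by
        rw [he]
    _ = a := by rw [Category.assoc, e.inv_hom_id_assoc, hk]

/-- Two open immersions with the same range on points are isomorphic over the target. -/
theorem exists_iso_of_range_eq {U₁ U₂ X : Sp S} (u₁ : U₁ ⟶ X) (u₂ : U₂ ⟶ X)
    (h₁ : RepWith @IsOpenImmersion u₁) (h₂ : RepWith @IsOpenImmersion u₂)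
    (h : Set.range (Points.map u₁) = Set.range (Points.map u₂)) :
    ∃ e : U₁ ≅ U₂, e.hom ≫ u₂ = u₁ := by
  have m₁ := mono_of_openImm u₁ h₁
  have m₂ := mono_of_openImm u₂ h₂
  obtain ⟨a, ha⟩ := exists_lift_of_openImm u₂ h₂ u₁ h.le
  obtain ⟨b, hb⟩ := exists_lift_of_openImm u₁ h₁ u₂ h.ge
  refine ⟨⟨a, b, ?_, ?_⟩, ha⟩
  · rw [← cancel_mono u₁, Category.assoc, hb, ha, Category.id_comp]
  · rw [← cancel_mono u₂, Category.assoc, ha, hb, Category.id_comp]

/-- A commutative square over an open immersion `u` with `u'` mono is a pullback as soon as it is so on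
points. -/
theorem isPullback_of_openImm {U X X' U' : Sp S} {u : U ⟶ X} {k : U ⟶ U'} {i : X ⟶ X'}
    {u' : U' ⟶ X'} (hu : RepWith @IsOpenImmersion u) [Mono u'] (w : u ≫ i = k ≫ u')
    (h : ∀ x : Points X, Points.map i x ∈ Set.range (Points.map u') →
      x ∈ Set.range (Points.map u)) : IsPullback u k i u' := by
  have mu := mono_of_openImm u hu
  have key : ∀ s : PullbackCone i u', ∃ l : s.pt ⟶ U, l ≫ u = s.fst := by
    intro s
    apply exists_lift_of_openImm u hu
    rintro _ ⟨t, rfl⟩
    apply h
    refine ⟨Points.map s.snd t, ?_⟩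
    rw [← Points.map_comp, ← Points.map_comp, s.condition]
  refine IsPullback.of_isLimit' ⟨w⟩ (PullbackCone.IsLimit.mk _ (fun s => (key s).choose)
    (fun s => (key s).choose_spec) (fun s => ?_) (fun s m hm _ => ?_))
  · rw [← cancel_mono u', Category.assoc, ← w, ← Category.assoc, (key s).choose_spec, s.condition]
  · rw [← cancel_mono u, hm, (key s).choose_spec]

end Groth.Agent.Lib.Helper36.OpenSubspace
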