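import Mathlib.AlgebraicGeometry.Morphisms.QuasiFinite
import Mathlib.AlgebraicGeometry.Noetherian
import Mathlib.AlgebraicGeometry.Fiber
import Groth.Prelude.Def_Flat
import Groth.Agent.Lib.Helper84.TopDim

/-!
# Fibre dimension zero and local quasi-finiteness (helper36)
-/

universe u

open CategoryTheory CategoryTheory.Limits AlgebraicGeometry TopologicalSpace

namespace Groth.Agent.Lib.Helper36.FibreDimZero

open Groth.Agent.Lib.Helper84

/-- If `{x}` is open then the local dimension at `x` is zero. -/
theorem localDim_eq_zero_of_isOpen_singleton {X : Type*} [TopologicalSpace X] (x : X)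
    (hx : IsOpen ({x} : Set X)) : FlatMor.localDim X x = 0 := by
  unfold FlatMor.localDim
  apply le_antisymm
  · refine (iInf_le _ ⟨⟨{x}, hx⟩, rfl⟩).trans ?_
    have : Subsingleton ↥(({x} : Set X)) := Set.subsingleton_singleton.coe_sort
    exact topologicalKrullDim_zero_of_discreteTopology _
  · refine le_iInf fun W => ?_
    have : Nonempty ↥((W.1 : Opens X) : Set X) := ⟨⟨x, W.2⟩⟩
    exact dim_nonneg_of_nonempty

theorem one_le_of_pos (d : WithBot ℕ∞) (h : 0 < d) : 1 ≤ d := by
  induction d with
  | bot => exact absurd h (by simp)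
  | coe n =>
    have h' : (0 : ℕ∞) < n := by exact_mod_cast h
    have : (1 : ℕ∞) ≤ n := Order.one_le_iff_pos.2 h'
    exact_mod_cast this

/-- In a locally Noetherian scheme a point of local dimension zero is open. -/
theorem isOpen_singleton_of_localDim_eq_zero {X : Scheme.{u}} [IsLocallyNoetherian X] (x : ↥X)
    (h : FlatMor.localDim ↥X x = 0) : IsOpen ({x} : Set ↥X) := by
  obtain ⟨W, hW⟩ : ∃ W : {U : Opens ↥X // x ∈ U},
      topologicalKrullDim ↥((W.1 : Opens ↥X) : Set ↥X) ≤ 0 := by
    by_contra hcon
    push Not at hcon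
    have h1 : (1 : WithBot ℕ∞) ≤ FlatMor.localDim ↥X x :=
      le_iInf fun W => one_le_of_pos _ (hcon W)
    rw [h] at h1
    exact absurd h1 (by decide)
  obtain ⟨_, ⟨W', hW', rfl⟩, hxW', hW'W⟩ :=
    X.isBasis_affineOpens.exists_subset_of_mem_open W.2 W.1.2
  have hdim : topologicalKrullDim ↥((W' : Opens ↥X) : Set ↥X) ≤ 0 := by
    refine le_trans ?_ hW
    have hind : Topology.IsInducing (Set.inclusion hW'W) :=
      (Topology.IsEmbedding.inclusion hW'W).isInducing
    exact hind.topologicalKrullDim_le
  have : IsNoetherianRing Γ(X, W') := IsLocallyNoetherian.component_noetherian ⟨W', hW'⟩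
  have : NoetherianSpace ↥W' := noetherianSpace_of_isAffineOpen W' hW'
  obtain ⟨_, hdisc⟩ := finite_discrete_of_dim_le_zero hdim
  have h1 : IsOpen ({⟨x, hxW'⟩} : Set ↥W') := isOpen_discrete _
  have h2 := W'.2.isOpenEmbedding_subtypeVal.isOpenMap _ h1
  simpa using h2

/-- For a morphism locally of finite type, the fibres are locally Noetherian. -/
instance isLocallyNoetherian_fiber {U V : Scheme.{u}} (h : U ⟶ V) [LocallyOfFiniteType h] (v : ↥V) :
    IsLocallyNoetherian (h.fiber v) := by
  have : LocallyOfFiniteType (h.fiberToSpecResidueField v) :=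
    MorphismProperty.pullback_snd _ _ ‹_›
  exact LocallyOfFiniteType.isLocallyNoetherian (h.fiberToSpecResidueField v)

/-- A morphism locally of finite type is locally quasi-finite iff all its fibres have local
dimension zero at all points. -/
theorem locallyQuasiFinite_iff_fibreDimAt_eq_zero {U V : Scheme.{u}} (h : U ⟶ V)
    [LocallyOfFiniteType h] :
    LocallyQuasiFinite h ↔ ∀ u : ↥U, FlatMor.fibreDimAt h u = 0 := by
  constructor
  · intro _ u
    have := (h.quasiFiniteAt u)
    exact localDim_eq_zero_of_isOpen_singleton _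
      (Scheme.Hom.quasiFiniteAt_iff_isOpen_singleton_asFiber.1 this)
  · intro H
    rw [locallyQuasiFinite_iff_isDiscrete_preimage_singleton]
    intro v
    have hd : DiscreteTopology ↥(h.fiber v) := by
      rw [discreteTopology_iff_isOpen_singleton]
      intro x
      obtain ⟨u, hu⟩ : ∃ u, h.fiberι v x = u := ⟨_, rfl⟩
      have hv : h u = v := by
        have := (h.fiberHomeo v x).2
        rw [← hu]
        simpa [Scheme.Hom.fiberHomeo_apply] using this
      subst hv
      have hx : x = h.asFiber u := by
        apply (h.fiberι _).isEmbedding.injective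
        rw [Scheme.Hom.fiberι_asFiber, hu]
      rw [hx]
      exact isOpen_singleton_of_localDim_eq_zero _ (H _)
    exact ⟨(h.fiberHomeo v).symm.isEmbedding.discreteTopology⟩

end Groth.Agent.Lib.Helper36.FibreDimZero
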