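import Mathlib.AlgebraicGeometry.Morphisms.Etale
import Mathlib.AlgebraicGeometry.Morphisms.Flat
import Mathlib.RingTheory.Unramified.LocalStructure
import Mathlib.RingTheory.Ideal.GoingDown
import Mathlib.RingTheory.Ideal.Height
import Mathlib.RingTheory.QuasiFinite.Basic
import Mathlib.AlgebraicGeometry.Morphisms.FormallyUnramified
import Mathlib.AlgebraicGeometry.Morphisms.UniversallyOpen
import Groth.Prelude.Def_Flat
import Groth.Agent.Lib.Helper19.KrullDimLift
import Groth.Agent.Lib.Helper37.EtaleFibres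
universe u
open CategoryTheory CategoryTheory.Limits AlgebraicGeometry
namespace Groth.Agent.Lib.Helper36.EtaleLocalDim

/-- A flat local homomorphism does not decrease Krull dimension. -/
theorem ringKrullDim_le_of_flat_of_isLocalHom (A B : Type*) [CommRing A] [CommRing B] [Algebra A B]
    [IsLocalRing A] [IsLocalRing B] [IsLocalHom (algebraMap A B)] [Module.Flat A B] :
    ringKrullDim A ≤ ringKrullDim B := by
  refine iSup_le fun l => ?_
  have hlo : (IsLocalRing.maximalIdeal B).LiesOver (IsLocalRing.maximalIdeal A) := inferInstance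
  have hle : l.last.asIdeal ≤ IsLocalRing.maximalIdeal A := IsLocalRing.le_maximalIdeal l.last.2.ne_top
  obtain ⟨P, -, hP, hPo⟩ := Ideal.exists_ideal_le_liesOver_of_le (S := B)
    (p := l.last.asIdeal) (q := IsLocalRing.maximalIdeal A) (IsLocalRing.maximalIdeal B) hle
  obtain ⟨L, hL, -, -⟩ := Ideal.exists_ltSeries_of_hasGoingDown l P
  rw [← hL]
  exact Order.LTSeries.length_le_krullDim L

/-- A quasi-finite algebra does not increase Krull dimension. -/
theorem ringKrullDim_le_of_quasiFinite (A B : Type*) [CommRing A] [CommRing B] [Algebra A B]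
    [Algebra.QuasiFinite A B] : ringKrullDim B ≤ ringKrullDim A := by
  refine Order.krullDim_le_of_strictMono (PrimeSpectrum.comap (algebraMap A B)) ?_
  intro P Q hPQ
  refine lt_of_le_of_ne (Ideal.comap_mono (f := algebraMap A B) hPQ.le) ?_
  intro h
  apply hPQ.ne
  ext1
  exact Algebra.QuasiFinite.eq_of_le_of_under_eq (R := A) P.asIdeal Q.asIdeal hPQ.le
    (congrArg PrimeSpectrum.asIdeal h)

/-- **Lemma D**: the Krull dimension of the local ring is invariant under étale morphisms. -/
theorem ringKrullDim_stalk_eq_of_etale {R U : Scheme.{u}} (g : R ⟶ U) [Etale g] (r : ↥R) :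
    ringKrullDim ↥(R.presheaf.stalk r) = ringKrullDim ↥(U.presheaf.stalk (g r)) := by
  algebraize [(g.stalkMap r).hom]
  have : IsLocalHom (algebraMap (U.presheaf.stalk (g r)) (R.presheaf.stalk r)) :=
    inferInstanceAs <| IsLocalHom (g.stalkMap r).hom
  have : Algebra.EssFiniteType (U.presheaf.stalk (g r)) (R.presheaf.stalk r) := by
    rw [← RingHom.essFiniteType_algebraMap, RingHom.algebraMap_toAlgebra]
    exact LocallyOfFiniteType.stalkMap g r
  have : Algebra.FormallyUnramified (U.presheaf.stalk (g r)) (R.presheaf.stalk r) := by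
    rw [← RingHom.formallyUnramified_algebraMap, RingHom.algebraMap_toAlgebra]
    exact FormallyUnramified.stalkMap g r
  have : Module.Flat (U.presheaf.stalk (g r)) (R.presheaf.stalk r) := Flat.stalkMap g r
  exact le_antisymm (ringKrullDim_le_of_quasiFinite _ _) (ringKrullDim_le_of_flat_of_isLocalHom _ _)

open Groth.Agent.Lib.Helper19 Groth.Agent.Lib.Helper37.EtaleFibres

attribute [local instance] specializationOrder in
lemma topologicalKrullDim_le_of_generalizingMap {X Y : Type*} [TopologicalSpace X] [QuasiSober X]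
    [T0Space X] [TopologicalSpace Y] [QuasiSober Y] [T0Space Y] (f : X → Y)
    (hsurj : Function.Surjective f) (hf : GeneralizingMap f) :
    topologicalKrullDim Y ≤ topologicalKrullDim X := by
  rw [topologicalKrullDim_eq_krullDim_points, topologicalKrullDim_eq_krullDim_points]
  refine krullDim_le_of_lifting f hsurj ?_
  intro a b hab
  obtain ⟨a', ha', hfa'⟩ := hf (hab.le : b ⤳ f a)
  refine ⟨a', lt_of_le_of_ne ha' ?_, hfa'⟩
  rintro rfl
  exact hab.ne hfa'

/-- **Lemma E**: the local dimension is invariant under étale morphisms. -/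
theorem localDim_eq_of_etale {R U : Scheme.{u}} (g : R ⟶ U) [Etale g] (r : ↥R) :
    FlatMor.localDim ↥R r = FlatMor.localDim ↥U (g r) := by
  apply le_antisymm
  · refine le_iInf fun W => ?_
    let W' : {W' : TopologicalSpace.Opens ↥R // r ∈ W'} := ⟨g ⁻¹ᵁ W.1, W.2⟩
    refine (iInf_le _ W').trans ?_
    have : QuasiSober ↥((W'.1 : TopologicalSpace.Opens ↥R) : Set ↥R) :=
      W'.1.isOpen.isOpenEmbedding_subtypeVal.quasiSober
    have : QuasiSober ↥((W.1 : TopologicalSpace.Opens ↥U) : Set ↥U) :=
      W.1.isOpen.isOpenEmbedding_subtypeVal.quasiSober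
    refine topologicalKrullDim_le_of_strict
      (fun x : ↥((W'.1 : TopologicalSpace.Opens ↥R) : Set ↥R) => (⟨g x.1, x.2⟩ : ↥((W.1 : TopologicalSpace.Opens ↥U) : Set ↥U)))
      (by fun_prop) ?_
    intro x x' hxx' he
    have h1 : x.1 ⤳ x'.1 := hxx'.map continuous_subtype_val
    have h2 : g x.1 = g x'.1 := congrArg Subtype.val he
    exact Subtype.ext (eq_of_specializes_of_etale g h1 h2)
  · refine le_iInf fun W' => ?_
    have hopen : IsOpen (g '' (W'.1 : Set ↥R)) := g.isOpenMap _ W'.1.isOpen
    let W : {W : TopologicalSpace.Opens ↥U // g r ∈ W} := ⟨⟨g '' (W'.1 : Set ↥R), hopen⟩, ⟨r, W'.2, rfl⟩⟩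
    refine (iInf_le _ W).trans ?_
    have : QuasiSober ↥((W'.1 : TopologicalSpace.Opens ↥R) : Set ↥R) :=
      W'.1.isOpen.isOpenEmbedding_subtypeVal.quasiSober
    have : QuasiSober ↥((W.1 : TopologicalSpace.Opens ↥U) : Set ↥U) :=
      W.1.isOpen.isOpenEmbedding_subtypeVal.quasiSober
    refine topologicalKrullDim_le_of_generalizingMap
      (fun x : ↥((W'.1 : TopologicalSpace.Opens ↥R) : Set ↥R) => (⟨g x.1, ⟨x.1, x.2, rfl⟩⟩ : ↥((W.1 : TopologicalSpace.Opens ↥U) : Set ↥U))) ?_ ?_
    · rintro ⟨y, x, hx, rfl⟩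
      exact ⟨⟨x, hx⟩, rfl⟩
    · intro x y hyx
      have h1 : y.1 ⤳ g x.1 := hyx.map (f := Subtype.val) continuous_subtype_val
      obtain ⟨x', hx', hgx'⟩ := exists_specializes_lift_of_etale g h1
      have hx'W : x' ∈ (W'.1 : Set ↥R) := hx'.mem_open W'.1.isOpen x.2
      refine ⟨⟨x', hx'W⟩, Topology.IsInducing.subtypeVal.specializes_iff.1 hx', Subtype.ext hgx'⟩

end Groth.Agent.Lib.Helper36.EtaleLocalDim
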