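import Mathlib.AlgebraicGeometry.Morphisms.Etale
import Mathlib.AlgebraicGeometry.Morphisms.FormallyUnramified
import Mathlib.AlgebraicGeometry.Fiber
import Mathlib.RingTheory.Unramified.LocalRing
import Mathlib.RingTheory.Etale.Field
import Groth.Agent.Lib.Helper36.EtaleLocalDim

/-!
# Étale maps between fibres (helper36)

For a commutative square with étale vertical maps `a : U' ⟶ U`, `b : V' ⟶ V` over
`h' : U' ⟶ V'` and `h : U ⟶ V`, the induced map on fibres `h'⁻¹(v') ⟶ h⁻¹(b v')` is étale.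
Consequently local dimensions of fibres agree (`fibreDimAt` is étale-local on source and target).
-/

universe u

open CategoryTheory CategoryTheory.Limits AlgebraicGeometry

namespace Groth.Agent.Lib.Helper36.FibreEtale

set_option backward.isDefEq.respectTransparency false in
/-- `pullback.map` of three étale maps is étale. -/
theorem etale_pullback_map {X' Y' Z' X Y Z : Scheme.{u}} (f' : X' ⟶ Z') (g' : Y' ⟶ Z')
    (f : X ⟶ Z) (g : Y ⟶ Z) (i₁ : X' ⟶ X) (i₂ : Y' ⟶ Y) (i₃ : Z' ⟶ Z) [Etale i₁] [Etale i₂]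
    [Etale i₃] (e₁ : f' ≫ i₃ = i₁ ≫ f) (e₂ : g' ≫ i₃ = i₂ ≫ g) :
    Etale (pullback.map f' g' f g i₁ i₂ i₃ e₁ e₂) := by
  have h1 : Etale (pullback.map f' g' (f' ≫ i₃) (g' ≫ i₃) (𝟙 _) (𝟙 _) i₃
      (Category.id_comp _).symm (Category.id_comp _).symm) := by
    have sq := pullback_map_diagonal_isPullback f' g' i₃
    have h0 : IsOpenImmersion (pullback.diagonal i₃) := inferInstance
    have : IsOpenImmersion (pullback.map f' g' (f' ≫ i₃) (g' ≫ i₃) (𝟙 _) (𝟙 _) i₃
      (Category.id_comp _).symm (Category.id_comp _).symm) :=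
      MorphismProperty.of_isPullback (P := @IsOpenImmersion) sq h0
    infer_instance
  have h2 : Etale (pullback.map (f' ≫ i₃) (g' ≫ i₃) f g i₁ i₂ (𝟙 _)
      ((Category.comp_id _).trans e₁) ((Category.comp_id _).trans e₂)) :=
    MorphismProperty.pullbackMap (P := @Etale) ‹Etale i₁› ‹Etale i₂› e₁ e₂
  have : pullback.map f' g' f g i₁ i₂ i₃ e₁ e₂ =
      pullback.map f' g' (f' ≫ i₃) (g' ≫ i₃) (𝟙 _) (𝟙 _) i₃
        (Category.id_comp _).symm (Category.id_comp _).symm ≫
      pullback.map (f' ≫ i₃) (g' ≫ i₃) f g i₁ i₂ (𝟙 _)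
        ((Category.comp_id _).trans e₁) ((Category.comp_id _).trans e₂) := by
    ext <;> simp
  rw [this]
  infer_instance

/-- The residue field extension of an étale morphism is étale. -/
theorem etale_SpecMap_residueFieldMap {V' V : Scheme.{u}} (b : V' ⟶ V) [Etale b] (v' : ↥V') :
    Etale (Spec.map (b.residueFieldMap v')) := by
  rw [HasRingHomProperty.Spec_iff (P := @Etale)]
  algebraize [(b.stalkMap v').hom]
  have : IsLocalHom (algebraMap (V.presheaf.stalk (b v')) (V'.presheaf.stalk v')) :=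
    inferInstanceAs <| IsLocalHom (b.stalkMap v').hom
  have : Algebra.EssFiniteType (V.presheaf.stalk (b v')) (V'.presheaf.stalk v') := by
    rw [← RingHom.essFiniteType_algebraMap, RingHom.algebraMap_toAlgebra]
    exact LocallyOfFiniteType.stalkMap b v'
  have : Algebra.FormallyUnramified (V.presheaf.stalk (b v')) (V'.presheaf.stalk v') := by
    rw [← RingHom.formallyUnramified_algebraMap, RingHom.algebraMap_toAlgebra]
    exact FormallyUnramified.stalkMap b v'
  have h1 : Algebra.FormallyEtale (IsLocalRing.ResidueField (V.presheaf.stalk (b v')))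
      (IsLocalRing.ResidueField (V'.presheaf.stalk v')) := Algebra.FormallyEtale.of_isSeparable _ _
  have h2 : Algebra.FinitePresentation (IsLocalRing.ResidueField (V.presheaf.stalk (b v')))
      (IsLocalRing.ResidueField (V'.presheaf.stalk v')) :=
    Algebra.FinitePresentation.of_finiteType.mp inferInstance
  have h3 : Algebra.Etale (IsLocalRing.ResidueField (V.presheaf.stalk (b v')))
      (IsLocalRing.ResidueField (V'.presheaf.stalk v')) := ⟨h1, h2⟩
  exact RingHom.etale_algebraMap.mpr h3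

set_option backward.isDefEq.respectTransparency false in
/-- The induced morphism on fibres for a commutative square with étale vertical maps. -/
theorem exists_etale_fiber_map {U U' V V' : Scheme.{u}} (h : U ⟶ V) (h' : U' ⟶ V') (a : U' ⟶ U)
    (b : V' ⟶ V) [Etale a] [Etale b] (comm : h' ≫ b = a ≫ h) (v' : ↥V') (v : ↥V) (hv : b v' = v) :
    ∃ φ : h'.fiber v' ⟶ h.fiber v, Etale φ ∧ φ ≫ h.fiberι v = h'.fiberι v' ≫ a := by
  subst hv
  have := etale_SpecMap_residueFieldMap b v'
  refine ⟨pullback.map h' (V'.fromSpecResidueField v') h (V.fromSpecResidueField (b v')) a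
    (Spec.map (b.residueFieldMap v')) b comm
    (Scheme.Hom.SpecMap_residueFieldMap_fromSpecResidueField b v').symm, ?_, ?_⟩
  · exact etale_pullback_map _ _ _ _ _ _ _ _ _
  · simp [Scheme.Hom.fiberι]

/-- The local dimension of fibres is étale-local on source and target. -/
theorem localDim_fiber_eq {U U' V V' : Scheme.{u}} (h : U ⟶ V) (h' : U' ⟶ V') (a : U' ⟶ U)
    (b : V' ⟶ V) [Etale a] [Etale b] (comm : h' ≫ b = a ≫ h) (v' : ↥V') (v : ↥V) (hv : b v' = v)
    (x' : ↥(h'.fiber v')) (x : ↥(h.fiber v)) (hx : a (h'.fiberι v' x') = h.fiberι v x) :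
    FlatMor.localDim ↥(h'.fiber v') x' = FlatMor.localDim ↥(h.fiber v) x := by
  obtain ⟨φ, hφ, hφι⟩ := exists_etale_fiber_map h h' a b comm v' v hv
  have hpt : φ x' = x := by
    apply (h.fiberι v).isEmbedding.injective
    rw [← hx, ← Scheme.Hom.comp_apply, hφι, Scheme.Hom.comp_apply]
  rw [EtaleLocalDim.localDim_eq_of_etale φ x', hpt]

/-- The Krull dimension of the local ring of a fibre is étale-local on source and target. -/
theorem ringKrullDim_stalk_fiber_eq {U U' V V' : Scheme.{u}} (h : U ⟶ V) (h' : U' ⟶ V')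
    (a : U' ⟶ U) (b : V' ⟶ V) [Etale a] [Etale b] (comm : h' ≫ b = a ≫ h) (v' : ↥V') (v : ↥V)
    (hv : b v' = v) (x' : ↥(h'.fiber v')) (x : ↥(h.fiber v))
    (hx : a (h'.fiberι v' x') = h.fiberι v x) :
    ringKrullDim ↥((h'.fiber v').presheaf.stalk x') = ringKrullDim ↥((h.fiber v).presheaf.stalk x) := by
  obtain ⟨φ, hφ, hφι⟩ := exists_etale_fiber_map h h' a b comm v' v hv
  have hpt : φ x' = x := by
    apply (h.fiberι v).isEmbedding.injective
    rw [← hx, ← Scheme.Hom.comp_apply, hφι, Scheme.Hom.comp_apply]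
  rw [EtaleLocalDim.ringKrullDim_stalk_eq_of_etale φ x', hpt]

/-- `FlatMor.fibreDimAt` is étale-local on source and target. -/
theorem fibreDimAt_eq {U U' V V' : Scheme.{u}} (h : U ⟶ V) (h' : U' ⟶ V') (a : U' ⟶ U)
    (b : V' ⟶ V) [Etale a] [Etale b] (comm : h' ≫ b = a ≫ h) (u' : ↥U') :
    FlatMor.fibreDimAt h (a u') = FlatMor.fibreDimAt h' u' := by
  have hv : b (h' u') = h (a u') := by
    rw [← Scheme.Hom.comp_apply, comm, Scheme.Hom.comp_apply]
  exact (localDim_fiber_eq h h' a b comm (h' u') (h (a u')) hv (h'.asFiber u') (h.asFiber (a u'))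
    (by rw [Scheme.Hom.fiberι_asFiber, Scheme.Hom.fiberι_asFiber])).symm

end Groth.Agent.Lib.Helper36.FibreEtale
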