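import Groth.Agent.Lib.Helper36.AlgSpCharts
import Groth.Agent.Lib.Helper36.EtaleLocalDim
import Groth.Agent.Lib.Helper37.AlgSpPoints

/-!
# Chart independence of `AlgSp.HasAt` for étale-local properties of germs (helper36)
-/

universe u

open CategoryTheory CategoryTheory.Limits AlgebraicGeometry Opposite

namespace Groth.Agent.Lib.Helper36.AlgSpHasAt

open AlgSp Groth.Agent.Lib.Helper36.AlgSpCharts Groth.Agent.Lib.Helper37.AlgSpPoints

variable {S : Scheme.{u}}

/-- A property of pointed schemes is étale local if it is invariant under étale morphisms. -/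
def IsEtaleLocalGerm (Q : ∀ U : Scheme.{u}, ↥U → Prop) : Prop :=
  ∀ ⦃R U : Scheme.{u}⦄ (g : R ⟶ U) [Etale g] (r : ↥R), Q R r ↔ Q U (g r)

/-- If two étale charts hit the same point, an étale-local property of germs holds for one iff it
holds for the other. -/
theorem germ_iff_of_ofPt_eq {Q : ∀ U : Scheme.{u}, ↥U → Prop} (hQ : IsEtaleLocalGerm Q) {F : Sp S}
    {U V : Over S} (a : (yon S).obj U ⟶ F) (b : (yon S).obj V ⟶ F) (ha : RepWith @Etale a)
    (hb : RepWith @Etale b) (u : ↥U.left) (v : ↥V.left) (h : Points.ofPt a u = Points.ofPt b v) :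
    Q U.left u ↔ Q V.left v := by
  obtain ⟨W, p1, p2, sq⟩ := exists_isPullback_yon a b hb.rep
  have h1 : Etale p1.left := prop_fst_of_isPullback sq hb
  have h2 : Etale p2.left := prop_snd_of_isPullback sq ha
  obtain ⟨r, rfl, rfl⟩ := (ofPt_eq_ofPt_iff sq u v).1 h
  exact (hQ p1.left r).symm.trans (hQ p2.left r)

/-- For an étale-local property of germs, `HasAt` holds iff the property holds on every chart through
the point (for a sheaf admitting an atlas). -/
theorem hasAt_iff_forall_chart {Q : ∀ U : Scheme.{u}, ↥U → Prop} (hQ : IsEtaleLocalGerm Q)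
    {F : Sp S} (hF : ∃ (U : Over S) (p : (yon S).obj U ⟶ F), RepWith @Etale p ∧ RepWith @Surjective p)
    (x : Points F) :
    HasAt Q F x ↔ ∀ (U : Over S) (a : (yon S).obj U ⟶ F) (u : ↥U.left),
      RepWith @Etale a → Points.ofPt a u = x → Q U.left u := by
  constructor
  · rintro ⟨U0, a0, u0, ha0, hu0, hq⟩ U a u ha hu
    exact (germ_iff_of_ofPt_eq hQ a0 a ha0 ha u0 u (hu0.trans hu.symm)).1 hq
  · intro h
    obtain ⟨U, p, hpe, hps⟩ := hF
    obtain ⟨u, hu⟩ := ofPt_surjective p hps x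
    exact ⟨U, p, u, hpe, hu, h U p u hpe hu⟩

/-- `HasAt` for an étale-local property is compatible with étale morphisms. -/
theorem hasAt_map_iff_of_isEtaleMor {Q : ∀ U : Scheme.{u}, ↥U → Prop} (hQ : IsEtaleLocalGerm Q)
    {X Y : Sp S}
    (hX : ∃ (U : Over S) (p : (yon S).obj U ⟶ X), RepWith @Etale p ∧ RepWith @Surjective p)
    (f : X ⟶ Y) (hf : IsEtaleMor f) (x : Points X) :
    HasAt Q X x ↔ HasAt Q Y (Points.map f x) := by
  constructor
  · rintro ⟨U, a, u, ha, hu, hq⟩
    exact ⟨U, a ≫ f, u, hf a ha, by rw [← Points.map_ofPt, hu], hq⟩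
  · rintro ⟨V, b, v, hb, hv, hq⟩
    obtain ⟨U, p, hpe, hps⟩ := hX
    obtain ⟨u, hu⟩ := ofPt_surjective p hps x
    refine ⟨U, p, u, hpe, hu, ?_⟩
    have : Points.ofPt (p ≫ f) u = Points.ofPt b v := by
      rw [← Points.map_ofPt, hu, hv]
    exact (germ_iff_of_ofPt_eq hQ (p ≫ f) b (hf p hpe) hb u v this).2 hq

theorem isEtaleLocalGerm_ringKrullDim (d : WithBot ℕ∞) :
    IsEtaleLocalGerm (fun U u => ringKrullDim ↥(U.presheaf.stalk u) = d) := by
  intro R U g _ r
  show ringKrullDim ↥(R.presheaf.stalk r) = d ↔ ringKrullDim ↥(U.presheaf.stalk (g r)) = d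
  rw [EtaleLocalDim.ringKrullDim_stalk_eq_of_etale g r]

theorem isEtaleLocalGerm_localDim (d : WithBot ℕ∞) :
    IsEtaleLocalGerm (fun U u => FlatMor.localDim ↥U u = d) := by
  intro R U g _ r
  show FlatMor.localDim ↥R r = d ↔ FlatMor.localDim ↥U (g r) = d
  rw [EtaleLocalDim.localDim_eq_of_etale g r]

end Groth.Agent.Lib.Helper36.AlgSpHasAt
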