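import Groth.Agent.Lib.Helper36.AlgSpChartDiag
import Groth.Agent.Lib.Helper36.FibreEtale
import Groth.Prelude.Def_AlgSpDec

/-!
# Chart independence of `AlgSp.HasAtMor` for étale-local properties of germs of morphisms (helper36)
-/

universe u

open CategoryTheory CategoryTheory.Limits AlgebraicGeometry Opposite

namespace Groth.Agent.Lib.Helper36.AlgSpHasAtMor

open AlgSp Groth.Agent.Lib.Helper36.AlgSpCharts Groth.Agent.Lib.Helper37.AlgSpPoints
  Groth.Agent.Lib.Helper36.AlgSpChartDiag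

variable {S : Scheme.{u}}

/-- A property of pointed morphisms of schemes is étale local on source and target. -/
def IsEtaleLocalGermMor (Q : ∀ (U V : Scheme.{u}), (U ⟶ V) → ↥U → Prop) : Prop :=
  ∀ ⦃U U' V V' : Scheme.{u}⦄ (h : U ⟶ V) (h' : U' ⟶ V') (a : U' ⟶ U) (b : V' ⟶ V) [Etale a]
    [Etale b], h' ≫ b = a ≫ h → ∀ u' : ↥U', Q U V h (a u') ↔ Q U' V' h' u'

/-- Common refinement of two chart diagrams over the same morphism through the same point. -/
theorem exists_common_refinement {F G : Sp S} (f : F ⟶ G) {U V U0 V0 : Over S}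
    (a : (yon S).obj U ⟶ F) (b : (yon S).obj V ⟶ G) (h : U ⟶ V)
    (a0 : (yon S).obj U0 ⟶ F) (b0 : (yon S).obj V0 ⟶ G) (h0 : U0 ⟶ V0)
    (ha : RepWith @Etale a) (hb : RepWith @Etale b) (ha0 : RepWith @Etale a0)
    (hb0 : RepWith @Etale b0) (w : a ≫ f = (yon S).map h ≫ b) (w0 : a0 ≫ f = (yon S).map h0 ≫ b0)
    (u : ↥U.left) (u0 : ↥U0.left) (hu : Points.ofPt a u = Points.ofPt a0 u0) :
    ∃ (U2 V2 : Over S) (p1 : U2 ⟶ U) (p2 : U2 ⟶ U0) (q1 : V2 ⟶ V) (q2 : V2 ⟶ V0) (h2 : U2 ⟶ V2)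
      (r : ↥U2.left), Etale p1.left ∧ Etale p2.left ∧ Etale q1.left ∧ Etale q2.left ∧
      h2 ≫ q1 = p1 ≫ h ∧ h2 ≫ q2 = p2 ≫ h0 ∧ p1.left r = u ∧ p2.left r = u0 := by
  obtain ⟨U2, p1, p2, sqU⟩ := exists_isPullback_yon a a0 ha0.rep
  obtain ⟨V2, q1, q2, sqV⟩ := exists_isPullback_yon b b0 hb0.rep
  have e1 : Etale p1.left := prop_fst_of_isPullback sqU ha0
  have e2 : Etale p2.left := prop_snd_of_isPullback sqU ha
  have e3 : Etale q1.left := prop_fst_of_isPullback sqV hb0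
  have e4 : Etale q2.left := prop_snd_of_isPullback sqV hb
  have hw : (yon S).map (p1 ≫ h) ≫ b = (yon S).map (p2 ≫ h0) ≫ b0 := by
    rw [Functor.map_comp, Functor.map_comp, Category.assoc, Category.assoc, ← w, ← w0,
      ← Category.assoc, ← Category.assoc, sqU.w]
  obtain ⟨h2, hh2⟩ := (yon S).map_surjective (sqV.lift _ _ hw)
  have c1 : h2 ≫ q1 = p1 ≫ h := (yon S).map_injective (by
    rw [Functor.map_comp, hh2, sqV.lift_fst])
  have c2 : h2 ≫ q2 = p2 ≫ h0 := (yon S).map_injective (by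
    rw [Functor.map_comp, hh2, sqV.lift_snd])
  obtain ⟨r, hr1, hr2⟩ := (ofPt_eq_ofPt_iff sqU u u0).1 hu
  exact ⟨U2, V2, p1, p2, q1, q2, h2, r, e1, e2, e3, e4, c1, c2, hr1, hr2⟩

/-- Two chart diagrams over the same morphism through the same point see the same étale-local
germ property. -/
theorem germMor_iff_of_ofPt_eq {Q : ∀ (U V : Scheme.{u}), (U ⟶ V) → ↥U → Prop}
    (hQ : IsEtaleLocalGermMor Q) {F G : Sp S} (f : F ⟶ G) {U V U0 V0 : Over S}
    (a : (yon S).obj U ⟶ F) (b : (yon S).obj V ⟶ G) (h : U ⟶ V)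
    (a0 : (yon S).obj U0 ⟶ F) (b0 : (yon S).obj V0 ⟶ G) (h0 : U0 ⟶ V0)
    (ha : RepWith @Etale a) (hb : RepWith @Etale b) (ha0 : RepWith @Etale a0)
    (hb0 : RepWith @Etale b0) (w : a ≫ f = (yon S).map h ≫ b) (w0 : a0 ≫ f = (yon S).map h0 ≫ b0)
    (u : ↥U.left) (u0 : ↥U0.left) (hu : Points.ofPt a u = Points.ofPt a0 u0) :
    Q U.left V.left h.left u ↔ Q U0.left V0.left h0.left u0 := by
  obtain ⟨U2, V2, p1, p2, q1, q2, h2, r, e1, e2, e3, e4, c1, c2, rfl, rfl⟩ :=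
    exists_common_refinement f a b h a0 b0 h0 ha hb ha0 hb0 w w0 u u0 hu
  have k1 := hQ h.left h2.left p1.left q1.left (congrArg CommaMorphism.left c1) r
  have k2 := hQ h0.left h2.left p2.left q2.left (congrArg CommaMorphism.left c2) r
  exact k1.trans k2.symm

/-- For an étale-local property of germs of morphisms, `HasAtMor` holds iff the property holds in
every chart diagram through the point. -/
theorem hasAtMor_iff_forall_chart {Q : ∀ (U V : Scheme.{u}), (U ⟶ V) → ↥U → Prop}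
    (hQ : IsEtaleLocalGermMor Q) {X Y : Space S} (f : X ⟶ Y) (x : Points X.obj) :
    HasAtMor Q f.hom x ↔ ∀ (U V : Over S) (a : (yon S).obj U ⟶ X.obj) (b : (yon S).obj V ⟶ Y.obj)
      (h : U ⟶ V) (u : ↥U.left), RepWith @Etale a → RepWith @Etale b →
      a ≫ f.hom = (yon S).map h ≫ b → Points.ofPt a u = x → Q U.left V.left h.left u := by
  constructor
  · rintro ⟨U0, V0, a0, b0, h0, u0, ha0, hb0, w0, hu0, hq⟩ U V a b h u ha hb w hu
    exact (germMor_iff_of_ofPt_eq hQ f.hom a b h a0 b0 h0 ha hb ha0 hb0 w w0 u u0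
      (hu.trans hu0.symm)).2 hq
  · intro H
    obtain ⟨W, V, a, b, h, w, hae, has, hbe, hbs, weq, hw, hv⟩ := exists_chart_diagram_at f x
    exact ⟨W, V, a, b, h, w, hae, hbe, weq, hw, H W V a b h w hae hbe weq hw⟩

/-- Any predicate of the fibre dimension is étale-local on source and target. -/
theorem isEtaleLocalGermMor_fibreDimAt (φ : WithBot ℕ∞ → Prop) :
    IsEtaleLocalGermMor (fun _ _ h u => φ (FlatMor.fibreDimAt h u)) := by
  intro U U' V V' h h' a b _ _ comm u'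
  show φ (FlatMor.fibreDimAt h (a u')) ↔ φ (FlatMor.fibreDimAt h' u')
  rw [FibreEtale.fibreDimAt_eq h h' a b comm u']

end Groth.Agent.Lib.Helper36.AlgSpHasAtMor
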