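import Groth.Agent.Lib.Helper36.ProCons
import Groth.Agent.Lib.Helper74.Spectral
import Mathlib.Topology.Spectral.Hom
import Mathlib.Topology.NoetherianSpace

set_option autoImplicit false

open Topology Set
open scoped Set.Notation

namespace Groth.Agent.Lib.Helper36

section Compl

variable {X : Type*} [TopologicalSpace X]

/-- The complement of an ind-constructible set is pro-constructible. -/
theorem isProConstructible_compl {E : Set X} (hE : ProCons.IsIndConstructible E) :
    ProCons.IsProConstructible Eᶜ := by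
  intro x
  obtain ⟨U, hUo, hxU, S, hS, hES⟩ := hE x
  refine ⟨U, hUo, hxU, compl '' S, ?_, ?_⟩
  · rintro _ ⟨T, hT, rfl⟩
    exact isLocallyConstructible_compl (hS T hT)
  · rw [preimage_compl, hES, compl_sUnion]

/-- The complement of a pro-constructible set is ind-constructible. -/
theorem isIndConstructible_compl {E : Set X} (hE : ProCons.IsProConstructible E) :
    ProCons.IsIndConstructible Eᶜ := by
  intro x
  obtain ⟨U, hUo, hxU, S, hS, hES⟩ := hE x
  refine ⟨U, hUo, hxU, compl '' S, ?_, ?_⟩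
  · rintro _ ⟨T, hT, rfl⟩
    exact isLocallyConstructible_compl (hS T hT)
  · rw [preimage_compl, hES, compl_sInter]

theorem isProConstructible_compl_iff {E : Set X} :
    ProCons.IsProConstructible Eᶜ ↔ ProCons.IsIndConstructible E :=
  ⟨fun h => by simpa using isIndConstructible_compl h, isProConstructible_compl⟩

theorem isIndConstructible_compl_iff {E : Set X} :
    ProCons.IsIndConstructible Eᶜ ↔ ProCons.IsProConstructible E :=
  ⟨fun h => by simpa using isProConstructible_compl h, isIndConstructible_compl⟩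

end Compl

section Up

variable {Z Z' : Type*} [TopologicalSpace Z] [TopologicalSpace Z']

theorem isClosed_up_iff {s : Set Z} : IsClosed (up s) ↔ IsClosed[constructibleTopology Z] s :=
  WithTopology.isClosed_iff _

theorem isOpen_up_of_isOpen [PrespectralSpace Z] {s : Set Z} (hs : IsOpen s) : IsOpen (up s) :=
  isOpen_up_iff.2 (Helper74.isOpen_cons_of_isOpen hs)

theorem isClosed_up_of_isClosed [PrespectralSpace Z] {s : Set Z} (hs : IsClosed s) :
    IsClosed (up s) :=
  isClosed_up_iff.2 (Helper74.isClosed_cons_of_isClosed hs)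

theorem isClosed_up_singleton [T0Space Z] [PrespectralSpace Z] (z : Z) : IsClosed (up {z}) := by
  rw [isClosed_up_iff]
  haveI := Helper74.t2Space_cons (X := Z)
  exact @isClosed_singleton Z (constructibleTopology Z) _ z

theorem isClosed_up_preimage {g : Z → Z'} (hg : IsSpectralMap g) {K : Set Z'}
    (hK : IsClosed (up K)) : IsClosed (up (g ⁻¹' K)) :=
  isClosed_up_iff.2 (@IsClosed.preimage Z Z' (constructibleTopology Z) (constructibleTopology Z') g
    (Helper74.continuous_cons_of_isSpectralMap hg) K (isClosed_up_iff.1 hK))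

theorem isOpen_up_preimage {g : Z → Z'} (hg : IsSpectralMap g) {K : Set Z'}
    (hK : IsOpen (up K)) : IsOpen (up (g ⁻¹' K)) :=
  isOpen_up_iff.2 (@IsOpen.preimage Z Z' (constructibleTopology Z) (constructibleTopology Z') g
    (Helper74.continuous_cons_of_isSpectralMap hg) K (isOpen_up_iff.1 hK))

theorem isClosed_up_image [SpectralSpace Z] [T0Space Z'] [PrespectralSpace Z'] {g : Z → Z'}
    (hg : IsSpectralMap g) {K : Set Z} (hK : IsClosed (up K)) : IsClosed (up (g '' K)) :=
  isClosed_up_iff.2 (Helper74.isClosedMap_cons_of_isSpectralMap hg K (isClosed_up_iff.1 hK))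

end Up

section Ambient2

variable {X : Type*} [TopologicalSpace X]

theorem IsGoodOpen.spectralSpace [T0Space X] [QuasiSober X] [PrespectralSpace X] {W : Set X}
    (hW : IsGoodOpen W) : SpectralSpace W :=
  { toT0Space := inferInstance
    toCompactSpace := hW.compactSpace
    toQuasiSober := hW.quasiSober
    toQuasiSeparatedSpace := hW.quasiSeparatedSpace
    toPrespectralSpace := hW.prespectralSpace }

theorem isGoodOpen_univ [CompactSpace X] [QuasiSeparatedSpace X] : IsGoodOpen (univ : Set X) :=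
  ⟨isOpen_univ, isCompact_univ, isQuasiSeparated_univ⟩

/-- Local criterion for ind-constructibility. -/
theorem isIndConstructible_of_forall_exists_isOpen_up {E : Set X}
    (h : ∀ x : X, ∃ W : Set X, IsGoodOpen W ∧ x ∈ W ∧ IsOpen (up (W ↓∩ E))) :
    ProCons.IsIndConstructible E := by
  intro x
  obtain ⟨W, hW, hxW, hWE⟩ := h x
  haveI := hW.quasiSeparatedSpace
  refine ⟨W, hW.isOpen, hxW, {C : Set W | IsConstructible C ∧ C ⊆ W ↓∩ E},
    fun C hC => hC.1.isLocallyConstructible, ?_⟩
  apply subset_antisymm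
  · intro w hw
    obtain ⟨C, hC, hwC, hCE⟩ := exists_isConstructible_subset_of_isOpen_up hWE hw
    exact ⟨C, ⟨hC, hCE⟩, hwC⟩
  · rintro w ⟨C, ⟨_, hCE⟩, hwC⟩
    exact hCE hwC

/-- Local criterion for pro-constructibility. -/
theorem isProConstructible_of_forall_exists_isClosed_up {E : Set X}
    (h : ∀ x : X, ∃ W : Set X, IsGoodOpen W ∧ x ∈ W ∧ IsClosed (up (W ↓∩ E))) :
    ProCons.IsProConstructible E := by
  rw [← isIndConstructible_compl_iff]
  apply isIndConstructible_of_forall_exists_isOpen_up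
  intro x
  obtain ⟨W, hW, hxW, hWE⟩ := h x
  refine ⟨W, hW, hxW, ?_⟩
  have : up (W ↓∩ Eᶜ) = (up (W ↓∩ E))ᶜ := rfl
  rw [this]
  exact hWE.isOpen_compl

theorem isClosed_up_iUnion_of_finite {Z : Type*} [TopologicalSpace Z] {ι : Sort*} [Finite ι]
    {A : ι → Set Z} (h : ∀ i, IsClosed (up (A i))) : IsClosed (up (⋃ i, A i)) := by
  rw [up_iUnion]
  exact isClosed_iUnion_of_finite h

theorem isOpen_up_iUnion {Z : Type*} [TopologicalSpace Z] {ι : Sort*}
    {A : ι → Set Z} (h : ∀ i, IsOpen (up (A i))) : IsOpen (up (⋃ i, A i)) := by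
  rw [up_iUnion]
  exact isOpen_iUnion h

/-- Topological core of "the image of a pro-constructible set under a quasi-compact morphism is
pro-constructible". -/
theorem isClosed_up_preimage_image_of_finite_cover {X Y : Type*} [TopologicalSpace X]
    [TopologicalSpace Y] [T0Space X] [QuasiSober X] [PrespectralSpace X] [T0Space Y]
    [PrespectralSpace Y] (f : X → Y) {U : Set Y} (hU : IsGoodOpen U) (s : Set (Set X))
    (hs : s.Finite) (hgood : ∀ W ∈ s, IsGoodOpen W) (hcover : f ⁻¹' U = ⋃₀ s)
    (hspec : ∀ W ∈ s, ∀ hWU : MapsTo f W U, IsSpectralMap (hWU.restrict f W U))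
    {E' : Set X} (hE' : ProCons.IsProConstructible E') : IsClosed (up (U ↓∩ f '' E')) := by
  have hmaps : ∀ W ∈ s, MapsTo f W U := by
    intro W hW x hx
    have : x ∈ f ⁻¹' U := by
      rw [hcover]
      exact ⟨W, hW, hx⟩
    exact this
  have hEq : (U ↓∩ f '' E') =
      ⋃ W : s, ((hmaps W.1 W.2).restrict f W.1 U) '' ((W.1 : Set X) ↓∩ E') := by
    ext y
    constructor
    · rintro ⟨x', hx'E, hx'y⟩
      have hx'U : x' ∈ f ⁻¹' U := by
        show f x' ∈ U
        rw [hx'y]
        exact y.2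
      rw [hcover] at hx'U
      obtain ⟨W, hW, hx'W⟩ := hx'U
      refine mem_iUnion.2 ⟨⟨W, hW⟩, ⟨x', hx'W⟩, hx'E, ?_⟩
      exact Subtype.ext hx'y
    · intro hy
      obtain ⟨W, w, hwE, hwy⟩ := mem_iUnion.1 hy
      refine ⟨w.1, hwE, ?_⟩
      rw [← hwy]
      rfl
  rw [hEq]
  haveI : Finite s := hs.to_subtype
  refine isClosed_up_iUnion_of_finite fun W => ?_
  haveI := (hgood W.1 W.2).spectralSpace
  haveI := hU.prespectralSpace
  exact isClosed_up_image (hspec W.1 W.2 _) (isClosed_up_of_isProConstructible hE' (hgood W.1 W.2))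

/-- Topological core of "the image of an ind-constructible set under a morphism locally of finite
presentation is ind-constructible": `P` is a class of good opens forming a basis (affine opens)
for which Chevalley's theorem is available. -/
theorem isOpen_up_preimage_image_of_chevalley {X Y : Type*} [TopologicalSpace X]
    [TopologicalSpace Y] [PrespectralSpace X] (f : X → Y) (hf : Continuous f) {U : Set Y}
    (hU : IsGoodOpen U) (P : Set X → Prop) (hP : ∀ W, P W → IsGoodOpen W)
    (hbasis : ∀ x : X, ∀ O : Set X, IsOpen O → x ∈ O → ∃ W, P W ∧ x ∈ W ∧ W ⊆ O)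
    (hChev : ∀ W, P W → ∀ hWU : MapsTo f W U, ∀ C : Set W, IsConstructible C →
      IsConstructible (hWU.restrict f W U '' C))
    {E' : Set X} (hE' : ProCons.IsIndConstructible E') : IsOpen (up (U ↓∩ f '' E')) := by
  haveI := hU.compactSpace
  haveI := hU.quasiSeparatedSpace
  rw [isOpen_iff_forall_mem_open]
  intro z hz
  set y : U := WithTopology.ofTopology z with hy
  obtain ⟨x', hx'E, hx'y⟩ : (y : Y) ∈ f '' E' := hz
  have hx'U : x' ∈ f ⁻¹' U := by
    show f x' ∈ U
    rw [hx'y]
    exact y.2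
  obtain ⟨W, hPW, hx'W, hWU⟩ := hbasis x' (f ⁻¹' U) (hU.isOpen.preimage hf) hx'U
  have hW := hP W hPW
  haveI := hW.quasiSeparatedSpace
  obtain ⟨C, hC, hx'C, hCE⟩ := exists_isConstructible_subset_of_isOpen_up
    (isOpen_up_of_isIndConstructible hE' hW) (show (⟨x', hx'W⟩ : W) ∈ W ↓∩ E' from hx'E)
  have hmaps : MapsTo f W U := fun w hw => hWU hw
  refine ⟨up (hmaps.restrict f W U '' C), ?_,
    (isClopen_up_of_isConstructible (hChev W hPW hmaps C hC)).2, ?_⟩
  · apply up_subset_up.2
    rintro _ ⟨w, hwC, rfl⟩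
    exact ⟨w.1, hCE hwC, rfl⟩
  · show y ∈ hmaps.restrict f W U '' C
    exact ⟨⟨x', hx'W⟩, hx'C, Subtype.ext hx'y⟩

/-- Topological core of EGA IV 1.10.3, first half: if `f` is open at `x` then generizations of
`f x` lift to generizations of `x`.  Here `W ∋ x` and `U ∋ f x` are good opens with `f W ⊆ U`
and `f : W → U` spectral. -/
theorem exists_specializes_of_isOpenAt {X Y : Type*} [TopologicalSpace X] [TopologicalSpace Y]
    [PrespectralSpace X] [QuasiSober X] [T0Space Y] [PrespectralSpace Y]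
    (f : X → Y) {x : X} {W : Set X} (hW : IsGoodOpen W) (hxW : x ∈ W) {U : Set Y}
    (hU : IsGoodOpen U) (hWU : MapsTo f W U) (hspec : IsSpectralMap (hWU.restrict f W U))
    (hopen : ∀ N ∈ 𝓝 x, f '' N ∈ 𝓝 (f x)) {y' : Y} (hy' : y' ⤳ f x) :
    ∃ x' : X, x' ⤳ x ∧ f x' = y' := by
  haveI := hW.quasiSeparatedSpace
  haveI := hW.compactSpace
  haveI := hW.prespectralSpace
  haveI := hW.quasiSober
  haveI := hU.prespectralSpace
  have hy'U : y' ∈ U := hy'.mem_open hU.isOpen (hWU hxW)
  set g := hWU.restrict f W U with hg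
  let K : Set W := g ⁻¹' {⟨y', hy'U⟩}
  have hK : IsClosed (up K) := isClosed_up_preimage hspec (isClosed_up_singleton _)
  let ι := {V : Set X // IsOpen V ∧ IsCompact V ∧ x ∈ V ∧ V ⊆ W}
  have hclosed : ∀ V : ι, IsClosed (up ((W ↓∩ (V : Set X)) ∩ K)) := by
    intro V
    rw [up_inter]
    refine IsClosed.inter ?_ hK
    apply isClosed_up_of_isOpen_of_isCompact
    · exact V.2.1.preimage continuous_subtype_val
    · rw [Subtype.isCompact_iff, Subtype.image_preimage_coe,
        inter_eq_self_of_subset_right V.2.2.2.2]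
      exact V.2.2.1
  by_contra hcon
  have hsub : ⋂ V : ι, ((W ↓∩ (V : Set X)) ∩ K) ⊆ (∅ : Set W) := by
    intro w hw
    rw [mem_iInter] at hw
    apply hcon
    refine ⟨w.1, ?_, ?_⟩
    · rw [specializes_iff_forall_open]
      intro s hs hxs
      obtain ⟨V, hV, hxV, hVs, hVW⟩ := hW.exists_subset hxW hs hxs
      exact hVs (hw ⟨V, hV.isOpen, hV.isCompact, hxV, hVW⟩).1
    · have h1 : g w = ⟨y', hy'U⟩ := (hw ⟨W, hW.isOpen, hW.isCompact, hxW, subset_rfl⟩).2
      exact congrArg Subtype.val h1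
  obtain ⟨J, hJ⟩ := exists_finset_iInter_subset (fun V : ι => (W ↓∩ (V : Set X)) ∩ K) ∅
    hclosed (by simp [up]) hsub
  have hN : (⋂ V ∈ J, (V : Set X)) ∩ W ∈ 𝓝 x := by
    apply IsOpen.mem_nhds
    · exact (isOpen_biInter_finset (fun V _ => V.2.1)).inter hW.isOpen
    · refine ⟨?_, hxW⟩
      rw [mem_iInter₂]
      intro V _
      exact V.2.2.2.1
  have hy'N : y' ∈ f '' ((⋂ V ∈ J, (V : Set X)) ∩ W) := mem_of_mem_nhds (hy' (hopen _ hN))
  obtain ⟨v, ⟨hvJ, hvW⟩, hvy⟩ := hy'N
  have : (⟨v, hvW⟩ : W) ∈ ⋂ V ∈ J, ((W ↓∩ (V : Set X)) ∩ K) := by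
    rw [mem_iInter₂] at hvJ ⊢
    intro V hV
    exact ⟨hvJ V hV, Subtype.ext hvy⟩
  exact hJ this

/-- Topological core of EGA IV 1.10.3, second half. -/
theorem isOpenAt_of_forall_exists_specializes {X Y : Type*} [TopologicalSpace X]
    [TopologicalSpace Y] [PrespectralSpace Y] [QuasiSober Y]
    (f : X → Y) {x : X} {U : Set Y} (hU : IsGoodOpen U) (hxU : f x ∈ U)
    (hlift : ∀ y' : Y, y' ⤳ f x → ∃ x' : X, x' ⤳ x ∧ f x' = y')
    {N : Set X} {W : Set X} (hWo : IsOpen W) (hxW : x ∈ W) (hWN : W ⊆ N) (hWU : MapsTo f W U)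
    (hChev : IsConstructible (range (hWU.restrict f W U))) :
    f '' N ∈ 𝓝 (f x) := by
  haveI := hU.quasiSeparatedSpace
  haveI := hU.compactSpace
  haveI := hU.prespectralSpace
  haveI := hU.quasiSober
  set R : Set U := range (hWU.restrict f W U) with hR
  have hind : ProCons.IsIndConstructible R :=
    isIndConstructible_of_isLocallyConstructible hChev.isLocallyConstructible
  have hint : (⟨f x, hxU⟩ : U) ∈ interior R := by
    rw [mem_interior_iff_of_isIndConstructible (fun z => ⟨univ, isGoodOpen_univ, mem_univ z⟩) hind]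
    intro y'' hy''
    have h1 : (y'' : Y) ⤳ f x := hy''.map continuous_subtype_val
    obtain ⟨x', hx'x, hx'y⟩ := hlift _ h1
    have hx'W : x' ∈ W := hx'x.mem_open hWo hxW
    exact ⟨⟨x', hx'W⟩, Subtype.ext hx'y⟩
  have hopen : IsOpen (Subtype.val '' interior R : Set Y) :=
    hU.isOpen.isOpenMap_subtype_val _ isOpen_interior
  refine Filter.mem_of_superset (hopen.mem_nhds ⟨_, hint, rfl⟩) ?_
  rintro _ ⟨y, hy, rfl⟩
  obtain ⟨w, rfl⟩ := interior_subset hy
  exact ⟨w.1, hWN w.2, rfl⟩

/-- EGA IV 1.9.10, necessity: an ind-constructible set `E` meets the closure of each of its points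
`x` in a neighbourhood of `x` in that closure. -/
theorem preimage_mem_nhds_closure_of_isIndConstructible {X : Type*} [TopologicalSpace X]
    [T0Space X] [PrespectralSpace X] [QuasiSober X]
    (hcov : ∀ x : X, ∃ W : Set X, IsGoodOpen W ∧ x ∈ W) {E : Set X}
    (hE : ProCons.IsIndConstructible E) {x : X} (hx : x ∈ E) :
    (Subtype.val ⁻¹' E : Set ↥(closure ({x} : Set X))) ∈
      𝓝 (⟨x, subset_closure rfl⟩ : ↥(closure ({x} : Set X))) := by
  obtain ⟨W, hW, hxW⟩ := hcov x
  haveI := hW.quasiSeparatedSpace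
  haveI := hW.compactSpace
  haveI := hW.prespectralSpace
  haveI := hW.quasiSober
  let ι := {V : Set X // IsOpen V ∧ IsCompact V ∧ x ∈ V ∧ V ⊆ W}
  have hclosed : ∀ V : ι, IsClosed (up ((W ↓∩ (V : Set X)) ∩ (W ↓∩ closure {x}))) := by
    intro V
    rw [up_inter]
    refine IsClosed.inter ?_ ?_
    · apply isClosed_up_of_isOpen_of_isCompact
      · exact V.2.1.preimage continuous_subtype_val
      · rw [Subtype.isCompact_iff, Subtype.image_preimage_coe,
          inter_eq_self_of_subset_right V.2.2.2.2]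
        exact V.2.2.1
    · exact isClosed_up_of_isClosed (isClosed_closure.preimage continuous_subtype_val)
  have hsub : ⋂ V : ι, ((W ↓∩ (V : Set X)) ∩ (W ↓∩ closure {x})) ⊆ W ↓∩ E := by
    intro w hw
    rw [mem_iInter] at hw
    have h1 : (w : X) ⤳ x := by
      rw [specializes_iff_forall_open]
      intro s hs hxs
      obtain ⟨V, hV, hxV, hVs, hVW⟩ := hW.exists_subset hxW hs hxs
      exact hVs (hw ⟨V, hV.isOpen, hV.isCompact, hxV, hVW⟩).1
    have h2 : x ⤳ (w : X) :=
      specializes_iff_mem_closure.2 (hw ⟨W, hW.isOpen, hW.isCompact, hxW, subset_rfl⟩).2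
    have h3 : (w : X) = x := (h1.antisymm h2).eq
    show (w : X) ∈ E
    rw [h3]
    exact hx
  obtain ⟨J, hJ⟩ := exists_finset_iInter_subset
    (fun V : ι => (W ↓∩ (V : Set X)) ∩ (W ↓∩ closure {x})) (W ↓∩ E)
    hclosed (isOpen_up_of_isIndConstructible hE hW) hsub
  rw [mem_nhds_subtype]
  refine ⟨(⋂ V ∈ J, (V : Set X)) ∩ W, ?_, ?_⟩
  · apply IsOpen.mem_nhds
    · exact (isOpen_biInter_finset (fun V _ => V.2.1)).inter hW.isOpen
    · refine ⟨?_, hxW⟩
      rw [mem_iInter₂]
      intro V _
      exact V.2.2.2.1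
  · rintro ⟨y, hycl⟩ ⟨hyJ, hyW⟩
    have : (⟨y, hyW⟩ : W) ∈ ⋂ V ∈ J, ((W ↓∩ (V : Set X)) ∩ (W ↓∩ closure {x})) := by
      rw [mem_iInter₂] at hyJ ⊢
      intro V hV
      exact ⟨hyJ V hV, hycl⟩
    exact hJ this

/-- In a locally Noetherian space, open sets are locally constructible. -/
theorem isLocallyConstructible_of_isOpen_of_locallyNoetherian {X : Type*} [TopologicalSpace X]
    (hnoeth : ∀ x : X, ∃ W : Set X, IsOpen W ∧ x ∈ W ∧ TopologicalSpace.NoetherianSpace W)
    {O : Set X} (hO : IsOpen O) : IsLocallyConstructible O := by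
  intro x
  obtain ⟨W, hWo, hxW, hWn⟩ := hnoeth x
  refine ⟨W, hWo.mem_nhds hxW, hWo, ?_⟩
  have hret : IsRetrocompact (W ↓∩ O) := fun U _ _ => TopologicalSpace.NoetherianSpace.isCompact _
  exact hret.isConstructible (hO.preimage continuous_subtype_val)

/-- EGA IV 1.9.10, sufficiency (locally Noetherian case). -/
theorem isIndConstructible_of_forall_mem_nhds_closure {X : Type*} [TopologicalSpace X]
    (hnoeth : ∀ x : X, ∃ W : Set X, IsOpen W ∧ x ∈ W ∧ TopologicalSpace.NoetherianSpace W) {E : Set X}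
    (h : ∀ x ∈ E, (Subtype.val ⁻¹' E : Set ↥(closure ({x} : Set X))) ∈
      𝓝 (⟨x, subset_closure rfl⟩ : ↥(closure ({x} : Set X)))) :
    ProCons.IsIndConstructible E := by
  have hkey : ∀ x ∈ E, ∃ O : Set X, IsOpen O ∧ x ∈ O ∧ O ∩ closure {x} ⊆ E := by
    intro x hx
    have := h x hx
    rw [mem_nhds_subtype] at this
    obtain ⟨t, ht, hsub⟩ := this
    obtain ⟨O, hOt, hO, hxO⟩ := mem_nhds_iff.1 ht
    refine ⟨O, hO, hxO, ?_⟩
    rintro y ⟨hyO, hycl⟩
    exact hsub (show (⟨y, hycl⟩ : ↥(closure ({x} : Set X))) ∈ Subtype.val ⁻¹' t from hOt hyO)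
  choose! O hOo hxO hOE using hkey
  have hloc : ∀ x ∈ E, IsLocallyConstructible (O x ∩ closure {x}) := by
    intro x hx
    apply IsLocallyConstructible.inter
    · exact isLocallyConstructible_of_isOpen_of_locallyNoetherian hnoeth (hOo x hx)
    · have h1 := isLocallyConstructible_of_isOpen_of_locallyNoetherian hnoeth
        (isClosed_closure (s := ({x} : Set X))).isOpen_compl
      have h2 := isLocallyConstructible_compl h1
      rwa [compl_compl] at h2
  intro p
  refine ⟨univ, isOpen_univ, mem_univ p,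
    (fun x : X => (Subtype.val ⁻¹' (O x ∩ closure {x}) : Set (univ : Set X))) '' E, ?_, ?_⟩
  · rintro _ ⟨x, hx, rfl⟩
    exact (hloc x hx).preimage_of_isOpenEmbedding isOpen_univ.isOpenEmbedding_subtypeVal
  · ext y
    constructor
    · intro hy
      exact ⟨_, ⟨y.1, hy, rfl⟩, hxO y.1 hy, subset_closure rfl⟩
    · rintro ⟨_, ⟨x, hx, rfl⟩, hy⟩
      exact hOE x hx hy

theorem isSpectralMap_subtype_val_univ {X : Type*} [TopologicalSpace X] :
    IsSpectralMap (Subtype.val : ↥(univ : Set X) → X) := by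
  refine ⟨continuous_subtype_val, fun s _ hc => ?_⟩
  rw [Subtype.isCompact_iff, Subtype.image_preimage_coe, univ_inter]
  exact hc

/-- In a spectral space, pro-constructible sets are closed for the constructible topology. -/
theorem isClosed_up_of_isProConstructible_of_spectral {X : Type*} [TopologicalSpace X]
    [SpectralSpace X] {F : Set X} (hF : ProCons.IsProConstructible F) : IsClosed (up F) := by
  have hW : IsGoodOpen (univ : Set X) := isGoodOpen_univ
  haveI := hW.spectralSpace
  have h := isClosed_up_image isSpectralMap_subtype_val_univ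
    (isClosed_up_of_isProConstructible hF hW)
  rwa [Subtype.image_preimage_coe, univ_inter] at h

/-- In a spectral space, ind-constructible sets are open for the constructible topology. -/
theorem isOpen_up_of_isIndConstructible_of_spectral {X : Type*} [TopologicalSpace X]
    [SpectralSpace X] {F : Set X} (hF : ProCons.IsIndConstructible F) : IsOpen (up F) := by
  have h := isClosed_up_of_isProConstructible_of_spectral (isProConstructible_compl hF)
  rw [up_compl] at h
  simpa using h.isOpen_compl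

end Ambient2

end Groth.Agent.Lib.Helper36
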