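import Groth.Agent.Lib.Helper36.ProConsScheme
import Groth.Agent.Lib.Helper36.ProCons2
import Mathlib.AlgebraicGeometry.Morphisms.Affine
import Mathlib.AlgebraicGeometry.Morphisms.FinitePresentation

set_option autoImplicit false

open Topology Set AlgebraicGeometry
open scoped Set.Notation

namespace Groth.Agent.Lib.Helper36

universe u

/-- The restriction of a scheme morphism to affine opens is a spectral map. -/
theorem isSpectralMap_resLE {X Y : Scheme.{u}} (f : X ⟶ Y) {U : Y.Opens} {W : X.Opens}
    (hU : IsAffineOpen U) (hW : IsAffineOpen W) (e : W ≤ f ⁻¹ᵁ U) :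
    IsSpectralMap (f.resLE U W e).base := by
  haveI : IsAffine U.toScheme := hU
  haveI : IsAffine W.toScheme := hW
  exact (f.resLE U W e).isSpectralMap

/-- Set-level version of `isSpectralMap_resLE`. -/
theorem isSpectralMap_restrict {X Y : Scheme.{u}} (f : X ⟶ Y) {U : Y.Opens} {W : X.Opens}
    (hU : IsAffineOpen U) (hW : IsAffineOpen W) (e : MapsTo f.base (W : Set X) (U : Set Y)) :
    IsSpectralMap (e.restrict f.base (W : Set X) (U : Set Y)) := by
  have e' : W ≤ f ⁻¹ᵁ U := fun x hx => e hx
  have h := isSpectralMap_resLE f hU hW e'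
  have heq : (e.restrict f.base (W : Set X) (U : Set Y)) = (f.resLE U W e').base := by
    funext w
    apply Subtype.ext
    exact (Scheme.Hom.coe_resLE_apply f e' w).symm
  rw [heq]
  exact h

/-- The image of a pro-constructible set under a quasi-compact morphism is pro-constructible
(EGA IV 1.9.5 (vii)). -/
theorem scheme_isProConstructible_image {X' X : Scheme.{u}} (f : X' ⟶ X) [QuasiCompact f]
    {E' : Set X'} (hE' : ProCons.IsProConstructible E') :
    ProCons.IsProConstructible (f.base '' E') := by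
  apply isProConstructible_of_forall_exists_isClosed_up
  intro x
  obtain ⟨U, hU, hxU, -⟩ := exists_isAffineOpen_mem_and_subset (TopologicalSpace.Opens.mem_top x)
  refine ⟨U, isGoodOpen_of_isAffineOpen hU, hxU, ?_⟩
  have hcomp : IsCompact (f ⁻¹ᵁ U : Set X') := f.isCompact_preimage hU.isCompact
  obtain ⟨s, hs, hsU⟩ := isCompact_and_isOpen_iff_finite_and_eq_biUnion_affineOpens.1
    ⟨hcomp, (f ⁻¹ᵁ U).isOpen⟩
  refine isClosed_up_preimage_image_of_finite_cover f.base (isGoodOpen_of_isAffineOpen hU)
    ((fun W : X'.affineOpens => ((W : X'.Opens) : Set X')) '' s) (hs.image _) ?_ ?_ ?_ hE'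
  · rintro _ ⟨W, -, rfl⟩
    exact isGoodOpen_of_isAffineOpen W.2
  · have : (f.base ⁻¹' (U : Set X)) = (f ⁻¹ᵁ U : Set X') := rfl
    rw [this, hsU, sUnion_image]
  · rintro _ ⟨W, -, rfl⟩ hWU
    exact isSpectralMap_restrict f hU W.2 hWU

/-- Affine opens form a basis (set-level form). -/
theorem scheme_exists_isAffineOpen_subset {X : Scheme.{u}} (x : X) (O : Set X) (hO : IsOpen O)
    (hx : x ∈ O) : ∃ W : X.Opens, IsAffineOpen W ∧ x ∈ W ∧ (W : Set X) ⊆ O := by
  obtain ⟨W, hW1, hW2, hW3⟩ :=
    exists_isAffineOpen_mem_and_subset (U := ⟨O, hO⟩) (x := x) hx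
  exact ⟨W, hW1, hW2, hW3⟩

/-- Chevalley's theorem for the restriction of an lfp morphism to affine opens, set-level. -/
theorem isConstructible_restrict_image {X Y : Scheme.{u}} (f : X ⟶ Y)
    [LocallyOfFinitePresentation f] {U : Y.Opens} {W : X.Opens}
    (hU : IsAffineOpen U) (hW : IsAffineOpen W) (e : MapsTo f.base (W : Set X) (U : Set Y))
    (C : Set (W : Set X)) (hC : IsConstructible C) :
    IsConstructible (e.restrict f.base (W : Set X) (U : Set Y) '' C) := by
  have e' : W ≤ f ⁻¹ᵁ U := fun x hx => e hx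
  haveI : IsAffine U.toScheme := hU
  haveI : IsAffine W.toScheme := hW
  have h := (f.resLE U W e').isConstructible_image (s := C) hC
  have heq : (e.restrict f.base (W : Set X) (U : Set Y)) = (f.resLE U W e').base := by
    funext w
    apply Subtype.ext
    exact (Scheme.Hom.coe_resLE_apply f e' w).symm
  rw [heq]
  exact h

/-- The image of an ind-constructible set under a morphism locally of finite presentation is
ind-constructible (EGA IV 1.9.5 (viii)). -/
theorem scheme_isIndConstructible_image {X' X : Scheme.{u}} (f : X' ⟶ X)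
    [LocallyOfFinitePresentation f] {E' : Set X'} (hE' : ProCons.IsIndConstructible E') :
    ProCons.IsIndConstructible (f.base '' E') := by
  apply isIndConstructible_of_forall_exists_isOpen_up
  intro x
  obtain ⟨U, hU, hxU, -⟩ := exists_isAffineOpen_mem_and_subset (TopologicalSpace.Opens.mem_top x)
  refine ⟨U, isGoodOpen_of_isAffineOpen hU, hxU, ?_⟩
  refine isOpen_up_preimage_image_of_chevalley f.base f.continuous
    (isGoodOpen_of_isAffineOpen hU)
    (fun W => ∃ W' : X'.Opens, IsAffineOpen W' ∧ (W' : Set X') = W) ?_ ?_ ?_ hE'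
  · rintro _ ⟨W', hW', rfl⟩
    exact isGoodOpen_of_isAffineOpen hW'
  · intro x' O hO hx'
    obtain ⟨W, hW1, hW2, hW3⟩ := scheme_exists_isAffineOpen_subset x' O hO hx'
    exact ⟨W, ⟨W, hW1, rfl⟩, hW2, hW3⟩
  · rintro _ ⟨W', hW', rfl⟩ hWU C hC
    exact isConstructible_restrict_image f hU hW' hWU C hC

end Groth.Agent.Lib.Helper36
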