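import Groth.Agent.Lib.Helper36.ProCons
import Mathlib.AlgebraicGeometry.Morphisms.QuasiSeparated
import Mathlib.AlgebraicGeometry.Properties

set_option autoImplicit false

open Topology Set AlgebraicGeometry

namespace Groth.Agent.Lib.Helper36

universe u

/-- Affine opens are good opens. -/
theorem isGoodOpen_of_isAffineOpen {X : Scheme.{u}} {U : X.Opens} (hU : IsAffineOpen U) :
    IsGoodOpen (U : Set X) :=
  ⟨U.isOpen, hU.isCompact, hU.isQuasiSeparated⟩

/-- Every point of a scheme has a good open neighbourhood. -/
theorem scheme_exists_isGoodOpen (X : Scheme.{u}) (x : X) :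
    ∃ W : Set X, IsGoodOpen W ∧ x ∈ W := by
  obtain ⟨W, hW1, hW2, _⟩ :=
    exists_isAffineOpen_mem_and_subset (TopologicalSpace.Opens.mem_top x)
  exact ⟨W, isGoodOpen_of_isAffineOpen hW1, hW2⟩

/-- Scheme version: locally constructible iff ind- and pro-constructible. -/
theorem scheme_isLocallyConstructible_iff_ind_and_pro (X : Scheme.{u}) (E : Set X) :
    IsLocallyConstructible E ↔ ProCons.IsIndConstructible E ∧ ProCons.IsProConstructible E :=
  isLocallyConstructible_iff_ind_and_pro (scheme_exists_isGoodOpen X)

/-- Scheme version: compactness for pro- and ind-constructible sets on a quasi-compact scheme. -/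
theorem scheme_exists_finset_iInter_subset (X : Scheme.{u}) [CompactSpace X] {E : Set X}
    (hE : ProCons.IsIndConstructible E) {ι : Type*} (F : ι → Set X)
    (hF : ∀ i, ProCons.IsProConstructible (F i)) (h : ⋂ i, F i ⊆ E) :
    ∃ J : Finset ι, ⋂ i ∈ J, F i ⊆ E :=
  exists_finset_iInter_subset_of_compactSpace (scheme_exists_isGoodOpen X) hE F hF h

/-- Scheme version: interior of an ind-constructible set via generizations. -/
theorem scheme_mem_interior_iff_of_isIndConstructible (X : Scheme.{u}) {E : Set X}
    (hE : ProCons.IsIndConstructible E) (x : X) :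
    x ∈ interior E ↔ ∀ x' : X, x' ⤳ x → x' ∈ E :=
  mem_interior_iff_of_isIndConstructible (scheme_exists_isGoodOpen X) hE x

end Groth.Agent.Lib.Helper36
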