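import Groth.Agent.Lib.Helper36.AlgSpChartDiag
import Groth.Agent.Lib.Helper36.AlgSpHasAtMor
import Groth.Agent.Lib.Helper73.DimFormula.FieldExtScheme
import Groth.Agent.Lib.Helper41.FtPts

/-!
# Chart diagrams compatible with base change (helper36)

For a pullback square `X' = X ×_Y Y'` of fppf sheaves with `X, Y, Y'` algebraic spaces we produce
chart diagrams `h : U ⟶ V` over `f : X ⟶ Y` and `h' : U' ⟶ V'` over `f' : X' ⟶ Y'` with
`U' = U ×_V V'` (a pullback square of schemes), the charts of `X'` and `Y'` being surjective.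
-/

universe u

open CategoryTheory CategoryTheory.Limits AlgebraicGeometry Opposite

namespace Groth.Agent.Lib.Helper36.BaseChangeChart

open AlgSp Groth.Agent.Lib.Helper36.AlgSpCharts Groth.Agent.Lib.Helper37.AlgSpPoints
  Groth.Agent.Lib.Helper36.AlgSpChartDiag Groth.Agent.Lib.Helper36.AlgSpHasAtMor

variable {S : Scheme.{u}}

/-- Chart diagrams compatible with a base change square. -/
theorem exists_baseChange_charts {X Y Y' : Space S} {X' : Sp S} (f : X ⟶ Y) (g : Y' ⟶ Y)
    (g' : X' ⟶ X.obj) (f' : X' ⟶ Y'.obj) (sq : IsPullback g' f' f.hom g.hom) :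
    ∃ (U V U' V' : Over S) (a : (yon S).obj U ⟶ X.obj) (b : (yon S).obj V ⟶ Y.obj)
      (a' : (yon S).obj U' ⟶ X') (b' : (yon S).obj V' ⟶ Y'.obj)
      (h : U ⟶ V) (h' : U' ⟶ V') (pU : U' ⟶ U) (q : V' ⟶ V),
      RepWith @Etale a ∧ RepWith @Etale b ∧ RepWith @Etale a' ∧ RepWith @Surjective a' ∧
      RepWith @Etale b' ∧ RepWith @Surjective b' ∧
      a ≫ f.hom = (yon S).map h ≫ b ∧ a' ≫ f' = (yon S).map h' ≫ b' ∧
      a' ≫ g' = (yon S).map pU ≫ a ∧ b' ≫ g.hom = (yon S).map q ≫ b ∧
      IsPullback pU.left h'.left h.left q.left := by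
  obtain ⟨V', V, b', b, q, hb'e, hb's, hbe, hbs, wq⟩ := exists_chart_diagram g
  obtain ⟨UX, p, hpe, hps⟩ := X.property.atlas
  obtain ⟨U, p1, h, h1, h2, sqU⟩ := exists_chart_diagram_of_charts f.hom p b hbe
  obtain ⟨U', r1, h', sqU'⟩ := exists_isPullback_yon (p ≫ f.hom) (b' ≫ g.hom)
    (Y.property.representable_from_yon _)
  -- the map `U' ⟶ U`
  have hw : (yon S).map r1 ≫ p ≫ f.hom = (yon S).map (h' ≫ q) ≫ b := by
    rw [sqU'.w, Functor.map_comp, Category.assoc, wq]
  obtain ⟨pU, hpU⟩ := (yon S).map_surjective (sqU.lift _ _ hw)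
  have c1 : (yon S).map pU ≫ (yon S).map p1 = (yon S).map r1 := by
    rw [hpU, sqU.lift_fst]
  have c2 : (yon S).map pU ≫ (yon S).map h = (yon S).map h' ≫ (yon S).map q := by
    rw [hpU, sqU.lift_snd, Functor.map_comp]
  have sqs : IsPullback ((yon S).map pU) ((yon S).map h') ((yon S).map h) ((yon S).map q) := by
    refine IsPullback.of_right ?_ c2 sqU
    rw [c1, ← wq]
    exact sqU'
  -- the intermediate space `M = X ×_Y h_{V'}`
  let M : Sp S := pullback f.hom (b' ≫ g.hom)
  let mfst : M ⟶ X.obj := pullback.fst f.hom (b' ≫ g.hom)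
  let msnd : M ⟶ (yon S).obj V' := pullback.snd f.hom (b' ≫ g.hom)
  have hM : IsPullback mfst msnd f.hom (b' ≫ g.hom) := IsPullback.of_hasPullback _ _
  let m : M ⟶ X' := sq.lift mfst (msnd ≫ b') (by rw [Category.assoc]; exact hM.w)
  have m1 : m ≫ g' = mfst := sq.lift_fst _ _ _
  have m2 : m ≫ f' = msnd ≫ b' := sq.lift_snd _ _ _
  have sqM : IsPullback m msnd f' b' := by
    refine IsPullback.of_right ?_ m2 sq
    rw [m1]
    exact hM
  have hme : RepWith @Etale m := (RepWith (S := S) @Etale).of_isPullback sqM.flip hb'e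
  have hms : RepWith @Surjective m := (RepWith (S := S) @Surjective).of_isPullback sqM.flip hb's
  let n : (yon S).obj U' ⟶ M := hM.lift ((yon S).map r1 ≫ p) ((yon S).map h')
    (by rw [Category.assoc]; exact sqU'.w)
  have n1 : n ≫ mfst = (yon S).map r1 ≫ p := hM.lift_fst _ _ _
  have n2 : n ≫ msnd = (yon S).map h' := hM.lift_snd _ _ _
  have sqN : IsPullback n ((yon S).map r1) mfst p := by
    refine IsPullback.of_right ?_ n1 hM.flip
    rw [n2]
    exact sqU'.flip
  have hne : RepWith @Etale n := (RepWith (S := S) @Etale).of_isPullback sqN.flip hpe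
  have hns : RepWith @Surjective n := (RepWith (S := S) @Surjective).of_isPullback sqN.flip hps
  refine ⟨U, V, U', V', (yon S).map p1 ≫ p, b, n ≫ m, b', h, h', pU, q,
    repWith_yon_map_comp p1 h1 p hpe, hbe, (RepWith @Etale).comp_mem _ _ hne hme,
    (RepWith @Surjective).comp_mem _ _ hns hms, hb'e, hb's, ?_, ?_, ?_, wq,
    isPullback_left_of_yon sqs⟩
  · rw [Category.assoc]
    exact sqU.w
  · rw [Category.assoc, m2, ← Category.assoc, n2]
  · rw [Category.assoc, m1, n1, ← Category.assoc, c1]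

end Groth.Agent.Lib.Helper36.BaseChangeChart
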