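import Groth.Agent.Lib.Helper36.OpenSubspace

universe u
open CategoryTheory CategoryTheory.Limits AlgebraicGeometry Opposite

namespace Groth.Agent.Lib.Helper36.OpenSubspace

open AlgSp Groth.Agent.Lib.Helper37.AlgSpPoints

variable {S : Scheme.{u}}

/-- A morphism of sheaves whose points land in `W` factors through the open subspace `openSub X W`. -/
theorem exists_lift_openSub_of_range {Z X : Sp S} (g : Z ⟶ X) (W : Set (Points X))
    (h : Set.range (Points.map g) ⊆ W) : ∃ k : Z ⟶ openSub X W, k ≫ openSubι X W = g := by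
  have hf : Subfunctor.range g.hom ≤ sub X W := by
    intro U
    induction U using Opposite.rec with
    | op T =>
    rintro _ ⟨s, rfl⟩ t
    have e : ((J S).uliftYonedaEquiv.symm (g.hom.app (op T) s) : (yon S).obj T ⟶ X) =
        ((J S).uliftYonedaEquiv.symm s : (yon S).obj T ⟶ Z) ≫ g :=
      (GrothendieckTopology.uliftYonedaEquiv_symm_naturality_right (J S) T g s).symm
    show Points.ofPt ((J S).uliftYonedaEquiv.symm (g.hom.app (op T) s) : (yon S).obj T ⟶ X) t ∈ W
    rw [e, ← Points.map_ofPt]
    exact h ⟨_, rfl⟩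
  refine ⟨ObjectProperty.homMk (Subfunctor.lift g.hom hf), ?_⟩
  rfl

/-- A morphism factoring through `openSub X W` has its points in `W`. -/
theorem range_subset_of_comp_openSubι {Z X : Sp S} (W : Set (Points X)) (k : Z ⟶ openSub X W) :
    Set.range (Points.map (k ≫ openSubι X W)) ⊆ W := by
  rintro _ ⟨z, rfl⟩
  rw [Points.map_comp]
  have h1 : Points.map (openSubι X W) (Points.map k z) ∈
    Set.range (Points.map (openSubι X W)) := ⟨_, rfl⟩
  exact (range_map_openSubι X W).subset h1

end Groth.Agent.Lib.Helper36.OpenSubspace
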