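import Groth.Agent.Lib.Helper37.UnivTop
import Groth.Agent.Lib.Helper5.LargestOpenSp
import Groth.Agent.Lib.Helper62.AlgSpMono
import Groth.Agent.Lib.Helper37.AlgSpPoints
import Groth.Prelude.Def_AlgSpInf

universe u
open CategoryTheory CategoryTheory.Limits AlgebraicGeometry Opposite Topology

namespace Groth.Agent.Lib.Helper36.Thickening

open AlgSp Groth.Agent.Lib.Helper37.AlgSpPoints

variable {S : Scheme.{u}}

theorem repWith_surjective_of_isThickMor {X X' : Sp S} (i : X ⟶ X') (hi : IsThickMor i) :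
    RepWith @Surjective i := by
  have hi' := (repWith_iff AlgSp.thick i).1 hi
  exact (repWith_iff _ _).2 ⟨hi'.1, fun _ _ g fst snd sq => (hi'.2 g fst snd sq).2⟩

theorem repWith_isClosedImmersion_of_isThickMor {X X' : Sp S} (i : X ⟶ X') (hi : IsThickMor i) :
    RepWith @IsClosedImmersion i := by
  have hi' := (repWith_iff AlgSp.thick i).1 hi
  exact (repWith_iff _ _).2 ⟨hi'.1, fun _ _ g fst snd sq => (hi'.2 g fst snd sq).1⟩

theorem mono_of_isThickMor {X X' : Sp S} (i : X ⟶ X') (hi : IsThickMor i) : Mono i :=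
  Groth.Agent.Lib.Helper62.mono_of_repWith @IsClosedImmersion
    (fun f hf => by have := hf; infer_instance) i (repWith_isClosedImmersion_of_isThickMor i hi)

/-- A representable closed immersion is a closed map on points (target with an atlas). -/
theorem isClosedMap_points_of_repWith_isClosedImmersion {X X' : Sp S} (hX' : IsAlgSpace X')
    (i : X ⟶ X') (hi : RepWith @IsClosedImmersion i) : IsClosedMap (Points.map i) := by
  intro C hC
  obtain ⟨V', a', ha'e, ha's⟩ := hX'.atlas
  have hquot : IsQuotientMap (Points.ofPt a') :=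
    (isOpenMap_ofPt a' ha'e).isQuotientMap (Points.continuous_ofPt a') (ofPt_surjective a' ha's)
  rw [← hquot.isClosed_preimage]
  have sq := hi.rep.isPullback a'
  have hcl : IsClosedImmersion (hi.rep.snd a').left := hi.property_snd a'
  have hset : Points.ofPt a' ⁻¹' (Points.map i '' C) =
      (hi.rep.snd a').left '' (Points.ofPt (hi.rep.fst a') ⁻¹' C) := by
    ext v'
    constructor
    · rintro ⟨x, hxC, hx⟩
      rw [Points.ofPt_eq_map_ofScheme] at hx
      obtain ⟨r, hr1, hr2⟩ := points_exists_of_isPullback sq.flip (Points.ofScheme V' v') x hx.symm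
      refine ⟨Points.toScheme _ r, ?_, ?_⟩
      · change Points.ofPt (hi.rep.fst a') (Points.toScheme _ r) ∈ C
        rw [Points.ofPt_eq_map_ofScheme, Points.ofScheme_toScheme, hr2]
        exact hxC
      · apply (Points.schemeEquiv V').injective
        change Points.ofScheme V' _ = Points.ofScheme V' v'
        rw [← hr1, ← ofPt_yon_map, ← Points.ofScheme_toScheme _ r, Points.toScheme_ofScheme,
          Points.ofPt_eq_map_ofScheme]
    · rintro ⟨v, hv, rfl⟩
      refine ⟨Points.ofPt (hi.rep.fst a') v, hv, ?_⟩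
      rw [Points.map_ofPt, sq.w, ofPt_map_comp]
  rw [hset]
  exact (hi.rep.snd a').left.isClosedEmbedding.isClosedMap _
    (hC.preimage (Points.continuous_ofPt _))

/-- A thickening induces a homeomorphism on spaces of points. -/
theorem isHomeomorph_points_of_isThickMor {X X' : Sp S} (hX' : IsAlgSpace X') (i : X ⟶ X')
    (hi : IsThickMor i) : IsHomeomorph (Points.map i) := by
  rw [isHomeomorph_iff_continuous_isClosedMap_bijective]
  have := mono_of_isThickMor i hi
  exact ⟨Points.continuous_map i,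
    isClosedMap_points_of_repWith_isClosedImmersion hX' i
      (repWith_isClosedImmersion_of_isThickMor i hi),
    Groth.Agent.Lib.Helper5.LargestOpenSp.injective_map_of_mono i,
    Groth.Agent.Lib.Helper37.UnivTop.surjective_points_of_repWith i
      (repWith_surjective_of_isThickMor i hi)⟩


theorem isThickMor_of_isPullback {A B C D : Sp S} {fst : A ⟶ B} {snd : A ⟶ C} {f : B ⟶ D} {g : C ⟶ D}
    (sq : IsPullback fst snd f g) (hf : IsThickMor f) : IsThickMor snd :=
  (repWith_isStableUnderBaseChange (S := S) AlgSp.thick).of_isPullback sq hf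

/-- The comparison of fibre products for a morphism of thickenings. -/
theorem exists_thick_lift {X X' Y Y' Z Z' P P' : Sp S} (i : X ⟶ X') (j : Y ⟶ Y') (f : X ⟶ Y)
    (f' : X' ⟶ Y') (hi : IsThickMor i) (w : i ≫ f' = f ≫ j)
    {gZ : Z ⟶ Y} {jZ : Z ⟶ Z'} {g' : Z' ⟶ Y'} (sqZ : IsPullback gZ jZ j g')
    {fstP : P ⟶ X} {sndP : P ⟶ Z} (sqP : IsPullback fstP sndP f gZ)
    {fst' : P' ⟶ X'} {snd' : P' ⟶ Z'} (sqP' : IsPullback fst' snd' f' g') :
    ∃ iP : P ⟶ P', IsThickMor iP ∧ iP ≫ snd' = sndP ≫ jZ ∧ iP ≫ fst' = fstP ≫ i := by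
  have hw : (fstP ≫ i) ≫ f' = (sndP ≫ jZ) ≫ g' := by
    rw [Category.assoc, w, ← Category.assoc, sqP.w, Category.assoc, sqZ.w, Category.assoc]
  refine ⟨sqP'.lift (fstP ≫ i) (sndP ≫ jZ) hw, ?_, sqP'.lift_snd _ _ _, sqP'.lift_fst _ _ _⟩
  -- outer rectangle
  have outer : IsPullback fstP (sndP ≫ jZ) (f ≫ j) g' := sqP.paste_vert sqZ
  have outer' : IsPullback (sqP'.lift (fstP ≫ i) (sndP ≫ jZ) hw ≫ snd') fstP g' (i ≫ f') := by
    rw [sqP'.lift_snd, w]
    exact outer.flip
  have left : IsPullback (sqP'.lift (fstP ≫ i) (sndP ≫ jZ) hw) fstP fst' i :=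
    IsPullback.of_right outer' (sqP'.lift_fst _ _ _) sqP'.flip
  exact isThickMor_of_isPullback left.flip hi

end Groth.Agent.Lib.Helper36.Thickening
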