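import Groth.Agent.Lib.Helper36.QuasiFiniteAt
import Groth.Agent.S9793

/-!
# Points of codimension zero, specializations and quasi-finiteness (helper36)
-/

universe u

open CategoryTheory CategoryTheory.Limits AlgebraicGeometry TopologicalSpace

namespace Groth.Agent.Lib.Helper36.Codim0

open Groth.Agent.Lib.Helper36.FibreDimZero Groth.Agent.Lib.Helper84

/-- A point whose local ring has dimension zero has no proper generization. -/
theorem eq_of_specializes_of_dim_zero {U : Scheme.{u}} {a b : ↥U} (h : a ⤳ b)
    (hb : ringKrullDim ↥(U.presheaf.stalk b) = 0) : a = b := by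
  rw [ringKrullDim_stalk_eq_coheight] at hb
  have h0 : Order.coheight b = 0 := by exact_mod_cast hb
  rw [Order.coheight_eq_zero] at h0
  have h1 : b ≤ a := h
  have h2 : a ≤ b := h0 h1
  have h3 : b ⤳ a := h2
  exact (h.antisymm h3).eq

/-- Every point is a specialization of a point of codimension zero. -/
theorem exists_generic_specializes {U : Scheme.{u}} (u : ↥U) :
    ∃ ξ : ↥U, ξ ⤳ u ∧ ringKrullDim ↥(U.presheaf.stalk ξ) = 0 := by
  have hirr : IsIrreducible (irreducibleComponent u) := isIrreducible_irreducibleComponent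
  have hg := hirr.isGenericPoint_genericPoint_closure
  rw [isClosed_irreducibleComponent.closure_eq] at hg
  refine ⟨hirr.genericPoint, ?_, ?_⟩
  · rw [specializes_iff_mem_closure, hg.def]
    exact mem_irreducibleComponent
  · rw [ringKrullDim_stalk_eq_coheight]
    have : Order.coheight hirr.genericPoint = 0 := by
      rw [Order.coheight_eq_zero]
      intro η hη
      have h1 : η ⤳ hirr.genericPoint := hη
      have h2 : closure {hirr.genericPoint} ⊆ closure {η} := h1.closure_subset
      rw [hg.def] at h2
      have h3 : closure {η} ⊆ irreducibleComponent u :=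
        (irreducibleComponent_mem_irreducibleComponents u).le_of_ge
          isIrreducible_singleton.closure h2
      show hirr.genericPoint ⤳ η
      rw [specializes_iff_mem_closure, hg.def]
      exact h3 (subset_closure rfl)
    rw [this]; rfl

/-- In a locally Noetherian scheme, a point with an open neighbourhood without nontrivial
specializations is an open point. -/
theorem isOpen_singleton_of_no_specialization {U : Scheme.{u}} [IsLocallyNoetherian U]
    (O : U.Opens) (u : ↥U) (hu : u ∈ O)
    (hspec : ∀ u₁ ∈ O, ∀ u₂ ∈ O, u₁ ⤳ u₂ → u₁ = u₂) : IsOpen ({u} : Set ↥U) := by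
  obtain ⟨_, ⟨W, hW, rfl⟩, huW, hWO⟩ := U.isBasis_affineOpens.exists_subset_of_mem_open hu O.2
  have : IsNoetherianRing Γ(U, W) := IsLocallyNoetherian.component_noetherian ⟨W, hW⟩
  have : TopologicalSpace.NoetherianSpace ↥W := noetherianSpace_of_isAffineOpen W hW
  have : QuasiSober ↥W := W.2.isOpenEmbedding_subtypeVal.quasiSober
  have hdim : topologicalKrullDim ↥W ≤ 0 := by
    rw [topologicalKrullDim, Order.krullDim_nonpos_iff_forall_isMax]
    intro Z Z' hZZ'
    have hg := Z.isIrreducible.isGenericPoint_genericPoint_closure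
    have hg' := Z'.isIrreducible.isGenericPoint_genericPoint_closure
    rw [Z.isClosed.closure_eq] at hg
    rw [Z'.isClosed.closure_eq] at hg'
    set η := Z.isIrreducible.genericPoint
    set η' := Z'.isIrreducible.genericPoint
    have hmem : η ∈ (Z' : Set ↥W) := hZZ' hg.mem
    have hs : η' ⤳ η := by
      rw [specializes_iff_mem_closure, hg'.def]
      exact hmem
    have hs' : (η' : ↥U) ⤳ (η : ↥U) := hs.map continuous_subtype_val
    have heq : (η' : ↥U) = (η : ↥U) := hspec _ (hWO η'.2) _ (hWO η.2) hs'
    have heq' : η' = η := Subtype.ext heq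
    intro x hx
    have : (Z' : Set ↥W) = Z := by rw [← hg'.def, ← hg.def, heq']
    have hx' : x ∈ (Z' : Set ↥W) := hx
    rw [this] at hx'
    exact hx'
  obtain ⟨_, hdisc⟩ := finite_discrete_of_dim_le_zero hdim
  have h1 : IsOpen ({⟨u, huW⟩} : Set ↥W) := isOpen_discrete _
  have h2 := W.2.isOpenEmbedding_subtypeVal.isOpenMap _ h1
  simpa using h2

/-- If all points of the fibre through `u` have codimension zero in the source, the morphism is
quasi-finite at `u`. -/
theorem quasiFiniteAt_of_fibre_dim_zero {U V : Scheme.{u}} (h : U ⟶ V) [LocallyOfFiniteType h]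
    (u : ↥U) (H : ∀ u' : ↥U, h u' = h u → ringKrullDim ↥(U.presheaf.stalk u') = 0) :
    h.QuasiFiniteAt u := by
  rw [Scheme.Hom.quasiFiniteAt_iff_isOpen_singleton_asFiber]
  refine isOpen_singleton_of_no_specialization ⊤ _ trivial ?_
  intro x₁ _ x₂ _ hs
  have hs' : h.fiberι (h u) x₁ ⤳ h.fiberι (h u) x₂ := hs.map (h.fiberι (h u)).continuous
  have hx₂ : h (h.fiberι (h u) x₂) = h u := by
    have := (h.fiberHomeo (h u) x₂).2
    simpa [Scheme.Hom.fiberHomeo_apply] using this
  have := eq_of_specializes_of_dim_zero hs' (H _ hx₂)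
  exact (h.fiberι (h u)).isEmbedding.injective this

/-- A quasi-finite point has no proper specialization inside its fibre. -/
theorem eq_of_quasiFiniteAt_of_specializes {U V : Scheme.{u}} (h : U ⟶ V)
    [LocallyOfFiniteType h] {ξ w : ↥U} (hs : ξ ⤳ w) (hv : h w = h ξ) (hq : h.QuasiFiniteAt ξ) :
    w = ξ := by
  have hcl := hq.isClopen_singleton_asFiber.1
  have hw : w ∈ Set.range (h.fiberι (h ξ)) := by
    rw [Scheme.Hom.range_fiberι]
    exact hv
  obtain ⟨wF, rfl⟩ := hw
  have hs' : h.asFiber ξ ⤳ wF := by
    rw [← (h.fiberι (h ξ)).isEmbedding.isInducing.specializes_iff, Scheme.Hom.fiberι_asFiber]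
    exact hs
  have : wF ∈ closure {h.asFiber ξ} := specializes_iff_mem_closure.1 hs'
  rw [hcl.closure_eq] at this
  rw [Set.mem_singleton_iff.1 this, Scheme.Hom.fiberι_asFiber]

end Groth.Agent.Lib.Helper36.Codim0
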