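import Groth.Agent.Lib.Helper36.AlgSpChartDiag

/-!
# Compatible chart diagrams for a cartesian square of sheaves (helper36)
-/

universe u

open CategoryTheory CategoryTheory.Limits AlgebraicGeometry
open AlgSp

namespace Groth.Agent.Lib.Helper36.CartesianCharts

open Groth.Agent.Lib.Helper36.AlgSpCharts Groth.Agent.Lib.Helper36.AlgSpChartDiag

variable {S : Scheme.{u}}

/-- Given a cartesian square `X'' = X ×_Y Y''` of sheaves, a chart `p₀` of `X`, charts `bV` of `Y`
and `b''` of `Y''` with a compatible map `β : V'' ⟶ V`, there are chart diagrams `W ⟶ V` of `f`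
and `U'' ⟶ V''` of `f''` forming a cartesian square of schemes. -/
theorem exists_cartesian_charts {X Y X'' Y'' : Sp S} (f : X ⟶ Y) (g : Y'' ⟶ Y) (b : X'' ⟶ X)
    (f'' : X'' ⟶ Y'') (sq : IsPullback b f'' f g) {U₀ V V'' : Over S}
    (p₀ : (yon S).obj U₀ ⟶ X) (bV : (yon S).obj V ⟶ Y) (b'' : (yon S).obj V'' ⟶ Y'') (β : V'' ⟶ V)
    (hβ : b'' ≫ g = (yon S).map β ≫ bV) (hbV : Representable bV) :
    ∃ (W U'' : Over S) (p1 : W ⟶ U₀) (h : W ⟶ V) (α : U'' ⟶ W) (h'' : U'' ⟶ V'')
      (a'' : (yon S).obj U'' ⟶ X''),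
      IsPullback ((yon S).map p1) ((yon S).map h) (p₀ ≫ f) bV ∧
      IsPullback α.left h''.left h.left β.left ∧
      a'' ≫ b = (yon S).map α ≫ (yon S).map p1 ≫ p₀ ∧ a'' ≫ f'' = (yon S).map h'' ≫ b'' ∧
      ∀ (P : MorphismProperty Scheme.{u}) [P.IsStableUnderBaseChange] [P.IsMultiplicative],
        RepWith P p₀ → RepWith P b'' → RepWith P a'' := by
  obtain ⟨W, p1, h, sqW⟩ := exists_isPullback_yon (p₀ ≫ f) bV hbV
  obtain ⟨U'', α, h'', sqU⟩ :=
    exists_isPullback_yon ((yon S).map h) ((yon S).map β) (representable_yon_map β)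
  have big := sqU.paste_horiz sqW
  rw [← hβ] at big
  have hw : ((yon S).map α ≫ (yon S).map p1 ≫ p₀) ≫ f = ((yon S).map h'' ≫ b'') ≫ g := by
    simpa only [Category.assoc] using big.w
  let a'' : (yon S).obj U'' ⟶ X'' := sq.lift _ _ hw
  have ha1 : a'' ≫ b = (yon S).map α ≫ (yon S).map p1 ≫ p₀ := sq.lift_fst _ _ _
  have ha2 : a'' ≫ f'' = (yon S).map h'' ≫ b'' := sq.lift_snd _ _ _
  refine ⟨W, U'', p1, h, α, h'', a'', sqW, isPullback_left_of_yon sqU, ha1, ha2, ?_⟩
  intro P _ _ hp₀ hb''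
  have sqP : IsPullback (pullback.fst f'' b'') (pullback.snd f'' b'') f'' b'' :=
    IsPullback.of_hasPullback _ _
  let c : (yon S).obj U'' ⟶ pullback f'' b'' := pullback.lift a'' ((yon S).map h'') ha2
  have hc1 : c ≫ pullback.fst f'' b'' = a'' := pullback.lift_fst _ _ _
  have hc2 : c ≫ pullback.snd f'' b'' = (yon S).map h'' := pullback.lift_snd _ _ _
  have sqPX := sqP.paste_horiz sq
  have big' : IsPullback ((yon S).map α ≫ (yon S).map p1) (c ≫ pullback.snd f'' b'') (p₀ ≫ f)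
      (b'' ≫ g) := by rw [hc2]; exact big
  have top : IsPullback ((yon S).map α ≫ (yon S).map p1) c p₀ (pullback.fst f'' b'' ≫ b) := by
    refine IsPullback.of_bot big' ?_ sqPX
    rw [← Category.assoc, hc1, ha1, Category.assoc]
  have h1 : RepWith P c := (RepWith P).of_isPullback top hp₀
  have h2 : RepWith P (pullback.fst f'' b'') := (RepWith P).of_isPullback sqP.flip hb''
  rw [← hc1]
  exact (RepWith P).comp_mem _ _ h1 h2

end Groth.Agent.Lib.Helper36.CartesianCharts
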