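import Groth.Agent.Lib.Helper36.QuasiFiniteAt
import Groth.Agent.Lib.Helper36.CartesianCharts
import Groth.Agent.Lib.Helper36.OpenSubspace
import Groth.Agent.Lib.Helper36.AlgSpHasAt
import Groth.Agent.Lib.Helper36.AlgSpHasAtMor

/-!
# The quasi-finite locus of a morphism of algebraic spaces (helper36)
-/

universe u

open CategoryTheory CategoryTheory.Limits AlgebraicGeometry
open AlgSp

namespace Groth.Agent.Lib.Helper36.QFLocus

open Groth.Agent.Lib.Helper36.AlgSpCharts Groth.Agent.Lib.Helper36.AlgSpChartDiag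
  Groth.Agent.Lib.Helper36.AlgSpHasAtMor Groth.Agent.Lib.Helper36.QuasiFiniteAt
  Groth.Agent.Lib.Helper36.OpenSubspace Groth.Agent.Lib.Helper37.AlgSpPoints

variable {S : Scheme.{u}}

/-- The set of points where `f` has relative dimension zero. -/
def qfLocus {X Y : Space S} (f : X ⟶ Y) : Set (Points X.obj) :=
  {x | HasAtMor (fun _ _ h u => FlatMor.fibreDimAt h u = 0) f.hom x}

theorem mem_qfLocus_iff_of_chart {X Y : Space S} (f : X ⟶ Y)
    (hf : LocP @LocallyOfFiniteType f.hom) {U V : Over S} (a : (yon S).obj U ⟶ X.obj)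
    (b : (yon S).obj V ⟶ Y.obj) (h : U ⟶ V) (ha : RepWith @Etale a) (hb : RepWith @Etale b)
    (w : a ≫ f.hom = (yon S).map h ≫ b) (u : ↥U.left) :
    Points.ofPt a u ∈ qfLocus f ↔ h.left.QuasiFiniteAt u := by
  have : LocallyOfFiniteType h.left := hf a b h ha hb w
  rw [← fibreDimAt_eq_zero_iff_quasiFiniteAt]
  constructor
  · intro hx
    exact (hasAtMor_iff_forall_chart (isEtaleLocalGermMor_fibreDimAt (· = 0)) f _).1 hx U V a b h u
      ha hb w rfl
  · intro hq
    exact ⟨U, V, a, b, h, u, ha, hb, w, rfl, hq⟩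

theorem isOpen_qfLocus {X Y : Space S} (f : X ⟶ Y) (hf : LocP @LocallyOfFiniteType f.hom) :
    IsOpen (qfLocus f) := by
  rw [isOpen_iff_forall_mem_open]
  intro x hx
  obtain ⟨W, V, a, b, h, w, hae, has, hbe, hbs, weq, hw, hv⟩ := exists_chart_diagram_at f x
  have : LocallyOfFiniteType h.left := hf a b h hae hbe weq
  refine ⟨Points.ofPt a '' (h.left.quasiFiniteLocus : Set ↥W.left), ?_,
    isOpenMap_ofPt a hae _ h.left.quasiFiniteLocus.isOpen, ⟨w, ?_, hw⟩⟩
  · rintro _ ⟨w', hw', rfl⟩
    exact (mem_qfLocus_iff_of_chart f hf a b h hae hbe weq w').2 hw'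
  · subst hw
    exact (mem_qfLocus_iff_of_chart f hf a b h hae hbe weq w).1 hx

/-- On the open subspace given by the quasi-finite locus, `f` is locally quasi-finite. -/
theorem locP_lqf_openSub {X Y : Space S} (f : X ⟶ Y) (hf : LocP @LocallyOfFiniteType f.hom) :
    LocP (@LocallyQuasiFinite ⊓ @LocallyOfFiniteType)
      (openSubι X.obj (qfLocus f) ≫ f.hom) := by
  intro U V a' b h' ha' hb w
  have hι : RepWith @Etale (openSubι X.obj (qfLocus f)) :=
    MorphismProperty.relative_monotone (fun _ _ g hg => by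
      have : IsOpenImmersion g.left := hg
      exact (inferInstance : Etale g.left)) _
      (repWith_isOpenImmersion_openSubι X.obj (qfLocus f) (isOpen_qfLocus f hf))
  have ha : RepWith @Etale (a' ≫ openSubι X.obj (qfLocus f)) :=
    (RepWith @Etale).comp_mem _ _ ha' hι
  have w' : (a' ≫ openSubι X.obj (qfLocus f)) ≫ f.hom = (yon S).map h' ≫ b := by
    rw [Category.assoc]; exact w
  have hlft : LocallyOfFiniteType h'.left := hf _ b h' ha hb w'
  refine ⟨?_, hlft⟩
  rw [← Scheme.Hom.quasiFiniteLocus_eq_top_iff]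
  apply top_le_iff.mp
  intro u _
  exact (mem_qfLocus_iff_of_chart f hf _ b h' ha hb w' u).1
    (ofPt_comp_openSubι_mem X.obj (qfLocus f) a' u)

end Groth.Agent.Lib.Helper36.QFLocus
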