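import Mathlib.AlgebraicGeometry.Morphisms.QuasiFinite
import Mathlib.AlgebraicGeometry.Morphisms.Etale
import Mathlib.RingTheory.AlgebraicIndependent.TranscendenceBasis
import Groth.Prelude.Def_Dual3
import Groth.Agent.Lib.Helper36.AlgSpHasAtMor

/-!
# Transcendence degree of residue field extensions (helper36)

`Dual3.resTrdeg` is additive along compositions, vanishes for locally quasi-finite morphisms, and
is therefore étale-local on source and target.
-/

universe u

open CategoryTheory CategoryTheory.Limits AlgebraicGeometry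

namespace Groth.Agent.Lib.Helper36.ResTrdeg

/-- Additivity of the residue transcendence degree along a composition. -/
theorem resTrdeg_comp {X Y Z : Scheme.{u}} (f : X ⟶ Y) (g : Y ⟶ Z) (x : ↥X) :
    Dual3.resTrdeg (f ≫ g) x = Dual3.resTrdeg g (f x) + Dual3.resTrdeg f x := by
  unfold Dual3.resTrdeg
  letI i1 := (g.residueFieldMap (f x)).hom.toAlgebra
  letI i2 := (f.residueFieldMap x).hom.toAlgebra
  letI i3 : Algebra (Z.residueField (g (f x))) (X.residueField x) :=
    ((f ≫ g).residueFieldMap x).hom.toAlgebra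
  have htow : IsScalarTower (Z.residueField (g (f x))) (Y.residueField (f x))
      (X.residueField x) := IsScalarTower.of_algebraMap_eq' (by
    show ((f ≫ g).residueFieldMap x).hom =
      (f.residueFieldMap x).hom.comp (g.residueFieldMap (f x)).hom
    rw [Scheme.residueFieldMap_comp]
    rfl)
  have hf1 : FaithfulSMul (Z.residueField (g (f x))) (Y.residueField (f x)) :=
    (faithfulSMul_iff_algebraMap_injective _ _).mpr (RingHom.injective _)
  have hf2 : FaithfulSMul (Y.residueField (f x)) (X.residueField x) :=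
    (faithfulSMul_iff_algebraMap_injective _ _).mpr (RingHom.injective _)
  exact (trdeg_add_eq (Z.residueField (g (f x))) (Y.residueField (f x))
    (A := X.residueField x)).symm

/-- The residue field extension of a locally quasi-finite morphism is finite. -/
theorem finite_residueField_of_locallyQuasiFinite {X Y : Scheme.{u}} (f : X ⟶ Y)
    [LocallyQuasiFinite f] (x : ↥X) :
    letI := (f.residueFieldMap x).hom.toAlgebra
    Module.Finite (Y.residueField (f x)) (X.residueField x) := by
  have hq := f.quasiFiniteAt x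
  algebraize [(f.stalkMap x).hom]
  have : IsLocalHom (algebraMap (Y.presheaf.stalk (f x)) (X.presheaf.stalk x)) :=
    inferInstanceAs <| IsLocalHom (f.stalkMap x).hom
  have hq' : Algebra.QuasiFinite ↥(Y.presheaf.stalk (f x)) ↥(X.presheaf.stalk x) := hq
  have h1 : Algebra.QuasiFinite ↥(Y.presheaf.stalk (f x))
      (IsLocalRing.ResidueField ↥(X.presheaf.stalk x)) :=
    inferInstanceAs <| Algebra.QuasiFinite ↥(Y.presheaf.stalk (f x))
      (↥(X.presheaf.stalk x) ⧸ IsLocalRing.maximalIdeal ↥(X.presheaf.stalk x))
  have h2 : Algebra.QuasiFinite (IsLocalRing.ResidueField ↥(Y.presheaf.stalk (f x)))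
      (IsLocalRing.ResidueField ↥(X.presheaf.stalk x)) :=
    Algebra.QuasiFinite.of_restrictScalars ↥(Y.presheaf.stalk (f x)) _ _
  have h3 : Module.Finite (IsLocalRing.ResidueField ↥(Y.presheaf.stalk (f x)))
      (IsLocalRing.ResidueField ↥(X.presheaf.stalk x)) := Module.Finite.of_quasiFinite
  have e : algebraMap (IsLocalRing.ResidueField ↥(Y.presheaf.stalk (f x)))
      (IsLocalRing.ResidueField ↥(X.presheaf.stalk x)) =
      IsLocalRing.ResidueField.map (f.stalkMap x).hom := by
    ext r
    obtain ⟨r, rfl⟩ := IsLocalRing.residue_surjective r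
    rfl
  have h4 := RingHom.finite_algebraMap.2 h3
  rw [e] at h4
  exact h4

/-- The residue transcendence degree of a locally quasi-finite morphism vanishes. -/
theorem resTrdeg_eq_zero_of_locallyQuasiFinite {X Y : Scheme.{u}} (f : X ⟶ Y)
    [LocallyQuasiFinite f] (x : ↥X) : Dual3.resTrdeg f x = 0 := by
  unfold Dual3.resTrdeg
  let _ := (f.residueFieldMap x).hom.toAlgebra
  have := finite_residueField_of_locallyQuasiFinite f x
  have : Algebra.IsAlgebraic (Y.residueField (f x)) (X.residueField x) :=
    Algebra.IsAlgebraic.of_finite _ _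
  exact trdeg_eq_zero

theorem locallyQuasiFinite_of_etale {X Y : Scheme.{u}} (f : X ⟶ Y) [Etale f] :
    LocallyQuasiFinite f := by
  refine ⟨fun {U} hU {V} hV e => ?_⟩
  have h := f.etale_appLE hU hV e
  algebraize [(f.appLE U V e).hom]
  have : Algebra.Etale Γ(Y, U) Γ(X, V) := h
  rw [RingHom.QuasiFinite]
  infer_instance

/-- The residue transcendence degree is étale-local on source and target. -/
theorem resTrdeg_eq {U U' V V' : Scheme.{u}} (h : U ⟶ V) (h' : U' ⟶ V') (a : U' ⟶ U)
    (b : V' ⟶ V) [Etale a] [Etale b] (comm : h' ≫ b = a ≫ h) (u' : ↥U') :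
    Dual3.resTrdeg h (a u') = Dual3.resTrdeg h' u' := by
  have := locallyQuasiFinite_of_etale a
  have := locallyQuasiFinite_of_etale b
  have h1 := resTrdeg_comp a h u'
  have h2 := resTrdeg_comp h' b u'
  rw [resTrdeg_eq_zero_of_locallyQuasiFinite a u', add_zero] at h1
  rw [resTrdeg_eq_zero_of_locallyQuasiFinite b (h' u'), zero_add] at h2
  rw [← h1, ← h2, comm]

open Groth.Agent.Lib.Helper36.AlgSpHasAtMor in
theorem isEtaleLocalGermMor_resTrdeg (φ : Cardinal.{u} → Prop) :
    IsEtaleLocalGermMor (fun _ _ h u => φ (Dual3.resTrdeg h u)) := by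
  intro U U' V V' h h' a b _ _ comm u'
  show φ (Dual3.resTrdeg h (a u')) ↔ φ (Dual3.resTrdeg h' u')
  rw [resTrdeg_eq h h' a b comm u']

end Groth.Agent.Lib.Helper36.ResTrdeg
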