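import Groth.Agent.Lib.Helper36.AlgSpCharts
import Groth.Agent.Lib.Helper36.AlgSpHasAt
import Groth.Agent.Lib.Helper37.AlgSpPoints

/-!
# Chart diagrams for morphisms of algebraic spaces (helper36)

For a morphism `f : X ⟶ Y` of algebraic spaces we produce a commutative square
`h_W ⟶ h_V` over `f` with both vertical maps representable étale surjective.
-/

universe u

open CategoryTheory CategoryTheory.Limits AlgebraicGeometry Opposite

namespace Groth.Agent.Lib.Helper36.AlgSpChartDiag

open AlgSp Groth.Agent.Lib.Helper36.AlgSpCharts Groth.Agent.Lib.Helper37.AlgSpPoints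

variable {S : Scheme.{u}}

/-- Composition of a scheme morphism with property `P` and a `RepWith P` chart is `RepWith P`. -/
theorem repWith_yon_map_comp {P : MorphismProperty Scheme.{u}} [P.IsStableUnderBaseChange]
    [P.IsStableUnderComposition] {F : Sp S} {W U : Over S} (g : W ⟶ U) (hg : P g.left)
    (p : (yon S).obj U ⟶ F) (hp : RepWith P p) : RepWith P ((yon S).map g ≫ p) :=
  (RepWith P).comp_mem _ _ ((repWith_yon_map_iff P _).2 hg) hp

/-- Given a chart `p : h_U ⟶ X` and a chart `b : h_V ⟶ Y`, there is a chart diagram over `f`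
refining them. -/
theorem exists_chart_diagram_of_charts {X Y : Sp S} (f : X ⟶ Y) {U V : Over S}
    (p : (yon S).obj U ⟶ X) (b : (yon S).obj V ⟶ Y) (hbe : RepWith @Etale b) :
    ∃ (W : Over S) (p1 : W ⟶ U) (h : W ⟶ V), Etale p1.left ∧
      (RepWith @Surjective b → Surjective p1.left) ∧
      IsPullback ((yon S).map p1) ((yon S).map h) (p ≫ f) b := by
  obtain ⟨W, p1, p2, sq⟩ := exists_isPullback_yon (p ≫ f) b hbe.rep
  exact ⟨W, p1, p2, prop_fst_of_isPullback sq hbe, fun hbs => prop_fst_of_isPullback sq hbs, sq⟩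

/-- A chart diagram over a morphism of algebraic spaces, with étale surjective vertical maps. -/
theorem exists_chart_diagram {X Y : Space S} (f : X ⟶ Y) :
    ∃ (W V : Over S) (a : (yon S).obj W ⟶ X.obj) (b : (yon S).obj V ⟶ Y.obj) (h : W ⟶ V),
      RepWith @Etale a ∧ RepWith @Surjective a ∧ RepWith @Etale b ∧ RepWith @Surjective b ∧
      a ≫ f.hom = (yon S).map h ≫ b := by
  obtain ⟨U, p, hpe, hps⟩ := X.property.atlas
  obtain ⟨V, b, hbe, hbs⟩ := Y.property.atlas
  obtain ⟨W, p1, h, h1, h2, sq⟩ := exists_chart_diagram_of_charts f.hom p b hbe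
  refine ⟨W, V, (yon S).map p1 ≫ p, b, h, repWith_yon_map_comp p1 h1 p hpe,
    repWith_yon_map_comp p1 (h2 hbs) p hps, hbe, hbs, ?_⟩
  rw [Category.assoc]
  exact sq.w

/-- A chart diagram through a given point. -/
theorem exists_chart_diagram_at {X Y : Space S} (f : X ⟶ Y) (x : Points X.obj) :
    ∃ (W V : Over S) (a : (yon S).obj W ⟶ X.obj) (b : (yon S).obj V ⟶ Y.obj) (h : W ⟶ V)
      (w : ↥W.left),
      RepWith @Etale a ∧ RepWith @Surjective a ∧ RepWith @Etale b ∧ RepWith @Surjective b ∧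
      a ≫ f.hom = (yon S).map h ≫ b ∧ Points.ofPt a w = x ∧
      Points.ofPt b (h.left w) = Points.map f.hom x := by
  obtain ⟨W, V, a, b, h, hae, has, hbe, hbs, weq⟩ := exists_chart_diagram f
  obtain ⟨w, hw⟩ := ofPt_surjective a has x
  refine ⟨W, V, a, b, h, w, hae, has, hbe, hbs, weq, hw, ?_⟩
  rw [← hw, Points.map_ofPt, weq, ofPt_map_comp]

/-- A chart diagram through a given point, with a prescribed étale surjective chart of the target. -/
theorem exists_chart_diagram_at_of_chart {X : Space S} {Y : Sp S} (f : X.obj ⟶ Y) {V : Over S}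
    (b : (yon S).obj V ⟶ Y) (hbe : RepWith @Etale b) (hbs : RepWith @Surjective b)
    (x : Points X.obj) :
    ∃ (W : Over S) (a : (yon S).obj W ⟶ X.obj) (h : W ⟶ V) (w : ↥W.left),
      RepWith @Etale a ∧ RepWith @Surjective a ∧
      a ≫ f = (yon S).map h ≫ b ∧ Points.ofPt a w = x ∧
      Points.ofPt b (h.left w) = Points.map f x := by
  obtain ⟨U, p, hpe, hps⟩ := X.property.atlas
  obtain ⟨W, p1, h, h1, h2, sq⟩ := exists_chart_diagram_of_charts f p b hbe
  have has : RepWith @Surjective ((yon S).map p1 ≫ p) := repWith_yon_map_comp p1 (h2 hbs) p hps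
  obtain ⟨w, hw⟩ := ofPt_surjective _ has x
  have weq : ((yon S).map p1 ≫ p) ≫ f = (yon S).map h ≫ b := by
    rw [Category.assoc]
    exact sq.w
  refine ⟨W, (yon S).map p1 ≫ p, h, w, repWith_yon_map_comp p1 h1 p hpe, has, weq, hw, ?_⟩
  rw [← hw, Points.map_ofPt, weq, ofPt_map_comp]

/-- A chart diagram over a composition of morphisms of algebraic spaces through a given point. -/
theorem exists_chart_diagram_comp_at {X Y Z : Space S} (f : X ⟶ Y) (g : Y ⟶ Z)
    (x : Points X.obj) :
    ∃ (W V T : Over S) (a : (yon S).obj W ⟶ X.obj) (b : (yon S).obj V ⟶ Y.obj)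
      (c : (yon S).obj T ⟶ Z.obj) (h : W ⟶ V) (k : V ⟶ T) (w : ↥W.left),
      RepWith @Etale a ∧ RepWith @Surjective a ∧ RepWith @Etale b ∧ RepWith @Surjective b ∧
      RepWith @Etale c ∧ RepWith @Surjective c ∧
      a ≫ f.hom = (yon S).map h ≫ b ∧ b ≫ g.hom = (yon S).map k ≫ c ∧ Points.ofPt a w = x ∧
      Points.ofPt b (h.left w) = Points.map f.hom x := by
  obtain ⟨V, T, b, c, k, hbe, hbs, hce, hcs, wk⟩ := exists_chart_diagram g
  obtain ⟨U, p, hpe, hps⟩ := X.property.atlas
  obtain ⟨W, p1, h, h1, h2, sq⟩ := exists_chart_diagram_of_charts f.hom p b hbe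
  have has : RepWith @Surjective ((yon S).map p1 ≫ p) := repWith_yon_map_comp p1 (h2 hbs) p hps
  obtain ⟨w, hw⟩ := ofPt_surjective _ has x
  have weq : ((yon S).map p1 ≫ p) ≫ f.hom = (yon S).map h ≫ b := by
    rw [Category.assoc]
    exact sq.w
  refine ⟨W, V, T, (yon S).map p1 ≫ p, b, c, h, k, w, repWith_yon_map_comp p1 h1 p hpe,
    has, hbe, hbs, hce, hcs, weq, wk, hw, ?_⟩
  rw [← hw, Points.map_ofPt, weq, ofPt_map_comp]

/-- An atlas, in the form used by `hasAt_iff_forall_chart`. -/
theorem atlas' (X : Space S) :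
    ∃ (U : Over S) (p : (yon S).obj U ⟶ X.obj), RepWith @Etale p ∧ RepWith @Surjective p :=
  X.property.atlas

end Groth.Agent.Lib.Helper36.AlgSpChartDiag
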