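import Mathlib.AlgebraicGeometry.ZariskisMainTheorem
import Groth.Agent.Lib.Helper36.FibreDimZero
import Groth.Agent.Lib.Helper36.FibreEtale

/-!
# Quasi-finiteness at a point, fibre dimension zero, and base change (helper36)
-/

universe u

open CategoryTheory CategoryTheory.Limits AlgebraicGeometry TopologicalSpace

namespace Groth.Agent.Lib.Helper36.QuasiFiniteAt

open Groth.Agent.Lib.Helper36.FibreDimZero

/-- For a morphism locally of finite type, the fibre has dimension zero at `u` iff the morphism is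
quasi-finite at `u`. -/
theorem fibreDimAt_eq_zero_iff_quasiFiniteAt {U V : Scheme.{u}} (h : U ⟶ V)
    [LocallyOfFiniteType h] (u : ↥U) :
    FlatMor.fibreDimAt h u = 0 ↔ h.QuasiFiniteAt u := by
  rw [Scheme.Hom.quasiFiniteAt_iff_isOpen_singleton_asFiber]
  exact ⟨isOpen_singleton_of_localDim_eq_zero _, localDim_eq_zero_of_isOpen_singleton _⟩

/-- An open point is a quasi-finite point. -/
theorem quasiFiniteAt_of_isOpen_singleton {U V : Scheme.{u}} (h : U ⟶ V)
    [LocallyOfFiniteType h] (u : ↥U) (hu : IsOpen ({u} : Set ↥U)) : h.QuasiFiniteAt u := by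
  rw [Scheme.Hom.quasiFiniteAt_iff_isOpen_singleton_asFiber]
  have : ({h.asFiber u} : Set ↥(h.fiber (h u))) = (h.fiberι (h u)) ⁻¹' {u} := by
    ext x
    simp only [Set.mem_singleton_iff, Set.mem_preimage]
    constructor
    · rintro rfl
      exact Scheme.Hom.fiberι_asFiber _ _
    · intro hx
      apply (h.fiberι _).isEmbedding.injective
      rw [Scheme.Hom.fiberι_asFiber, hx]
  rw [this]
  exact hu.preimage (h.fiberι (h u)).continuous

set_option backward.isDefEq.respectTransparency false in
/-- For a cartesian square, the induced map on fibres is a base change of the residue field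
extension; in particular it is an open map. -/
theorem exists_isOpenMap_fiber_map {U U' V V' : Scheme.{u}} (h : U ⟶ V) (h' : U' ⟶ V') (a : U' ⟶ U)
    (b : V' ⟶ V) (sq : IsPullback a h' h b) (v' : ↥V') (v : ↥V) (hv : b v' = v) :
    ∃ φ : h'.fiber v' ⟶ h.fiber v, IsOpenMap φ ∧ φ ≫ h.fiberι v = h'.fiberι v' ≫ a := by
  subst hv
  let φ : h'.fiber v' ⟶ h.fiber (b v') :=
    pullback.map h' (V'.fromSpecResidueField v') h (V.fromSpecResidueField (b v')) a
      (Spec.map (b.residueFieldMap v')) b sq.w.symm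
      (Scheme.Hom.SpecMap_residueFieldMap_fromSpecResidueField b v').symm
  have hφ1 : φ ≫ h.fiberι (b v') = h'.fiberι v' ≫ a := by simp [φ, Scheme.Hom.fiberι]
  have hφ2 : φ ≫ h.fiberToSpecResidueField (b v') =
      h'.fiberToSpecResidueField v' ≫ Spec.map (b.residueFieldMap v') := by
    simp [φ, Scheme.Hom.fiberToSpecResidueField]
  have sq1 : IsPullback (h'.fiberι v') (h'.fiberToSpecResidueField v') h'
      (V'.fromSpecResidueField v') := IsPullback.of_hasPullback _ _
  have sq2 : IsPullback (h.fiberι (b v')) (h.fiberToSpecResidueField (b v')) h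
      (V.fromSpecResidueField (b v')) := IsPullback.of_hasPullback _ _
  have big := sq1.paste_horiz sq
  rw [← Scheme.Hom.SpecMap_residueFieldMap_fromSpecResidueField b v', ← hφ1] at big
  have left : IsPullback φ (h'.fiberToSpecResidueField v') (h.fiberToSpecResidueField (b v'))
      (Spec.map (b.residueFieldMap v')) := IsPullback.of_right big hφ2 sq2
  have : UniversallyOpen (Spec.map (b.residueFieldMap v')) := inferInstance
  have : UniversallyOpen φ :=
    MorphismProperty.of_isPullback (P := @UniversallyOpen) left.flip this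
  exact ⟨φ, φ.isOpenMap, hφ1⟩

/-- Quasi-finiteness at a point descends along arbitrary base change. -/
theorem quasiFiniteAt_of_isPullback {U U' V V' : Scheme.{u}} (h : U ⟶ V) (h' : U' ⟶ V')
    (a : U' ⟶ U) (b : V' ⟶ V) (sq : IsPullback a h' h b) [LocallyOfFiniteType h] (u' : ↥U')
    (hq : h'.QuasiFiniteAt u') : h.QuasiFiniteAt (a u') := by
  have : LocallyOfFiniteType h' := MorphismProperty.of_isPullback (P := @LocallyOfFiniteType) sq ‹_›
  have hv : b (h' u') = h (a u') := by
    rw [← Scheme.Hom.comp_apply, sq.w.symm, Scheme.Hom.comp_apply]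
  obtain ⟨φ, hφo, hφι⟩ := exists_isOpenMap_fiber_map h h' a b sq (h' u') (h (a u')) hv
  rw [Scheme.Hom.quasiFiniteAt_iff_isOpen_singleton_asFiber] at hq ⊢
  have hpt : φ (h'.asFiber u') = h.asFiber (a u') := by
    apply (h.fiberι _).isEmbedding.injective
    rw [← Scheme.Hom.comp_apply, hφι, Scheme.Hom.comp_apply, Scheme.Hom.fiberι_asFiber,
      Scheme.Hom.fiberι_asFiber]
  have := hφo _ hq
  rwa [Set.image_singleton, hpt] at this

/-- Quasi-finiteness at a point is stable under base change. -/
theorem quasiFiniteAt_of_isPullback' {U U' V V' : Scheme.{u}} (h : U ⟶ V) (h' : U' ⟶ V')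
    (a : U' ⟶ U) (b : V' ⟶ V) (sq : IsPullback a h' h b) [LocallyOfFiniteType h] (u' : ↥U')
    (hq : h.QuasiFiniteAt (a u')) : h'.QuasiFiniteAt u' := by
  have : LocallyOfFiniteType h' := MorphismProperty.of_isPullback (P := @LocallyOfFiniteType) sq ‹_›
  -- restrict to the quasi-finite locus
  let W := h.quasiFiniteLocus
  let W' : U'.Opens := a ⁻¹ᵁ W
  have hu' : u' ∈ W' := hq
  -- the restricted square is cartesian
  have sqW : IsPullback (a ∣_ W) W'.ι W.ι a := isPullback_morphismRestrict a W
  have sq' : IsPullback (a ∣_ W) (W'.ι ≫ h') (W.ι ≫ h) b := sqW.paste_vert sq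
  have : LocallyQuasiFinite (W'.ι ≫ h') :=
    MorphismProperty.of_isPullback (P := @LocallyQuasiFinite) sq' inferInstance
  have h1 : (W'.ι ≫ h').QuasiFiniteAt ⟨u', hu'⟩ := Scheme.Hom.quasiFiniteAt _ _
  rwa [Scheme.Hom.quasiFiniteAt_comp_iff_of_isOpenImmersion] at h1

theorem quasiFiniteAt_iff_of_isPullback {U U' V V' : Scheme.{u}} (h : U ⟶ V) (h' : U' ⟶ V')
    (a : U' ⟶ U) (b : V' ⟶ V) (sq : IsPullback a h' h b) [LocallyOfFiniteType h] (u' : ↥U') :
    h'.QuasiFiniteAt u' ↔ h.QuasiFiniteAt (a u') :=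
  ⟨quasiFiniteAt_of_isPullback h h' a b sq u', quasiFiniteAt_of_isPullback' h h' a b sq u'⟩

/-- The template form of "quasi-finite at a point". -/
theorem exists_opens_lqf_iff_quasiFiniteAt {U V : Scheme.{u}} (h : U ⟶ V) [LocallyOfFiniteType h]
    (u : ↥U) :
    (∃ W : U.Opens, u ∈ W ∧ LocallyQuasiFinite (W.ι ≫ h) ∧ LocallyOfFiniteType (W.ι ≫ h)) ↔
      h.QuasiFiniteAt u := by
  constructor
  · rintro ⟨W, hu, hq, -⟩
    have h1 : (W.ι ≫ h).QuasiFiniteAt ⟨u, hu⟩ := Scheme.Hom.quasiFiniteAt _ _
    rwa [Scheme.Hom.quasiFiniteAt_comp_iff_of_isOpenImmersion] at h1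
  · intro hq
    exact ⟨h.quasiFiniteLocus, hq, inferInstance, inferInstance⟩

/-- In a Noetherian space there are only finitely many open points. -/
theorem finite_isOpen_singleton {X : Type*} [TopologicalSpace X] [NoetherianSpace X] :
    {x : X | IsOpen ({x} : Set X)}.Finite := by
  have hc : IsCompact {x : X | IsOpen ({x} : Set X)} := NoetherianSpace.isCompact _
  refine hc.finite ?_
  rw [isDiscrete_iff_discreteTopology, discreteTopology_iff_isOpen_singleton]
  rintro ⟨x, hx⟩
  have : ({⟨x, hx⟩} : Set ↥{x : X | IsOpen ({x} : Set X)}) = Subtype.val ⁻¹' {x} := by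
    ext y
    simp [Subtype.ext_iff]
  rw [this]
  exact (hx : IsOpen ({x} : Set X)).preimage continuous_subtype_val

/-- For a morphism of finite type, each fibre contains only finitely many points at which the
morphism is quasi-finite. -/
theorem finite_quasiFiniteAt_fiber {U V : Scheme.{u}} (h : U ⟶ V) [LocallyOfFiniteType h]
    [QuasiCompact h] (v : ↥V) : {u : ↥U | h u = v ∧ h.QuasiFiniteAt u}.Finite := by
  have : IsNoetherian (h.fiber v) := { }
  have hfin := finite_isOpen_singleton (X := ↥(h.fiber v))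
  refine (hfin.image (h.fiberι v)).subset ?_
  rintro u ⟨rfl, hq⟩
  rw [Scheme.Hom.quasiFiniteAt_iff_isOpen_singleton_asFiber] at hq
  exact ⟨h.asFiber u, hq, Scheme.Hom.fiberι_asFiber _ _⟩

end Groth.Agent.Lib.Helper36.QuasiFiniteAt
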