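import Mathlib
import Groth.Prelude.Def_AlgSpInf
import Groth.Agent.Lib.Helper57.FOThick
import Groth.Agent.Lib.Helper36.FibreEtale
import Groth.Agent.Lib.Helper36.AlgSpCharts
import Groth.Agent.Lib.Helper36.Thickening

/-!
# Finite-order thickenings and finite type (helper36)

* `ringHom_finiteType_of_nilpotent`: `A → B → C` with `B → C` surjective with nilpotent kernel
  `J·B` and `A → C` of finite type: then `A → B` is of finite type.
* `locallyOfFiniteType_of_isPullback`: cartesian square of schemes over a closed immersion with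
  nilpotent pulled-back ideal: finite type ascends.
* `fibreDimAt_eq_of_isPullback`: fibre dimensions agree in a cartesian square over an immersion.
* `exists_pullback_chart_diagram`: pull back a chart diagram along a cartesian morphism of
  thickenings of algebraic spaces.
-/

universe u
open CategoryTheory CategoryTheory.Limits AlgebraicGeometry

namespace Groth.Agent.Lib.Helper36.ThickFT


theorem finiteType_of_nilpotent {A B C : Type*} [CommRing A] [CommRing B] [CommRing C]
    [Algebra A B] [Algebra A C] (ψ : B →ₐ[A] C) (hψ : Function.Surjective ψ) (J : Ideal A)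
    (hker : RingHom.ker (ψ : B →+* C) = J.map (algebraMap A B)) (n : ℕ)
    (hn : (RingHom.ker (ψ : B →+* C)) ^ (n + 1) = ⊥)
    [hft : Algebra.FiniteType A C] : Algebra.FiniteType A B := by
  obtain ⟨s, hs⟩ := hft.out
  have : ∀ c : C, ∃ b : B, ψ b = c := hψ
  choose g hg using this
  classical
  let t : Finset B := s.image g
  refine ⟨⟨t, ?_⟩⟩
  set D : Subalgebra A B := Algebra.adjoin A (t : Set B) with hD
  have hDmap : D.map ψ = ⊤ := by
    rw [hD, AlgHom.map_adjoin, eq_top_iff, ← hs]
    apply Algebra.adjoin_mono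
    intro c hc
    refine ⟨g c, ?_, hg c⟩
    simp only [t, Finset.coe_image]
    exact ⟨c, hc, rfl⟩
  have base : (⊤ : Submodule A B) ≤ Subalgebra.toSubmodule D ⊔ (J • ⊤ : Submodule A B) := by
    intro b _
    have : ψ b ∈ D.map ψ := by rw [hDmap]; trivial
    obtain ⟨c, hc, hcb⟩ := this
    have hk : b - c ∈ RingHom.ker (ψ : B →+* C) := by
      rw [RingHom.mem_ker]
      change ψ (b - c) = 0
      rw [map_sub, sub_eq_zero]
      exact hcb.symm
    rw [hker] at hk
    have hk' : b - c ∈ (J • ⊤ : Submodule A B) := by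
      rw [Ideal.smul_top_eq_map]
      exact hk
    have : b = c + (b - c) := by ring
    rw [this]
    exact Submodule.add_mem_sup hc hk'
  have step : ∀ m : ℕ, (⊤ : Submodule A B) ≤
      Subalgebra.toSubmodule D ⊔ (J ^ m • ⊤ : Submodule A B) := by
    intro m
    induction m with
    | zero =>
      rw [pow_zero, Ideal.one_eq_top, Submodule.top_smul]
      exact le_sup_right
    | succ m ih =>
      refine ih.trans (sup_le le_sup_left ?_)
      calc (J ^ m • ⊤ : Submodule A B)
          ≤ J ^ m • (Subalgebra.toSubmodule D ⊔ (J • ⊤ : Submodule A B)) :=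
            Submodule.smul_mono le_rfl base
        _ = J ^ m • Subalgebra.toSubmodule D ⊔ J ^ m • (J • ⊤ : Submodule A B) :=
            Submodule.smul_sup _ _ _
        _ ≤ Subalgebra.toSubmodule D ⊔ (J ^ (m + 1) • ⊤ : Submodule A B) := by
            refine sup_le_sup Submodule.smul_le_right ?_
            rw [← mul_smul, ← pow_succ]
  have hz : (J ^ (n + 1) • ⊤ : Submodule A B) = ⊥ := by
    rw [Ideal.smul_top_eq_map, Ideal.map_pow, ← hker, hn]
    rfl
  have := step (n + 1)
  rw [hz, sup_bot_eq] at this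
  exact Algebra.toSubmodule_eq_top.1 (top_le_iff.mp this)

theorem ringHom_finiteType_of_nilpotent {A B C : Type*} [CommRing A] [CommRing B] [CommRing C]
    (φ : A →+* B) (ψ : B →+* C) (hψ : Function.Surjective ψ) (J : Ideal A)
    (hker : RingHom.ker ψ = J.map φ) (n : ℕ) (hn : (RingHom.ker ψ) ^ (n + 1) = ⊥)
    (hft : (ψ.comp φ).FiniteType) : φ.FiniteType := by
  algebraize [φ, ψ.comp φ]
  let ψ' : B →ₐ[A] C := ⟨ψ, fun a => rfl⟩
  exact finiteType_of_nilpotent ψ' hψ J hker n hn

theorem appLE_congr_hom {X Y : Scheme.{u}} {f g : X ⟶ Y} (hfg : f = g) (U : Y.Opens) (V : X.Opens)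
    (e : V ≤ f ⁻¹ᵁ U) : f.appLE U V e = g.appLE U V (hfg ▸ e) := by
  subst hfg; rfl

/-- In a cartesian square of schemes whose vertical arrows are closed immersions with nilpotent
ideal, the top arrow is locally of finite type if the bottom one is. -/
theorem locallyOfFiniteType_of_isPullback {U U' V V' : Scheme.{u}} {h : U ⟶ V} {iU : U ⟶ U'}
    {jV : V ⟶ V'} {h' : U' ⟶ V'} (sq : IsPullback h iU jV h') [IsClosedImmersion jV] (n : ℕ)
    (hn : iU.ker ^ (n + 1) = ⊥) [LocallyOfFiniteType h] : LocallyOfFiniteType h' := by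
  have : IsClosedImmersion iU := MorphismProperty.of_isPullback sq ‹_›
  rw [HasRingHomProperty.iff_appLE (P := @LocallyOfFiniteType)]
  intro W' Z' e
  have hker : iU.ker = jV.ker.comap h' := Groth.Agent.Lib.Helper57.FOThick.ker_of_isPullback sq
  refine ringHom_finiteType_of_nilpotent (h'.appLE W' Z' e).hom (iU.app Z').hom
    (iU.app_surjective Z' Z'.2) (jV.ker.ideal W') ?_ n ?_ ?_
  · rw [← Scheme.Hom.ker_apply, hker,
      Groth.Agent.Lib.Helper82.ideal_comap_of_le h' jV.ker Z'.1 Z'.2 W'.1 W'.2 e]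
  · rw [← Scheme.Hom.ker_apply]
    have := congrFun (congrArg Scheme.IdealSheafData.ideal hn) Z'
    rw [Scheme.IdealSheafData.ideal_pow, Pi.pow_apply] at this
    exact this
  · have e' : iU ⁻¹ᵁ Z'.1 ≤ h ⁻¹ᵁ (jV ⁻¹ᵁ W'.1) := by
      intro x hx
      have h1 : h' (iU x) ∈ W'.1 := e hx
      have h2 : (iU ≫ h') x = (h ≫ jV) x := by rw [sq.w]
      rw [Scheme.Hom.comp_apply, Scheme.Hom.comp_apply] at h2
      change jV (h x) ∈ W'.1
      rw [← h2]
      exact h1
    have key : h'.appLE W' Z' e ≫ iU.app Z' = jV.app W' ≫ h.appLE (jV ⁻¹ᵁ W') (iU ⁻¹ᵁ Z') e' := by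
      rw [Scheme.Hom.app_eq_appLE, Scheme.Hom.appLE_comp_appLE, ← Scheme.Hom.comp_appLE]
      exact appLE_congr_hom sq.w.symm _ _ _
    rw [← CommRingCat.hom_comp, key, CommRingCat.hom_comp]
    exact RingHom.FiniteType.comp
      (h.finiteType_appLE (W'.2.preimage jV) (Z'.2.preimage iU) e')
      (RingHom.FiniteType.of_surjective _ (jV.app_surjective W' W'.2))



/-- Residue field maps of preimmersions are isomorphisms. -/
theorem isIso_residueFieldMap_of_isPreimmersion {Z X : Scheme.{u}} (g : Z ⟶ X)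
    [IsPreimmersion g] (z : Z) : IsIso (g.residueFieldMap z) := by
  rw [ConcreteCategory.isIso_iff_bijective]
  refine ⟨RingHom.injective (g.residueFieldMap z).hom, ?_⟩
  intro w
  obtain ⟨s, rfl⟩ := Z.residue_surjective z w
  obtain ⟨t, rfl⟩ := g.stalkMap_surjective z s
  refine ⟨X.residue (g z) t, ?_⟩
  have := Scheme.residue_residueFieldMap g z
  exact congrArg (fun φ => φ.hom t) this

set_option backward.isDefEq.respectTransparency false in
/-- In a cartesian square with `jV` a (pre)immersion, the fibres of `h` and `h'` are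
identified, so local dimensions agree. -/
theorem localDim_fiber_eq_of_isPullback {U U' V V' : Scheme.{u}} {h : U ⟶ V} {iU : U ⟶ U'}
    {jV : V ⟶ V'} {h' : U' ⟶ V'} (sq : IsPullback h iU jV h') [IsPreimmersion jV]
    (v : V) (v' : V') (hv : jV v = v') (x : ↥(h.fiber v)) (x' : ↥(h'.fiber v'))
    (hx : iU (h.fiberι v x) = h'.fiberι v' x') :
    FlatMor.localDim ↥(h.fiber v) x = FlatMor.localDim ↥(h'.fiber v') x' := by
  subst hv
  have hiso : IsIso (jV.residueFieldMap v) := isIso_residueFieldMap_of_isPreimmersion jV v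
  have hiso' : IsIso (Spec.map (jV.residueFieldMap v)) := inferInstance
  have pb := isPullback_fiberToSpecResidueField_of_isPullback sq.flip v
  set φ : h.fiber v ⟶ h'.fiber (jV v) :=
    pullback.map _ _ _ _ iU (Spec.map (jV.residueFieldMap v)) jV sq.flip.w.symm (by simp) with hφ
  have hφiso : IsIso φ := pb.isIso_fst_of_isIso
  have hφι : φ ≫ h'.fiberι (jV v) = h.fiberι v ≫ iU := by
    simp [hφ, Scheme.Hom.fiberι]
  have hpt : φ x = x' := by
    apply (h'.fiberι (jV v)).isEmbedding.injective
    rw [← hx, ← Scheme.Hom.comp_apply, hφι, Scheme.Hom.comp_apply]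
  rw [EtaleLocalDim.localDim_eq_of_etale φ x, hpt]

theorem fibreDimAt_eq_of_isPullback {U U' V V' : Scheme.{u}} {h : U ⟶ V} {iU : U ⟶ U'}
    {jV : V ⟶ V'} {h' : U' ⟶ V'} (sq : IsPullback h iU jV h') [IsPreimmersion jV] (u : ↥U) :
    FlatMor.fibreDimAt h u = FlatMor.fibreDimAt h' (iU u) := by
  have hv : jV (h u) = h' (iU u) := by
    rw [← Scheme.Hom.comp_apply, sq.w, Scheme.Hom.comp_apply]
  exact localDim_fiber_eq_of_isPullback sq (h u) (h' (iU u)) hv (h.asFiber u) (h'.asFiber (iU u))
    (by rw [Scheme.Hom.fiberι_asFiber, Scheme.Hom.fiberι_asFiber])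



open AlgSp Groth.Agent.Lib.Helper36.AlgSpCharts

variable {S : Scheme.{u}}

/-- Pull back a chart diagram of `f'` along a cartesian morphism of thickenings. -/
theorem exists_pullback_chart_diagram {X X' Y Y' : Sp S} (i : X ⟶ X') (j : Y ⟶ Y') (f : X ⟶ Y)
    (f' : X' ⟶ Y') (hi : IsThickMor i) (hj : IsThickMor j) (hcart : IsPullback i f f' j)
    {U' V' : Over S} (a' : (yon S).obj U' ⟶ X') (b' : (yon S).obj V' ⟶ Y') (h' : U' ⟶ V')
    (ha' : RepWith @Etale a') (hb' : RepWith @Etale b') (w' : a' ≫ f' = (yon S).map h' ≫ b') :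
    ∃ (U V : Over S) (a : (yon S).obj U ⟶ X) (b : (yon S).obj V ⟶ Y) (h : U ⟶ V) (iU : U ⟶ U')
      (jV : V ⟶ V'),
      RepWith @Etale a ∧ RepWith @Etale b ∧ a ≫ f = (yon S).map h ≫ b ∧
      IsPullback a ((yon S).map iU) i a' ∧ IsPullback b ((yon S).map jV) j b' ∧
      IsPullback h.left iU.left jV.left h'.left ∧ thick iU.left ∧ thick jV.left := by
  have sqU := hi.rep.isPullback a'
  have sqV := hj.rep.isPullback b'
  set a := hi.rep.fst a'
  set iU := hi.rep.snd a'
  set b := hj.rep.fst b'
  set jV := hj.rep.snd b'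
  have hae : RepWith @Etale a := MorphismProperty.of_isPullback (P := RepWith @Etale) sqU.flip ha'
  have hbe : RepWith @Etale b := MorphismProperty.of_isPullback (P := RepWith @Etale) sqV.flip hb'
  have hw : (a ≫ f) ≫ j = ((yon S).map iU ≫ (yon S).map h') ≫ b' := by
    rw [Category.assoc, ← hcart.w, ← Category.assoc, sqU.w, Category.assoc, w', Category.assoc]
  obtain ⟨h, hh⟩ := (yon S).map_surjective (sqV.lift (a ≫ f) ((yon S).map iU ≫ (yon S).map h') hw)
  have h1 : (yon S).map h ≫ b = a ≫ f := by rw [hh, sqV.lift_fst]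
  have h2 : (yon S).map h ≫ (yon S).map jV = (yon S).map iU ≫ (yon S).map h' := by
    rw [hh, sqV.lift_snd]
  have big : IsPullback (a ≫ f) ((yon S).map iU) j (a' ≫ f') := sqU.paste_horiz hcart.flip
  rw [← h1, w'] at big
  have left : IsPullback ((yon S).map h) ((yon S).map iU) ((yon S).map jV) ((yon S).map h') :=
    IsPullback.of_right big h2 sqV
  exact ⟨_, _, a, b, h, iU, jV, hae, hbe, h1.symm, sqU, sqV, isPullback_left_of_yon left,
    hi.property_snd a', hj.property_snd b'⟩


end Groth.Agent.Lib.Helper36.ThickFT
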