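import Mathlib
import Groth.Agent.Lib.Helper93.Birat
import Groth.Agent.Lib.Helper36.ResTrdeg

/-!
# Scheme-level lemmas for birational morphisms (helper36)

* `isIso_snd_fromSpecStalk`: base change to `Spec O_{V, g u}` is an isomorphism when `u` is the only
  point over generizations of `g u` and the stalk map at `u` is an isomorphism;
* `exists_iso_specStalk`: local rings of an open subscheme;
* `eq_of_specializes_of_isIntegral`: no specializations in a fibre at a point with algebraic residue
  field extension;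
* `isIntegral_residueFieldMap_of_sq`: algebraicity of a residue field extension through an étale map.
-/

universe u
open CategoryTheory CategoryTheory.Limits AlgebraicGeometry

namespace Groth.Agent.Lib.Helper36.BiratPts

open Groth.Agent.Lib.Helper93.Birat Groth.Agent.Lib.Helper36.ResTrdeg

theorem isIso_snd_fromSpecStalk {U V : Scheme.{u}} (g : U ⟶ V) (u : U) [IsIso (g.stalkMap u)]
    (hfib : ∀ u' : U, g u' ⤳ g u → u' = u) :
    IsIso (pullback.snd g (V.fromSpecStalk (g u))) := by
  set P := pullback g (V.fromSpecStalk (g u)) with hP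
  let s : Spec (U.presheaf.stalk u) ⟶ P :=
    pullback.lift (U.fromSpecStalk u) (Spec.map (g.stalkMap u))
      (Scheme.SpecMap_stalkMap_fromSpecStalk (f := g) (x := u)).symm
  have hs1 : s ≫ pullback.fst _ _ = U.fromSpecStalk u := pullback.lift_fst _ _ _
  have hs2 : s ≫ pullback.snd _ _ = Spec.map (g.stalkMap u) := pullback.lift_snd _ _ _
  have hpts : ∀ z : P, (pullback.fst g (V.fromSpecStalk (g u))) z = u := by
    intro z
    apply hfib
    have h1 : g ((pullback.fst g (V.fromSpecStalk (g u))) z) =
        (V.fromSpecStalk (g u)) ((pullback.snd g (V.fromSpecStalk (g u))) z) := by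
      have := congrArg (fun k => k z) (congrArg (fun k : P ⟶ V => (k.base : P → V))
        (pullback.condition (f := g) (g := V.fromSpecStalk (g u))))
      simpa using this
    have h2 : g ((pullback.fst g (V.fromSpecStalk (g u))) z) ∈
        Set.range (V.fromSpecStalk (g u)) := ⟨_, h1.symm⟩
    rw [Scheme.range_fromSpecStalk] at h2
    exact h2
  let p₀ : P := s (IsLocalRing.closedPoint _)
  have hp₀ : ∀ z : P, z = p₀ := by
    intro z
    apply (pullback.fst g (V.fromSpecStalk (g u))).isEmbedding.injective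
    rw [hpts z, hpts p₀]
  have : IsAffine P := isAffine_of_forall_eq P p₀ hp₀
  have : IsLocalRing Γ(P, ⊤) := isLocalRing_of_forall_eq P p₀ hp₀
  obtain ⟨t', ht'⟩ := exists_factor_fromSpecStalk (P.isoSpec.inv ≫ pullback.fst _ _) u
    (by rw [Scheme.Hom.comp_apply]; exact hpts _)
  let t : P ⟶ Spec (U.presheaf.stalk u) := P.isoSpec.hom ≫ t'
  have ht : t ≫ U.fromSpecStalk u = pullback.fst _ _ := by
    simp only [t, Category.assoc, ht', Iso.hom_inv_id_assoc]
  have hsnd : pullback.snd g (V.fromSpecStalk (g u)) = t ≫ Spec.map (g.stalkMap u) := by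
    rw [← cancel_mono (V.fromSpecStalk (g u)), ← pullback.condition, Category.assoc,
      Scheme.SpecMap_stalkMap_fromSpecStalk, ← Category.assoc, ht]
  have hst : s ≫ t = 𝟙 _ := by
    rw [← cancel_mono (U.fromSpecStalk u), Category.assoc, ht, hs1, Category.id_comp]
  have hts : t ≫ s = 𝟙 _ := by
    apply pullback.hom_ext
    · rw [Category.assoc, hs1, ht, Category.id_comp]
    · rw [Category.assoc, hs2, ← hsnd, Category.id_comp]
  have : IsIso t := ⟨s, hts, hst⟩
  rw [hsnd]
  infer_instance

theorem exists_iso_specStalk {V' V : Scheme.{u}} (p : V' ⟶ V) [IsOpenImmersion p] (v' : V') (v : V)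
    (hv : p v' = v) :
    ∃ e : Spec (V.presheaf.stalk v) ≅ Spec (V'.presheaf.stalk v'),
      e.hom ≫ V'.fromSpecStalk v' ≫ p = V.fromSpecStalk v := by
  subst hv
  refine ⟨(asIso (Spec.map (p.stalkMap v'))).symm, ?_⟩
  rw [Iso.symm_hom, asIso_inv, ← Scheme.SpecMap_stalkMap_fromSpecStalk, IsIso.inv_hom_id_assoc]

theorem eq_of_specializes_of_isIntegral {W V : Scheme.{u}} (h : W ⟶ V) {w w' : W} (hs : w ⤳ w')
    (he : h w' = h w) (hint : (h.residueFieldMap w).hom.IsIntegral) : w = w' := by
  have hsV : h w ⤳ h w' := h.base.hom.map_specializes hs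
  have hsV' : h w' ⤳ h w := by rw [he]
  have hsurjV : Function.Surjective (V.presheaf.stalkSpecializes hsV).hom := by
    have : IsIso (V.presheaf.stalkSpecializes hsV) := by
      refine ⟨V.presheaf.stalkSpecializes hsV', ?_, ?_⟩ <;>
      · rw [TopCat.Presheaf.stalkSpecializes_comp]; exact TopCat.Presheaf.stalkSpecializes_refl _ _
    exact ((ConcreteCategory.isIso_iff_bijective _).mp this).2
  have hcomm := h.stalkSpecializes_stalkMap w w' hs
  obtain ⟨φ, hφ⟩ : ∃ φ, φ = W.presheaf.stalkSpecializes hs := ⟨_, rfl⟩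
  rw [← hφ] at hcomm
  let _ := (h.residueFieldMap w).hom.toAlgebra
  have hmem : ∀ k : V.residueField (h w),
      (h.residueFieldMap w).hom k ∈ (φ ≫ W.residue w).hom.range := by
    intro k
    obtain ⟨d, rfl⟩ := V.residue_surjective (h w) k
    obtain ⟨d', rfl⟩ := hsurjV d
    refine ⟨(h.stalkMap w').hom d', ?_⟩
    have e1 := congrArg (fun q => q.hom d') (congrArg (fun q => q ≫ W.residue w) hcomm)
    have e2 := congrArg (fun q => q.hom ((V.presheaf.stalkSpecializes hsV).hom d'))
      (Scheme.residue_residueFieldMap h w)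
    simp only [CommRingCat.hom_comp, RingHom.comp_apply, Category.assoc] at e1 e2 ⊢
    rw [e2, e1]
  let D : Subalgebra (V.residueField (h w)) (W.residueField w) :=
    { (φ ≫ W.residue w).hom.range.toSubsemiring with
      algebraMap_mem' := hmem }
  have hloc : IsLocalHom φ.hom := by
    constructor
    intro a ha
    have hz : (φ ≫ W.residue w).hom a ≠ 0 := by
      simp only [CommRingCat.hom_comp, RingHom.comp_apply]
      intro h0
      exact (IsLocalRing.residue_eq_zero_iff _).mp h0 ha
    have hzD : (φ ≫ W.residue w).hom a ∈ D := ⟨a, rfl⟩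
    have hinv : ((φ ≫ W.residue w).hom a)⁻¹ ∈ D :=
      D.inv_mem_of_algebraic (x := ⟨_, hzD⟩)
        (show IsIntegral (V.residueField (h w)) ((φ ≫ W.residue w).hom a) from hint _).isAlgebraic
    obtain ⟨a', ha'⟩ := hinv
    have h1 : (φ ≫ W.residue w).hom (a * a' - 1) = 0 := by
      rw [map_sub, map_mul, ha', map_one, mul_inv_cancel₀ hz, sub_self]
    have h2 : ¬ IsUnit (φ.hom (a * a' - 1)) := by
      simp only [CommRingCat.hom_comp, RingHom.comp_apply] at h1
      exact (IsLocalRing.residue_eq_zero_iff _).mp h1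
    have h3 : ¬ IsUnit (a * a' - 1) := fun hu => h2 (hu.map φ.hom)
    have h4 : IsUnit (a * a') := by
      rcases IsLocalRing.isUnit_or_isUnit_of_add_one (a := a * a') (b := 1 - a * a') (by ring)
        with h5 | h5
      · exact h5
      · exfalso
        apply h3
        have : a * a' - 1 = -(1 - a * a') := by ring
        rw [this]
        exact h5.neg
    exact isUnit_of_mul_isUnit_left h4
  have h1 := Scheme.SpecMap_stalkSpecializes_fromSpecStalk hs
  rw [← hφ] at h1
  have h2 : Spec.map φ (IsLocalRing.closedPoint _) = IsLocalRing.closedPoint _ :=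
    IsLocalRing.comap_closedPoint φ.hom
  calc w = W.fromSpecStalk w (IsLocalRing.closedPoint _) := Scheme.fromSpecStalk_closedPoint.symm
    _ = (Spec.map φ ≫ W.fromSpecStalk w') (IsLocalRing.closedPoint _) := by rw [h1]
    _ = W.fromSpecStalk w' (Spec.map φ (IsLocalRing.closedPoint _)) := Scheme.Hom.comp_apply _ _ _
    _ = w' := by rw [h2, Scheme.fromSpecStalk_closedPoint]

theorem isIntegral_residueFieldMap_of_sq {W'' W' U V : Scheme.{u}} (j : W'' ⟶ W') (k : W' ⟶ V)
    (l : W'' ⟶ U) (g : U ⟶ V) [IsOpenImmersion j] [Etale l] (comm : j ≫ k = l ≫ g) (w₁ : W'')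
    [IsIso (g.stalkMap (l w₁))] : (k.residueFieldMap (j w₁)).hom.IsIntegral := by
  have h1 : (j ≫ k).residueFieldMap w₁ = k.residueFieldMap (j w₁) ≫ j.residueFieldMap w₁ :=
    Scheme.residueFieldMap_comp _ _ _
  have h2 : (l ≫ g).residueFieldMap w₁ = g.residueFieldMap (l w₁) ≫ l.residueFieldMap w₁ :=
    Scheme.residueFieldMap_comp _ _ _
  have h3 := Scheme.Hom.residueFieldMap_congr comm w₁
  have hl : (l.residueFieldMap w₁).hom.IsIntegral := by
    have := locallyQuasiFinite_of_etale l
    have hfin : (l.residueFieldMap w₁).hom.Finite := finite_residueField_of_locallyQuasiFinite l w₁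
    exact hfin.to_isIntegral
  have hg : Function.Surjective (g.residueFieldMap (l w₁)).hom := by
    intro z
    obtain ⟨c, rfl⟩ := U.residue_surjective (l w₁) z
    obtain ⟨c', rfl⟩ := ((ConcreteCategory.isIso_iff_bijective (g.stalkMap (l w₁))).mp inferInstance).2 c
    refine ⟨(V.residue (g (l w₁))).hom c', ?_⟩
    have e2 := congrArg (fun q => q.hom c') (Scheme.residue_residueFieldMap g (l w₁))
    simpa only [CommRingCat.hom_comp, RingHom.comp_apply] using e2
  have hint : ((j ≫ k).residueFieldMap w₁).hom.IsIntegral := by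
    rw [h3, h2]
    simp only [CommRingCat.hom_comp]
    refine RingHom.IsIntegral.trans _ _ ?_ (RingHom.IsIntegral.trans _ _ ?_ hl)
    · exact RingHom.isIntegral_of_surjective _
        ((ConcreteCategory.isIso_iff_bijective _).mp inferInstance).2
    · exact RingHom.isIntegral_of_surjective _ hg
  have hint' : (k.residueFieldMap (j w₁) ≫ j.residueFieldMap w₁).hom.IsIntegral := h1 ▸ hint
  have h5 : (k.residueFieldMap (j w₁)).hom = (inv (j.residueFieldMap w₁)).hom.comp
      (k.residueFieldMap (j w₁) ≫ j.residueFieldMap w₁).hom := by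
    rw [← CommRingCat.hom_comp, Category.assoc, IsIso.hom_inv_id, Category.comp_id]
  rw [h5]
  exact RingHom.IsIntegral.trans _ _ hint' (RingHom.isIntegral_of_surjective _
    ((ConcreteCategory.isIso_iff_bijective (inv (j.residueFieldMap w₁))).mp inferInstance).2)

end Groth.Agent.Lib.Helper36.BiratPts
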