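import Groth.Agent.Lib.Helper36.Codim0

universe u

open CategoryTheory CategoryTheory.Limits AlgebraicGeometry TopologicalSpace

namespace Groth.Agent.Lib.Helper36.ClopenPoints

open Groth.Agent.Lib.Helper36.Codim0 Groth.Agent.Lib.Helper36.FibreDimZero Groth.Agent.Lib.Helper84
  Groth.Agent.Lib.Helper36.QuasiFiniteAt

/-- In a locally Noetherian scheme, a set of points which are all open and closed is closed. -/
theorem isClosed_of_forall_isClopen_singleton {U : Scheme.{u}} [IsLocallyNoetherian U]
    (O : Set ↥U) (hO : ∀ u ∈ O, IsOpen ({u} : Set ↥U) ∧ IsClosed ({u} : Set ↥U)) : IsClosed O := by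
  apply isClosed_of_closure_subset
  intro z hz
  obtain ⟨_, ⟨W, hW, rfl⟩, hzW, -⟩ :=
    U.isBasis_affineOpens.exists_subset_of_mem_open (Set.mem_univ z) isOpen_univ
  have : IsNoetherianRing Γ(U, W) := IsLocallyNoetherian.component_noetherian ⟨W, hW⟩
  have : TopologicalSpace.NoetherianSpace ↥W := noetherianSpace_of_isAffineOpen W hW
  have hfin : (O ∩ (W : Set ↥U)).Finite := by
    have h1 := finite_isOpen_singleton (X := ↥W)
    refine (h1.image Subtype.val).subset ?_
    rintro w ⟨hwO, hwW⟩
    refine ⟨⟨w, hwW⟩, ?_, rfl⟩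
    have : ({⟨w, hwW⟩} : Set ↥W) = Subtype.val ⁻¹' {w} := by
      ext y; simp [Subtype.ext_iff]
    show IsOpen ({⟨w, hwW⟩} : Set ↥W)
    rw [this]
    exact (hO w hwO).1.preimage continuous_subtype_val
  have hcl : IsClosed (O ∩ (W : Set ↥U)) := by
    have : O ∩ (W : Set ↥U) = ⋃ w ∈ O ∩ (W : Set ↥U), {w} :=
      (Set.biUnion_of_singleton _).symm
    rw [this]
    exact hfin.isClosed_biUnion fun w hw => (hO w hw.1).2
  have hz' : z ∈ closure (O ∩ (W : Set ↥U)) := by
    rw [mem_closure_iff] at hz ⊢
    intro N hN hzN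
    obtain ⟨y, hy1, hy2⟩ := hz (N ∩ W) (hN.inter W.2) ⟨hzN, hzW⟩
    exact ⟨y, hy1.1, hy2, hy1.2⟩
  rw [hcl.closure_eq] at hz'
  exact hz'.1

/-- In a locally Noetherian scheme, a closed point without proper generizations is open. -/
theorem isOpen_singleton_of_isClosed_of_no_generization {U : Scheme.{u}} [IsLocallyNoetherian U]
    (u : ↥U) (hcl : IsClosed ({u} : Set ↥U)) (hgen : ∀ u' : ↥U, u' ⤳ u → u' = u) :
    IsOpen ({u} : Set ↥U) := by
  obtain ⟨_, ⟨W, hW, rfl⟩, huW, -⟩ :=
    U.isBasis_affineOpens.exists_subset_of_mem_open (Set.mem_univ u) isOpen_univ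
  have : IsNoetherianRing Γ(U, W) := IsLocallyNoetherian.component_noetherian ⟨W, hW⟩
  have : TopologicalSpace.NoetherianSpace ↥W := noetherianSpace_of_isAffineOpen W hW
  have : QuasiSober ↥W := W.2.isOpenEmbedding_subtypeVal.quasiSober
  let uW : ↥W := ⟨u, huW⟩
  -- components not containing `uW`
  have hfin := TopologicalSpace.NoetherianSpace.finite_irreducibleComponents (α := ↥W)
  let T : Set ↥W := ⋃ Z ∈ {Z ∈ irreducibleComponents ↥W | uW ∉ Z}, Z
  have hTcl : IsClosed T :=
    (hfin.subset fun Z hZ => hZ.1).isClosed_biUnion fun Z hZ =>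
      isClosed_of_mem_irreducibleComponents Z hZ.1
  have huT : uW ∉ T := by
    simp only [T, Set.mem_iUnion, not_exists]
    intro Z hZ hu
    exact hZ.2 hu
  have hcompl : Tᶜ ⊆ {uW} := by
    intro z hz
    have hzc := irreducibleComponent_mem_irreducibleComponents z
    by_cases hu : uW ∈ irreducibleComponent z
    · -- generic point of the component specializes to uW hence equals uW
      have hirr : IsIrreducible (irreducibleComponent z) := isIrreducible_irreducibleComponent
      have hg := hirr.isGenericPoint_genericPoint_closure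
      rw [isClosed_irreducibleComponent.closure_eq] at hg
      have hs : hirr.genericPoint ⤳ uW := by
        rw [specializes_iff_mem_closure, hg.def]; exact hu
      have hs' : (hirr.genericPoint : ↥U) ⤳ u := hs.map continuous_subtype_val
      have h1 : (hirr.genericPoint : ↥U) = u := hgen _ hs'
      have h2 : hirr.genericPoint = uW := Subtype.ext h1
      have hz' : z ∈ closure {hirr.genericPoint} := by
        rw [hg.def]; exact mem_irreducibleComponent
      rw [h2] at hz'
      have hclW : IsClosed ({uW} : Set ↥W) := by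
        have : ({uW} : Set ↥W) = Subtype.val ⁻¹' {u} := by
          ext y; simp [uW, Subtype.ext_iff]
        rw [this]
        exact hcl.preimage continuous_subtype_val
      rw [hclW.closure_eq] at hz'
      exact hz'
    · exfalso
      apply hz
      simp only [T, Set.mem_iUnion]
      exact ⟨irreducibleComponent z, ⟨hzc, hu⟩, mem_irreducibleComponent⟩
  have hopenW : IsOpen ({uW} : Set ↥W) := by
    have : ({uW} : Set ↥W) = Tᶜ :=
      Set.Subset.antisymm (Set.singleton_subset_iff.2 huT) hcompl
    rw [this]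
    exact hTcl.isOpen_compl
  have h2 := W.2.isOpenEmbedding_subtypeVal.isOpenMap _ hopenW
  simpa [uW] using h2

end Groth.Agent.Lib.Helper36.ClopenPoints
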