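import Groth.Prelude.Def_AlgSp4
import Mathlib.CategoryTheory.Limits.Shapes.Pullback.IsPullback.Basic

/-!
# Maps of fibre products induced by base-change-stable classes of morphisms (helper36)

Generalises `Thickening.exists_thick_lift` / `S10589.exists_diag_thick` to an arbitrary class `Pm` of
morphisms of sheaves which is stable under base change (and composition).
-/

universe u
open CategoryTheory CategoryTheory.Limits AlgebraicGeometry Opposite

namespace Groth.Agent.Lib.Helper36.DiagMap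

open AlgSp

variable {S : Scheme.{u}}

/-- The comparison of fibre products `X ×_Y Z ⟶ X' ×_{Y'} Z'` is a base change of `i : X ⟶ X'` when
`Z = Y ×_{Y'} Z'`. -/
theorem exists_lift_of_isPullback (Pm : MorphismProperty (Sp S)) [Pm.IsStableUnderBaseChange]
    {X X' Y Y' Z Z' P P' : Sp S} (i : X ⟶ X') (j : Y ⟶ Y') (f : X ⟶ Y)
    (f' : X' ⟶ Y') (hi : Pm i) (w : i ≫ f' = f ≫ j)
    {gZ : Z ⟶ Y} {jZ : Z ⟶ Z'} {g' : Z' ⟶ Y'} (sqZ : IsPullback gZ jZ j g')
    {fstP : P ⟶ X} {sndP : P ⟶ Z} (sqP : IsPullback fstP sndP f gZ)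
    {fst' : P' ⟶ X'} {snd' : P' ⟶ Z'} (sqP' : IsPullback fst' snd' f' g') :
    ∃ iP : P ⟶ P', Pm iP ∧ iP ≫ snd' = sndP ≫ jZ ∧ iP ≫ fst' = fstP ≫ i := by
  have hw : (fstP ≫ i) ≫ f' = (sndP ≫ jZ) ≫ g' := by
    rw [Category.assoc, w, ← Category.assoc, sqP.w, Category.assoc, sqZ.w, Category.assoc]
  refine ⟨sqP'.lift (fstP ≫ i) (sndP ≫ jZ) hw, ?_, sqP'.lift_snd _ _ _, sqP'.lift_fst _ _ _⟩
  have outer : IsPullback fstP (sndP ≫ jZ) (f ≫ j) g' := sqP.paste_vert sqZ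
  have outer' : IsPullback (sqP'.lift (fstP ≫ i) (sndP ≫ jZ) hw ≫ snd') fstP g' (i ≫ f') := by
    rw [sqP'.lift_snd, w]
    exact outer.flip
  have left : IsPullback (sqP'.lift (fstP ≫ i) (sndP ≫ jZ) hw) fstP fst' i :=
    IsPullback.of_right outer' (sqP'.lift_fst _ _ _) sqP'.flip
  exact Pm.of_isPullback left.flip hi

/-- For `i : X₀ ⟶ X` in a class stable under base change and composition, the induced map of fibre
squares `X₀ ×_Y X₀ ⟶ X ×_Y X` is in the class. -/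
theorem exists_diag_map (Pm : MorphismProperty (Sp S)) [Pm.IsStableUnderBaseChange]
    [Pm.IsStableUnderComposition] {X₀ X Y : Sp S} (i : X₀ ⟶ X) (f : X ⟶ Y) (hi : Pm i) :
    ∃ c : pullback (i ≫ f) (i ≫ f) ⟶ pullback f f, Pm c ∧
      c ≫ pullback.fst f f = pullback.fst (i ≫ f) (i ≫ f) ≫ i ∧
      c ≫ pullback.snd f f = pullback.snd (i ≫ f) (i ≫ f) ≫ i := by
  have w : i ≫ f = (i ≫ f) ≫ 𝟙 Y := (Category.comp_id _).symm
  have sqZ : IsPullback (i ≫ f) (𝟙 X₀) (𝟙 Y) (i ≫ f) :=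
    IsPullback.of_vert_isIso ⟨by rw [Category.id_comp, Category.comp_id]⟩
  obtain ⟨iA, hiA, eA2, eA1⟩ := exists_lift_of_isPullback Pm i (𝟙 Y) (i ≫ f) f hi w sqZ
    (IsPullback.of_hasPullback (i ≫ f) (i ≫ f)) (IsPullback.of_hasPullback f (i ≫ f))
  have sqZ' : IsPullback f (𝟙 X) (𝟙 Y) f :=
    IsPullback.of_vert_isIso ⟨by rw [Category.id_comp, Category.comp_id]⟩
  obtain ⟨iB, hiB, eB2, eB1⟩ := exists_lift_of_isPullback Pm i (𝟙 Y) (i ≫ f) f hi w sqZ'
    (IsPullback.of_hasPullback f (i ≫ f)).flip (IsPullback.of_hasPullback f f).flip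
  refine ⟨iA ≫ iB, Pm.comp_mem _ _ hiA hiB, ?_, ?_⟩
  · rw [Category.assoc, eB2, Category.comp_id, eA1]
  · rw [Category.assoc, eB1, ← Category.assoc, eA2, Category.comp_id]

end Groth.Agent.Lib.Helper36.DiagMap
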