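import Mathlib
import Groth.Agent.Lib.Helper36.EtaleLocalDim

/-!
# Dimension lemmas for schemes (helper36)

* `topologicalKrullDim_eq_krullDim`: topological Krull dimension of a scheme = Krull dimension of
  its specialization preorder.
* `ringKrullDim_stalk_le_topologicalKrullDim`, `topologicalKrullDim_le_of_forall_stalk`:
  `dim X = sup_x dim O_{X,x}` in the form of two inequalities.
* `krullDim_le_of_lift`: order-theoretic going-up/down lemma.
* `ringKrullDim_le_of_isIntegral`: integral ring maps do not raise dimension.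
* `topologicalKrullDim_le_of_isIntegralHom`, `topologicalKrullDim_le_of_isClosedMap_of_surjective`.
-/

universe u
open CategoryTheory CategoryTheory.Limits AlgebraicGeometry Topology TopologicalSpace

namespace Groth.Agent.Lib.Helper36.DimLemmas

attribute [local instance] specializationOrder in
theorem topologicalKrullDim_eq_krullDim (X : Scheme.{u}) :
    topologicalKrullDim ↥X = Order.krullDim ↥X := by
  unfold topologicalKrullDim
  exact Order.krullDim_eq_of_orderIso (irreducibleSetEquivPoints (α := ↥X))

theorem ringKrullDim_stalk_le_topologicalKrullDim (X : Scheme.{u}) (x : ↥X) :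
    ringKrullDim ↥(X.presheaf.stalk x) ≤ topologicalKrullDim ↥X := by
  rw [topologicalKrullDim_eq_krullDim, AlgebraicGeometry.ringKrullDim_stalk_eq_coheight]
  exact Order.coheight_le_krullDim x

theorem topologicalKrullDim_le_of_forall_stalk (X : Scheme.{u}) (d : WithBot ℕ∞)
    (h : ∀ x : ↥X, ringKrullDim ↥(X.presheaf.stalk x) ≤ d) : topologicalKrullDim ↥X ≤ d := by
  rw [topologicalKrullDim_eq_krullDim]
  unfold Order.krullDim
  refine iSup_le fun p => ?_
  refine le_trans ?_ (h p.head)
  rw [AlgebraicGeometry.ringKrullDim_stalk_eq_coheight]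
  exact_mod_cast Order.length_le_coheight_head (p := p)

theorem exists_ltSeries_of_lift {α β : Type*} [Preorder α] [Preorder β] (f : α → β)
    (hm : Monotone f) (hl : ∀ (a : α) (b : β), b ≤ f a → ∃ a', a' ≤ a ∧ f a' = b) :
    ∀ (n : ℕ) (p : LTSeries β), p.length = n → ∀ a : α, f a = p.last →
      ∃ q : LTSeries α, q.length = n ∧ q.last = a := by
  intro n
  induction n with
  | zero =>
    intro p _ a _
    exact ⟨RelSeries.singleton _ a, rfl, rfl⟩
  | succ n ih =>
    intro p hp a ha
    have hne : p.length ≠ 0 := by omega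
    have hlt : p.eraseLast.last < p.last := RelSeries.eraseLast_last_rel_last p hne
    obtain ⟨a', ha'1, ha'2⟩ := hl a p.eraseLast.last (by rw [ha]; exact hlt.le)
    obtain ⟨q', hq'1, hq'2⟩ := ih p.eraseLast (by simp [hp]) a' ha'2
    have hlt' : q'.last < a := by
      rw [hq'2]
      refine lt_of_le_not_ge ha'1 fun h => ?_
      have := hm h
      rw [ha, ha'2] at this
      exact absurd hlt (not_lt_of_ge this)
    exact ⟨q'.snoc a hlt', by simp [hq'1], by simp⟩

/-- If `f` is monotone, surjective and lifts "going down" (`b ≤ f a` lifts to `a' ≤ a`), then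
`krullDim β ≤ krullDim α`. -/
theorem krullDim_le_of_lift {α β : Type*} [Preorder α] [Preorder β] (f : α → β)
    (hm : Monotone f) (hs : Function.Surjective f)
    (hl : ∀ (a : α) (b : β), b ≤ f a → ∃ a', a' ≤ a ∧ f a' = b) :
    Order.krullDim β ≤ Order.krullDim α := by
  unfold Order.krullDim
  refine iSup_le fun p => ?_
  obtain ⟨a, ha⟩ := hs p.last
  obtain ⟨q, hq, -⟩ := exists_ltSeries_of_lift f hm hl p.length p rfl a ha
  rw [← hq]
  exact le_iSup (fun q : LTSeries α => (q.length : WithBot ℕ∞)) q

theorem ringKrullDim_le_of_isIntegral {A B : Type*} [CommRing A] [CommRing B] (φ : A →+* B)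
    (hφ : φ.IsIntegral) : ringKrullDim B ≤ ringKrullDim A := by
  algebraize [φ]
  refine Order.krullDim_le_of_strictMono
    (fun I : PrimeSpectrum B =>
      (⟨Ideal.comap (algebraMap A B) I.asIdeal, inferInstance⟩ : PrimeSpectrum A)) ?_
  intro I J hIJ
  have : I.asIdeal < J.asIdeal := hIJ
  exact Ideal.IsIntegral.comap_lt_comap (R := A) this

theorem topologicalKrullDim_eq_ringKrullDim_of_isAffine (W : Scheme.{u}) [IsAffine W] :
    topologicalKrullDim ↥W = ringKrullDim Γ(W, ⊤) := by
  rw [← PrimeSpectrum.topologicalKrullDim_eq_ringKrullDim Γ(W, ⊤)]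
  exact IsHomeomorph.topologicalKrullDim_eq _ W.isoSpec.hom.homeomorph.isHomeomorph

theorem topologicalKrullDim_le_of_isIntegralHom {W V : Scheme.{u}} (i : W ⟶ V) [IsAffine V]
    [IsAffine W] [IsIntegralHom i] : topologicalKrullDim ↥W ≤ topologicalKrullDim ↥V := by
  rw [topologicalKrullDim_eq_ringKrullDim_of_isAffine,
    topologicalKrullDim_eq_ringKrullDim_of_isAffine]
  exact ringKrullDim_le_of_isIntegral i.appTop.hom
    (IsIntegralHom.isIntegral_app i ⊤ (isAffineOpen_top V))

theorem topologicalKrullDim_le_of_isClosedMap_of_surjective {W V : Scheme.{u}} (i : W ⟶ V)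
    (hc : IsClosedMap i) (hs : Function.Surjective i) :
    topologicalKrullDim ↥V ≤ topologicalKrullDim ↥W := by
  rw [topologicalKrullDim_eq_krullDim, topologicalKrullDim_eq_krullDim]
  refine krullDim_le_of_lift i (fun a a' h => ?_) hs fun a b h => ?_
  · exact Specializes.map h i.continuous
  · obtain ⟨a', h1, h2⟩ := hc.specializingMap h
    exact ⟨a', h1, h2⟩

end Groth.Agent.Lib.Helper36.DimLemmas
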