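import Groth.Agent.Lib.Helper37.DisjCover
import Groth.Agent.Lib.Helper36.OpenImmIso
import Groth.Agent.Lib.Helper30.LocPNbhd

/-!
# Gluing pairwise disjoint open subschemes of a sheaf (helper36)

A family of open immersions `h_{U_i} ⟶ X` with pairwise disjoint images glues to an open immersion
`h_{∐ U_i} ⟶ X`.
-/

set_option autoImplicit false
universe w u
open CategoryTheory CategoryTheory.Limits AlgebraicGeometry Opposite

namespace Groth.Agent.Lib.Helper36.DisjOpenGlue

open AlgSp Groth.Agent.Lib.Helper37.AlgSpPoints Groth.Agent.Lib.Helper37.DisjCover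
  Groth.Agent.Lib.Helper36.OpenSubspace Groth.Agent.Lib.Helper23.AlgSpMor
  Groth.Agent.Lib.Helper5 Groth.Agent.Lib.Helper5.LargestOpenSp

variable {S : Scheme.{u}}

theorem range_map_eq_range_ofPt {X : Sp S} {U : Over S} (a : (yon S).obj U ⟶ X) :
    Set.range (Points.map a) = Set.range (Points.ofPt a) := by
  apply Set.Subset.antisymm
  · rintro _ ⟨z, rfl⟩
    obtain ⟨o, rfl⟩ := (Points.schemeEquiv U).surjective z
    exact ⟨o, (Points.ofPt_eq_map_ofScheme a o)⟩
  · rintro _ ⟨o, rfl⟩
    exact ⟨_, (Points.ofPt_eq_map_ofScheme a o).symm⟩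

theorem exists_glue {X : Sp S} {ι : Type w} [Small.{u} ι] (U : ι → Over S)
    (a : ∀ i, (yon S).obj (U i) ⟶ X) (ha : ∀ i, RepWith @IsOpenImmersion (a i))
    (hdisj : ∀ i j, i ≠ j →
      Disjoint (Set.range (Points.ofPt (a i))) (Set.range (Points.ofPt (a j)))) :
    ∃ A : (yon S).obj (sigmaOver U) ⟶ X, RepWith @IsOpenImmersion A ∧
      (∀ i, (yon S).map (sigmaOverι U i) ≫ A = a i) ∧
      Set.range (Points.ofPt A) = ⋃ i, Set.range (Points.ofPt (a i)) := by
  obtain ⟨W, hW⟩ : ∃ W : Set (Points X), W = ⋃ i, Set.range (Points.ofPt (a i)) := ⟨_, rfl⟩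
  have hae : ∀ i, RepWith @Etale (a i) := fun i =>
    Groth.Agent.Lib.Helper30.LocPNbhd.repWith_etale_of_isOpenImmersion (ha i)
  have hopen : ∀ i, IsOpen (Set.range (Points.ofPt (a i))) := fun i =>
    (isOpenMap_ofPt (a i) (hae i)).isOpen_range
  have hWo : IsOpen W := by rw [hW]; exact isOpen_iUnion hopen
  have hlift : ∀ i, ∃ e : (yon S).obj (U i) ⟶ openSub X W, e ≫ openSubι X W = a i := fun i =>
    exists_lift_openSub_of_range (a i) W (by
      rw [range_map_eq_range_ofPt, hW]
      exact Set.subset_iUnion (fun i => Set.range (Points.ofPt (a i))) i)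
  choose e he using hlift
  have hι := repWith_isOpenImmersion_openSubι X W hWo
  have hmι : Mono (openSubι X W) := mono_of_openImm _ hι
  have hmono : ∀ i, Mono (e i) := fun i => by
    have : Mono (e i ≫ openSubι X W) := by rw [he]; exact mono_of_openImm _ (ha i)
    exact mono_of_mono (e i) (openSubι X W)
  have hcov : ∀ (T : Over S) (g : (yon S).obj T ⟶ openSub X W) (t : ↥T.left),
      ∃ (i : ι) (O : T.left.Opens), t ∈ O ∧ ∃ l : overOpens T O ⟶ U i,
        (yon S).map l ≫ e i = (yon S).map (overOpensι T O) ≫ g := by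
    intro T g t
    have ht : Points.ofPt (g ≫ openSubι X W) t ∈ W := by
      apply range_subset_of_comp_openSubι W g
      rw [Points.ofPt_eq_map_ofScheme]; exact ⟨_, rfl⟩
    have ht' : Points.ofPt (g ≫ openSubι X W) t ∈ ⋃ i, Set.range (Points.ofPt (a i)) := hW ▸ ht
    obtain ⟨i, hi⟩ := Set.mem_iUnion.1 ht'
    let O : T.left.Opens := ⟨Points.ofPt (g ≫ openSubι X W) ⁻¹' Set.range (Points.ofPt (a i)),
      (hopen i).preimage (Points.continuous_ofPt _)⟩
    refine ⟨i, O, hi, ?_⟩
    obtain ⟨l', hl'⟩ := exists_lift_of_openImm (a i) (ha i)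
      ((yon S).map (overOpensι T O) ≫ g ≫ openSubι X W) (by
        rintro _ ⟨z, rfl⟩
        obtain ⟨o, rfl⟩ := (Points.schemeEquiv (overOpens T O)).surjective z
        rw [range_map_eq_range_ofPt]
        change Points.map _ (Points.ofPt (𝟙 _) o) ∈ _
        rw [Points.map_ofPt, Category.id_comp, ofPt_map_comp]
        exact o.2)
    obtain ⟨l, rfl⟩ := (yon S).map_surjective l'
    refine ⟨l, ?_⟩
    rw [← cancel_mono (openSubι X W), Category.assoc, he, hl', Category.assoc]
  have hdisj' : ∀ (i j : ι), i ≠ j → ∀ (T : Over S) (g : T ⟶ U i) (h : T ⟶ U j),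
      (yon S).map g ≫ e i = (yon S).map h ≫ e j → IsEmpty ↥T.left := by
    intro i j hij T g h hgh
    constructor
    intro t
    have h1 : (yon S).map g ≫ a i = (yon S).map h ≫ a j := by
      rw [← he i, ← he j, ← Category.assoc, hgh, Category.assoc]
    have h2 : Points.ofPt (a i) (g.left t) = Points.ofPt (a j) (h.left t) := by
      rw [← ofPt_map_comp, ← ofPt_map_comp, h1]
    exact Set.disjoint_left.mp (hdisj i j hij) ⟨_, rfl⟩ ⟨_, h2.symm⟩
  have hiso := isIso_sigmaDesc U e hmono hcov hdisj'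
  refine ⟨sigmaDesc U e ≫ openSubι X W, ?_, ?_, ?_⟩
  · exact (RepWith @IsOpenImmersion).comp_mem _ _
      (MorphismProperty.of_isIso (RepWith @IsOpenImmersion) (sigmaDesc U e)) hι
  · intro i
    rw [← Category.assoc, ι_sigmaDesc, he]
  · apply Set.Subset.antisymm
    · rintro _ ⟨o, rfl⟩
      rw [← hW]
      apply range_subset_of_comp_openSubι W (sigmaDesc U e)
      rw [Points.ofPt_eq_map_ofScheme]; exact ⟨_, rfl⟩
    · intro z hz
      obtain ⟨i, u, rfl⟩ := Set.mem_iUnion.1 hz
      refine ⟨(sigmaOverι U i).left u, ?_⟩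
      rw [← ofPt_map_comp, ← Category.assoc, ι_sigmaDesc, he]

end Groth.Agent.Lib.Helper36.DisjOpenGlue
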