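import Mathlib.RingTheory.Jacobson.Ring
import Mathlib.RingTheory.IntegralClosure.IsIntegralClosure.Basic
import Mathlib.RingTheory.Localization.Ideal
import Mathlib.RingTheory.Localization.Away.Basic
import Mathlib.RingTheory.Algebraic.Integral
import Mathlib.RingTheory.Localization.FractionRing
import Mathlib.RingTheory.FiniteType

universe u

namespace Groth.Agent.Lib.Helper36.Goldman

/-- If a field `K` is a finitely generated algebra over a subdomain `B`, then some `B[1/y]` is a
field: every prime of `B` avoiding `y` is zero. -/
theorem exists_ne_zero_forall_prime_eq_bot (B K : Type*) [CommRing B] [IsDomain B] [Field K]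
    [Algebra B K] [Algebra.FiniteType B K] (hinj : Function.Injective (algebraMap B K)) :
    ∃ y : B, y ≠ 0 ∧ ∀ q : Ideal B, q.IsPrime → y ∉ q → q = ⊥ := by
  let L := FractionRing B
  let _ : Algebra L K := (IsFractionRing.lift hinj).toAlgebra
  have : IsScalarTower B L K :=
    IsScalarTower.of_algebraMap_eq fun x => (IsFractionRing.lift_algebraMap hinj x).symm
  have : Algebra.FiniteType L K := Algebra.FiniteType.of_restrictScalars_finiteType B L K
  have : Module.Finite L K := finite_of_finite_type_of_isJacobsonRing L K
  have : Algebra.IsAlgebraic L K := Algebra.IsAlgebraic.of_finite L K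
  have : Algebra.IsAlgebraic B L := IsLocalization.isAlgebraic L (nonZeroDivisors B)
  have : Algebra.IsAlgebraic B K := Algebra.IsAlgebraic.trans B L K
  obtain ⟨s, hs⟩ := (Algebra.FiniteType.out : (⊤ : Subalgebra B K).FG)
  obtain ⟨y, hy0, hy⟩ := Algebra.IsAlgebraic.exists_integral_multiples B s
  refine ⟨y, hy0, fun q hq hyq => ?_⟩
  let R := Localization.Away y
  have hyK : IsUnit (algebraMap B K y) := by
    rw [isUnit_iff_ne_zero]
    exact fun h => hy0 (hinj (by rw [h, map_zero]))
  let _ : Algebra R K := (IsLocalization.Away.lift y hyK).toAlgebra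
  have : IsScalarTower B R K :=
    IsScalarTower.of_algebraMap_eq fun x => (IsLocalization.Away.lift_eq y hyK x).symm
  have hint : ∀ x ∈ s, IsIntegral R x := by
    intro x hx
    have h1 : IsIntegral R (y • x) := (hy x hx).tower_top
    have h2 : x = algebraMap R K (IsLocalization.Away.invSelf y) * (y • x) := by
      rw [Algebra.smul_def, IsScalarTower.algebraMap_apply B R K, ← mul_assoc, ← map_mul,
        mul_comm (IsLocalization.Away.invSelf y), IsLocalization.Away.mul_invSelf, map_one, one_mul]
    rw [h2]
    exact isIntegral_algebraMap.mul h1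
  have hRint : Algebra.IsIntegral R K := by
    refine ⟨fun z => ?_⟩
    have hle : Algebra.adjoin B (s : Set K) ≤ (integralClosure R K).restrictScalars B :=
      Algebra.adjoin_le fun x hx => hint x hx
    have hz : z ∈ Algebra.adjoin B (s : Set K) := by rw [hs]; trivial
    exact hle hz
  have hRinj : Function.Injective (algebraMap R K) := by
    rw [injective_iff_map_eq_zero]
    intro r hr
    obtain ⟨a, m, rfl⟩ := IsLocalization.exists_mk'_eq (Submonoid.powers y) r
    have h1 : algebraMap R K (IsLocalization.mk' R a m * algebraMap B R m) = 0 := by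
      rw [map_mul, hr, zero_mul]
    rw [IsLocalization.mk'_spec, ← IsScalarTower.algebraMap_apply] at h1
    have ha : a = 0 := hinj (by rw [h1, map_zero])
    rw [ha, IsLocalization.mk'_zero]
  have hRfield : IsField R := isField_of_isIntegral_of_isField hRinj (Field.toIsField K)
  have hdisj : Disjoint ((Submonoid.powers y : Submonoid B) : Set B) (q : Set B) := by
    rw [Set.disjoint_left]
    rintro _ ⟨n, rfl⟩ hn
    exact hyq (hq.mem_of_pow_mem n hn)
  have hq' : (Ideal.map (algebraMap B R) q).IsPrime :=
    IsLocalization.isPrime_of_isPrime_disjoint (Submonoid.powers y) R q hq hdisj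
  have hbot : Ideal.map (algebraMap B R) q = ⊥ := by
    let _ := hRfield.toField
    exact (Ideal.eq_bot_or_top _).resolve_right hq'.ne_top
  have hcomap : Ideal.comap (algebraMap B R) (Ideal.map (algebraMap B R) q) = q :=
    IsLocalization.comap_map_of_isPrime_disjoint (Submonoid.powers y) R hq hdisj
  rw [hbot] at hcomap
  rw [← hcomap]
  exact Ideal.comap_bot_of_injective _
    (IsLocalization.injective R (powers_le_nonZeroDivisors_of_noZeroDivisors hy0))

end Groth.Agent.Lib.Helper36.Goldman
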