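import Mathlib.AlgebraicGeometry.Morphisms.FiniteType
import Mathlib.AlgebraicGeometry.ResidueField
import Groth.Agent.Lib.Helper36.Goldman

universe u

open CategoryTheory CategoryTheory.Limits AlgebraicGeometry

namespace Groth.Agent.Lib.Helper36.FTPoint

open Groth.Agent.Lib.Helper36.Goldman

/-- Ring-hom form of the Goldman-type lemma. -/
theorem exists_forall_prime_eq_ker {A K : Type*} [CommRing A] [Field K] (φ : A →+* K)
    (hφ : φ.FiniteType) :
    ∃ f : A, φ f ≠ 0 ∧ ∀ q : Ideal A, q.IsPrime → RingHom.ker φ ≤ q → f ∉ q → q = RingHom.ker φ := by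
  have hp : (RingHom.ker φ).IsPrime := RingHom.ker_isPrime φ
  let B := A ⧸ RingHom.ker φ
  let ψ : B →+* K := RingHom.kerLift φ
  have hψinj : Function.Injective ψ := RingHom.kerLift_injective φ
  let _ : Algebra B K := ψ.toAlgebra
  have hft : Algebra.FiniteType B K := by
    have : (ψ.comp (Ideal.Quotient.mk (RingHom.ker φ))).FiniteType := by
      have e : ψ.comp (Ideal.Quotient.mk (RingHom.ker φ)) = φ := by
        ext a; rfl
      rw [e]; exact hφ
    exact RingHom.FiniteType.of_comp_finiteType this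
  obtain ⟨y, hy0, hy⟩ := exists_ne_zero_forall_prime_eq_bot B K hψinj
  obtain ⟨f, rfl⟩ := Ideal.Quotient.mk_surjective y
  refine ⟨f, ?_, fun q hq hle hfq => ?_⟩
  · intro h0
    apply hy0
    rw [Ideal.Quotient.eq_zero_iff_mem]
    exact h0
  · have hq' : (Ideal.map (Ideal.Quotient.mk (RingHom.ker φ)) q).IsPrime :=
      Ideal.map_isPrime_of_surjective Ideal.Quotient.mk_surjective (by rwa [Ideal.mk_ker])
    have hnot : Ideal.Quotient.mk (RingHom.ker φ) f ∉ Ideal.map (Ideal.Quotient.mk (RingHom.ker φ)) q := by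
      intro hmem
      rw [Ideal.mem_map_iff_of_surjective _ Ideal.Quotient.mk_surjective] at hmem
      obtain ⟨g, hg, hgf⟩ := hmem
      have : f - g ∈ RingHom.ker φ := by
        rw [← Ideal.Quotient.eq]; exact hgf.symm
      have : f - g ∈ q := hle this
      exact hfq (by simpa using q.add_mem this hg)
    have hbot := hy _ hq' hnot
    apply le_antisymm _ hle
    intro a ha
    have : Ideal.Quotient.mk (RingHom.ker φ) a ∈ Ideal.map (Ideal.Quotient.mk (RingHom.ker φ)) q :=
      Ideal.mem_map_of_mem _ ha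
    rw [hbot, Ideal.mem_bot, Ideal.Quotient.eq_zero_iff_mem] at this
    exact this

/-- The image point of a morphism locally of finite type from the spectrum of a field is a closed
point of some open subscheme. -/
theorem exists_opens_isClosed_singleton {U : Scheme.{u}} (K : Type u) [Field K]
    (t : Spec (CommRingCat.of K) ⟶ U) [LocallyOfFiniteType t] :
    ∃ (W : U.Opens) (hu : t (IsLocalRing.closedPoint K) ∈ W),
      IsClosed ({⟨t (IsLocalRing.closedPoint K), hu⟩} : Set ↥W) := by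
  set u := t (IsLocalRing.closedPoint K) with hu
  obtain ⟨A, j, hj, huj, -⟩ := Scheme.exists_affine_mem_range_and_range_subset
    (X := U) (x := u) (U := ⊤) trivial
  have hrange : Set.range t ⊆ Set.range j := by
    rintro _ ⟨x, rfl⟩
    rw [Subsingleton.elim x (IsLocalRing.closedPoint K)]
    exact huj
  let t' : Spec (CommRingCat.of K) ⟶ Spec A := IsOpenImmersion.lift j t hrange
  have ht' : t' ≫ j = t := IsOpenImmersion.lift_fac j t hrange
  have : LocallyOfFiniteType (t' ≫ j) := by rw [ht']; infer_instance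
  have hlft : LocallyOfFiniteType t' := locallyOfFiniteType_of_comp t' j
  obtain ⟨φ, hφ⟩ := Spec.map_surjective t'
  rw [← hφ, HasRingHomProperty.Spec_iff (P := @LocallyOfFiniteType)] at hlft
  obtain ⟨f, hf0, hf⟩ := exists_forall_prime_eq_ker φ.hom hlft
  set p₀ := t' (IsLocalRing.closedPoint K) with hp₀
  have hjp₀ : j p₀ = u := by
    rw [hp₀, ← Scheme.Hom.comp_apply, ht']
  have hker : p₀.asIdeal = RingHom.ker φ.hom := by
    rw [hp₀, ← hφ]
    ext a
    change φ.hom a ∈ (IsLocalRing.closedPoint K).asIdeal ↔ _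
    rw [IsLocalRing.closedPoint, RingHom.mem_ker]
    simp
  have hp₀f : p₀ ∈ PrimeSpectrum.basicOpen f := by
    change f ∉ p₀.asIdeal
    rw [hker, RingHom.mem_ker]
    exact hf0
  let W₀ : (Spec A).Opens := PrimeSpectrum.basicOpen f
  refine ⟨j ''ᵁ W₀, ⟨p₀, hp₀f, hjp₀⟩, ?_⟩
  apply isClosed_of_closure_subset
  rintro ⟨z, z₀, hz₀, rfl⟩ hz
  have hs : (⟨u, ⟨p₀, hp₀f, hjp₀⟩⟩ : ↥(j ''ᵁ W₀)) ⤳ ⟨j z₀, z₀, hz₀, rfl⟩ :=
    specializes_iff_mem_closure.2 hz
  have hs' : u ⤳ j z₀ := hs.map continuous_subtype_val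
  rw [← hjp₀, j.isOpenEmbedding.isInducing.specializes_iff] at hs'
  have hle : p₀.asIdeal ≤ z₀.asIdeal := (PrimeSpectrum.le_iff_specializes p₀ z₀).2 hs'
  have hz₀f : f ∉ z₀.asIdeal := hz₀
  have heq : z₀.asIdeal = RingHom.ker φ.hom := hf z₀.asIdeal z₀.isPrime (hker ▸ hle) hz₀f
  have : z₀ = p₀ := PrimeSpectrum.ext (heq.trans hker.symm)
  subst this
  simp only [Set.mem_singleton_iff, Subtype.mk.injEq]
  exact hjp₀

end Groth.Agent.Lib.Helper36.FTPoint
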