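import Groth.Agent.Lib.Helper36.BaseChangeChart
import Groth.Agent.Lib.Helper84.TopDim
import Groth.Agent.Lib.Helper73.DimFormula.CMFlat.FlatFPDim

/-!
# Dimension of fibres of morphisms of algebraic spaces (helper36)

For `f : X ⟶ Y` locally of finite type, a field point `k` of `Y` and the fibre `X_k`: the local
dimension of any étale chart of `X_k` at a point equals the fibre dimension of any chart diagram of
`f` through the image point (`localDim_eq_fibreDimAt`).
-/

universe u

open CategoryTheory CategoryTheory.Limits AlgebraicGeometry Opposite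

namespace Groth.Agent.Lib.Helper36.FibreDimSp

open AlgSp Groth.Agent.Lib.Helper36.AlgSpCharts Groth.Agent.Lib.Helper37.AlgSpPoints
  Groth.Agent.Lib.Helper36.AlgSpChartDiag Groth.Agent.Lib.Helper36.AlgSpHasAtMor
  Groth.Agent.Lib.Helper36.BaseChangeChart Groth.Agent.Lib.Helper36.AlgSpHasAt
  Groth.Agent.Lib.Helper36

variable {S : Scheme.{u}}

/-- The fibre dimension of a morphism to the spectrum of a field is the local dimension. -/
theorem fibreDimAt_eq_localDim_of_field {U : Scheme.{u}} (K : Type u) [Field K]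
    (φ : U ⟶ Spec (CommRingCat.of K)) (u : ↥U) :
    FlatMor.fibreDimAt φ u = FlatMor.localDim ↥U u := by
  have hiso := Groth.Agent.Lib.Helper41.isIso_fromSpecResidueField_of_field K (φ u)
  have het : Etale ((Spec (CommRingCat.of K)).fromSpecResidueField (φ u)) := inferInstance
  have : Etale (φ.fiberι (φ u)) :=
    MorphismProperty.pullback_fst (P := @Etale) φ _ het
  unfold FlatMor.fibreDimAt
  rw [EtaleLocalDim.localDim_eq_of_etale (φ.fiberι (φ u)) (φ.asFiber u),
    Scheme.Hom.fiberι_asFiber]

/-- The fibre dimension of a morphism to a scheme étale over a field is the local dimension. -/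
theorem fibreDimAt_eq_localDim_of_etale_field {U V : Scheme.{u}} (K : Type u) [Field K]
    (h : U ⟶ V) (e : V ⟶ Spec (CommRingCat.of K)) [Etale e] (u : ↥U) :
    FlatMor.fibreDimAt h u = FlatMor.localDim ↥U u := by
  rw [← fibreDimAt_eq_localDim_of_field K (h ≫ e) u]
  have := FibreEtale.fibreDimAt_eq (h ≫ e) h (𝟙 U) e (by simp) u
  simpa using this.symm

/-- A space all of whose local dimensions are at most `d` has dimension at most `d`. -/
theorem topologicalKrullDim_le_of_forall_localDim_le {T : Type*} [TopologicalSpace T]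
    (d : WithBot ℕ∞) (h : ∀ t : T, FlatMor.localDim T t ≤ d) : topologicalKrullDim T ≤ d := by
  by_contra hlt
  rw [not_le] at hlt
  obtain ⟨z, hz⟩ := Groth.Agent.Lib.Helper73.exists_lt_localDim_of_lt_topologicalKrullDim d hlt
  exact absurd (h z) (not_le.2 hz)

/-- Every point of `h_{Spec k}` maps to the class of the field point `k`. -/
theorem map_toHom_eq_mk {F : Sp S} (k : FieldPt F) (z : Points ((yon S).obj k.pt)) :
    Points.map k.toHom z = Points.mk k := by
  rw [← Points.ofScheme_toScheme k.pt z, ← Points.ofPt_eq_map_ofScheme, Points.ofPt_toHom]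

/-- Points of the fibre over a point in the class of `k`. -/
theorem exists_point_fibre {X Y : Sp S} {f : X ⟶ Y} {k : FieldPt Y} {Xk : Sp S} {fst : Xk ⟶ X}
    {snd : Xk ⟶ (yon S).obj k.pt} (hsq : IsPullback fst snd f k.toHom) (x : Points X)
    (hx : Points.map f x = Points.mk k) : ∃ xk : Points Xk, Points.map fst xk = x := by
  obtain ⟨p, hp, -⟩ := points_exists_of_isPullback hsq x
    (Points.ofScheme k.pt (IsLocalRing.closedPoint k.K)) (by rw [hx, map_toHom_eq_mk])
  exact ⟨p, hp⟩

/-- Every point of the fibre lies over the class of `k`. -/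
theorem map_map_fst_eq_mk {X Y : Sp S} {f : X ⟶ Y} {k : FieldPt Y} {Xk : Sp S} {fst : Xk ⟶ X}
    {snd : Xk ⟶ (yon S).obj k.pt} (hsq : IsPullback fst snd f k.toHom) (xk : Points Xk) :
    Points.map f (Points.map fst xk) = Points.mk k := by
  rw [← Points.map_comp, hsq.w, Points.map_comp, map_toHom_eq_mk]

section

variable {X Y : Space S} (f : X ⟶ Y) (hf : LocP @LocallyOfFiniteType f.hom)
  (k : FieldPt Y.obj) (Xk : Sp S) (fst : Xk ⟶ X.obj) (snd : Xk ⟶ (yon S).obj k.pt)
  (hsq : IsPullback fst snd f.hom k.toHom)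

include hf hsq in
/-- An atlas of the fibre on which local dimensions compute fibre dimensions. -/
theorem exists_fibre_atlas :
    ∃ (U' : Over S) (a' : (yon S).obj U' ⟶ Xk), RepWith @Etale a' ∧ RepWith @Surjective a' ∧
      ∀ (u' : ↥U'.left) (U V : Over S) (a : (yon S).obj U ⟶ X.obj) (b : (yon S).obj V ⟶ Y.obj)
        (h : U ⟶ V) (u : ↥U.left), RepWith @Etale a → RepWith @Etale b →
        a ≫ f.hom = (yon S).map h ≫ b → Points.ofPt a u = Points.map fst (Points.ofPt a' u') →
        FlatMor.fibreDimAt h.left u = FlatMor.localDim ↥U'.left u' := by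
  let Y' : Space S := ⟨(yon S).obj k.pt, IsAlgSpace.yon_obj _⟩
  let g : Y' ⟶ Y := ObjectProperty.homMk k.toHom
  obtain ⟨U0, V0, U', V', a0, b0, a', b', h0, h', pU, q, ha0e, hb0e, ha'e, ha's, hb'e, hb's, w0,
    w', wg', wg, sqs⟩ := exists_baseChange_charts f g fst snd hsq
  obtain ⟨e, he⟩ := (yon S).map_surjective b'
  have hee : Etale e.left := by
    rw [← repWith_yon_map_iff @Etale e, he]
    exact hb'e
  have hlft : LocallyOfFiniteType h0.left := hf a0 b0 h0 ha0e hb0e w0
  refine ⟨U', a', ha'e, ha's, fun u' U V a b h u hae hbe comm hu => ?_⟩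
  have hpt : Points.ofPt a u = Points.ofPt a0 (pU.left u') := by
    rw [hu, Points.map_ofPt, wg', ofPt_map_comp]
  have e1 := germMor_iff_of_ofPt_eq
    (isEtaleLocalGermMor_fibreDimAt (· = FlatMor.fibreDimAt h0.left (pU.left u'))) f.hom a b h
    a0 b0 h0 hae hbe ha0e hb0e comm w0 u (pU.left u') hpt
  have e2 : FlatMor.fibreDimAt h.left u = FlatMor.fibreDimAt h0.left (pU.left u') := e1.2 rfl
  rw [e2, ← Groth.Agent.Lib.Helper73.fibreDimAt_eq_of_isPullback h0.left q.left pU.left h'.left
    sqs u']
  exact fibreDimAt_eq_localDim_of_etale_field k.K h'.left e.left u'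

include hf hsq in
/-- The local dimension of an étale chart of the fibre `X_k` at a point is the fibre dimension of
any chart diagram of `f` through the image point. -/
theorem localDim_eq_fibreDimAt {W : Over S} (c : (yon S).obj W ⟶ Xk) (hc : RepWith @Etale c)
    (w : ↥W.left) {U V : Over S} (a : (yon S).obj U ⟶ X.obj) (b : (yon S).obj V ⟶ Y.obj)
    (h : U ⟶ V) (u : ↥U.left) (hae : RepWith @Etale a) (hbe : RepWith @Etale b)
    (comm : a ≫ f.hom = (yon S).map h ≫ b)
    (hu : Points.ofPt a u = Points.map fst (Points.ofPt c w)) :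
    FlatMor.fibreDimAt h.left u = FlatMor.localDim ↥W.left w := by
  obtain ⟨U', a', ha'e, ha's, H⟩ := exists_fibre_atlas f hf k Xk fst snd hsq
  obtain ⟨u', hu'⟩ := ofPt_surjective a' ha's (Points.ofPt c w)
  rw [H u' U V a b h u hae hbe comm (by rw [hu, hu'])]
  exact (germ_iff_of_ofPt_eq (isEtaleLocalGerm_localDim (FlatMor.localDim ↥U'.left u')) a' c ha'e
    hc u' w hu').1 rfl |>.symm

end

end Groth.Agent.Lib.Helper36.FibreDimSp
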