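import Groth.Agent.S10313
import Groth.Agent.Lib.Helper30.DecentDim
import Groth.Agent.Lib.Helper30.LocPNbhd
import Groth.Agent.Lib.Helper23.AlgSpDvr2
import Groth.Agent.Lib.Helper46.LocPChart
import Groth.Agent.Lib.Helper36.FibreDimSp

set_option autoImplicit false
universe u
open CategoryTheory CategoryTheory.Limits AlgebraicGeometry TopologicalSpace

namespace Groth.Agent.Lib.Helper36.FibrePts

open AlgSp Groth.Agent.Lib.Helper37.AlgSpPoints Groth.Agent.Lib.Helper37.AlgSpFibres
  Groth.Agent.Lib.Helper36.AlgSpCharts Groth.Agent.Lib.Helper36.AlgSpChartDiag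
  Groth.Agent.Lib.Helper36.FibreDimSp Groth.Agent.Lib.Helper36.FibreDimZero
  Groth.Agent.Lib.Helper36.QFLocus Groth.Agent.Lib.Helper36.QuasiFiniteAt
  Groth.Agent.Lib.Helper30.DecentDim

section Top

/-- In a Noetherian quasi-sober space, a closed point without proper generizations is open. -/
theorem isOpen_singleton_of_noetherian {A : Type*} [TopologicalSpace A] [NoetherianSpace A]
    [QuasiSober A] (a : A) (hc : IsClosed ({a} : Set A)) (hg : ∀ a' : A, a' ⤳ a → a' = a) :
    IsOpen ({a} : Set A) := by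
  have hfin : (irreducibleComponents A).Finite := NoetherianSpace.finite_irreducibleComponents
  have hZ : ∀ Z ∈ irreducibleComponents A, a ∈ Z → Z = {a} := by
    intro Z hZ haZ
    have hZi : IsIrreducible Z := hZ.1
    have hZc : IsClosed Z := isClosed_of_mem_irreducibleComponents Z hZ
    obtain ⟨η, hη⟩ := QuasiSober.sober hZi hZc
    have h1 : η ⤳ a := by
      rw [specializes_iff_mem_closure, hη.def]
      exact haZ
    rw [hg η h1] at hη
    rw [← hη.def, hc.closure_eq]
  have hcompl : ({a} : Set A)ᶜ = ⋃₀ {Z ∈ irreducibleComponents A | a ∉ Z} := by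
    ext x
    constructor
    · intro hx
      have hxu : x ∈ ⋃₀ irreducibleComponents A := by
        rw [sUnion_irreducibleComponents]; trivial
      obtain ⟨Z, hZ', hxZ⟩ := hxu
      refine ⟨Z, ⟨hZ', fun haZ => ?_⟩, hxZ⟩
      rw [hZ Z hZ' haZ] at hxZ
      exact hx hxZ
    · rintro ⟨Z, ⟨-, haZ⟩, hxZ⟩ hxa
      rw [Set.mem_singleton_iff] at hxa
      exact haZ (hxa ▸ hxZ)
  rw [← isClosed_compl_iff, hcompl, Set.sUnion_eq_biUnion]
  have hfin' : {Z ∈ irreducibleComponents A | a ∉ Z}.Finite := hfin.subset fun Z hZ' => hZ'.1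
  exact hfin'.isClosed_biUnion fun Z hZ' => isClosed_of_mem_irreducibleComponents Z hZ'.1

/-- A quasi-sober space without nontrivial specializations has dimension at most zero. -/
theorem topologicalKrullDim_le_zero_of_specializes {A : Type*} [TopologicalSpace A] [QuasiSober A]
    (h : ∀ a b : A, a ⤳ b → a = b) : topologicalKrullDim A ≤ 0 := by
  apply topologicalKrullDim_le_of_chains
  intro n ys hys
  rcases Nat.eq_zero_or_pos n with rfl | hn
  · simp
  · exfalso
    have h1 := hys ⟨0, hn⟩
    have h2 := h _ _ h1.1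
    exact h1.2 (h2 ▸ specializes_rfl)

/-- A finite Jacobson space is discrete. -/
theorem discreteTopology_of_finite_jacobson {A : Type*} [TopologicalSpace A] [JacobsonSpace A]
    [Finite A] : DiscreteTopology A := by
  have hcl : IsClosed (closedPoints A) := by
    have : closedPoints A = ⋃ x ∈ closedPoints A, {x} := by
      ext x; simp
    rw [this]
    exact (Set.toFinite _).isClosed_biUnion fun x hx => hx
  have huniv : closedPoints A = Set.univ := by
    rw [← hcl.closure_eq]
    exact closure_closedPoints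
  have : T1Space A := ⟨fun x => by
    have : x ∈ closedPoints A := huniv ▸ Set.mem_univ x
    exact this⟩
  infer_instance

end Top

section Sch

/-- In a locally Noetherian scheme, a point with an open neighbourhood without nontrivial
specializations is open. -/
theorem isOpen_singleton_of_nbhd {X : Scheme.{u}} [IsLocallyNoetherian X] (x : ↥X) (N : Set ↥X)
    (hN : IsOpen N) (hx : x ∈ N)
    (h1 : ∀ x' : ↥X, x' ∈ N → x' ⤳ x → x' = x) (h2 : ∀ x' : ↥X, x' ∈ N → x ⤳ x' → x' = x) :
    IsOpen ({x} : Set ↥X) := by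
  obtain ⟨_, ⟨W', hW', rfl⟩, hxW', hW'N⟩ :=
    X.isBasis_affineOpens.exists_subset_of_mem_open hx hN
  have : IsNoetherianRing Γ(X, W') := IsLocallyNoetherian.component_noetherian ⟨W', hW'⟩
  have : NoetherianSpace ↥W' := noetherianSpace_of_isAffineOpen W' hW'
  have hind : Topology.IsInducing (Subtype.val : ↥W' → ↥X) := Topology.IsInducing.subtypeVal
  have : QuasiSober ↥W' := W'.2.isOpenEmbedding_subtypeVal.quasiSober
  have hop : IsOpen ({⟨x, hxW'⟩} : Set ↥W') := by
    apply isOpen_singleton_of_noetherian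
    · rw [← closure_subset_iff_isClosed]
      intro z hz
      have hs : (⟨x, hxW'⟩ : ↥W') ⤳ z := specializes_iff_mem_closure.2 hz
      have hs' : x ⤳ z.1 := hind.specializes_iff.2 hs
      have := h2 z.1 (hW'N z.2) hs'
      exact Subtype.ext this
    · intro z hz
      have hs' : z.1 ⤳ x := hind.specializes_iff.2 hz
      exact Subtype.ext (h1 z.1 (hW'N z.2) hs')
  have h3 := W'.2.isOpenEmbedding_subtypeVal.isOpenMap _ hop
  simpa using h3

/-- In a locally Noetherian Jacobson scheme, any set of isolated points is closed. -/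
theorem isClosed_of_subset_isolated {X : Scheme.{u}} [IsLocallyNoetherian X] [JacobsonSpace ↥X]
    (T : Set ↥X) (hT : ∀ t ∈ T, IsOpen ({t} : Set ↥X)) : IsClosed T := by
  rw [← isOpen_compl_iff, isOpen_iff_forall_mem_open]
  intro z hz
  obtain ⟨_, ⟨W', hW', rfl⟩, hzW', -⟩ :=
    X.isBasis_affineOpens.exists_subset_of_mem_open (Set.mem_univ z) isOpen_univ
  have : IsNoetherianRing Γ(X, W') := IsLocallyNoetherian.component_noetherian ⟨W', hW'⟩
  have : NoetherianSpace ↥W' := noetherianSpace_of_isAffineOpen W' hW'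
  have hfin := finite_isOpen_singleton (X := ↥W')
  have hfin' : ((W' : Set ↥X) ∩ T).Finite := by
    refine (hfin.image Subtype.val).subset ?_
    rintro t ⟨htW, htT⟩
    refine ⟨⟨t, htW⟩, ?_, rfl⟩
    have : ({⟨t, htW⟩} : Set ↥W') = Subtype.val ⁻¹' {t} := by
      ext s; simp [Subtype.ext_iff]
    change IsOpen ({⟨t, htW⟩} : Set ↥W')
    rw [this]
    exact (hT t htT).preimage continuous_subtype_val
  have hcl : IsClosed ((W' : Set ↥X) ∩ T) := by
    have : (W' : Set ↥X) ∩ T = ⋃ t ∈ (W' : Set ↥X) ∩ T, {t} := by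
      ext x; simp
    rw [this]
    exact hfin'.isClosed_biUnion fun t ht =>
      isClosed_singleton_of_isLocallyClosed_singleton (hT t ht.2).isLocallyClosed
  refine ⟨(W' : Set ↥X) ∩ ((W' : Set ↥X) ∩ T)ᶜ, ?_, W'.2.inter hcl.isOpen_compl, hzW', ?_⟩
  · rintro s ⟨hsW, hsn⟩ hsT
    exact hsn ⟨hsW, hsT⟩
  · rintro ⟨-, hzT⟩
    exact hz hzT

/-- Quasi-finiteness at a point in terms of the topology of the source. -/
theorem quasiFiniteAt_iff_exists_open {U V : Scheme.{u}} (h : U ⟶ V) [LocallyOfFiniteType h]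
    (u : ↥U) :
    h.QuasiFiniteAt u ↔ ∃ W : Set ↥U, IsOpen W ∧ u ∈ W ∧ ∀ u' ∈ W, h u' = h u → u' = u := by
  rw [Scheme.Hom.quasiFiniteAt_iff_isOpen_singleton_asFiber]
  have hemb : Topology.IsEmbedding (h.fiberι (h u)) := (h.fiberι (h u)).isEmbedding
  constructor
  · intro hop
    obtain ⟨W, hW, hWeq⟩ := hemb.isInducing.isOpen_iff.1 hop
    refine ⟨W, hW, ?_, ?_⟩
    · have : h.asFiber u ∈ (h.fiberι (h u)) ⁻¹' W := by rw [hWeq]; rfl
      simpa [Scheme.Hom.fiberι_asFiber] using this
    · intro u' hu' he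
      have : u' ∈ Set.range (h.fiberι (h u)) := by
        rw [Scheme.Hom.range_fiberι]; exact he
      obtain ⟨z, rfl⟩ := this
      have hz : z ∈ (h.fiberι (h u)) ⁻¹' W := hu'
      rw [hWeq] at hz
      rw [Set.mem_singleton_iff.1 hz, Scheme.Hom.fiberι_asFiber]
  · rintro ⟨W, hW, huW, hWu⟩
    have : ({h.asFiber u} : Set ↥(h.fiber (h u))) = (h.fiberι (h u)) ⁻¹' W := by
      ext z
      constructor
      · intro hz
        rw [Set.mem_singleton_iff.1 hz]
        change h.fiberι (h u) (h.asFiber u) ∈ W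
        rw [Scheme.Hom.fiberι_asFiber]
        exact huW
      · intro hz
        have h1 : h (h.fiberι (h u) z) = h u := by
          have : h.fiberι (h u) z ∈ Set.range (h.fiberι (h u)) := ⟨z, rfl⟩
          rw [Scheme.Hom.range_fiberι] at this
          exact this
        have h2 := hWu _ hz h1
        apply hemb.injective
        rw [Scheme.Hom.fiberι_asFiber]
        exact h2
    rw [this]
    exact hW.preimage (h.fiberι (h u)).continuous

end Sch


section Fibre

open Groth.Agent.Lib.Helper23.AlgSpMor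

variable {S : Scheme.{u}} {X Y : Space S} (f : X ⟶ Y) (hf : LocP @LocallyOfFiniteType f.hom)
  (r : FieldPt Y.obj) (Xk : Sp S) (hXk : IsAlgSpace Xk) (fst : Xk ⟶ X.obj)
  (snd : Xk ⟶ (yon S).obj r.pt) (hsq : IsPullback fst snd f.hom r.toHom)

include hf hXk hsq in
theorem locP_snd : LocP @LocallyOfFiniteType snd :=
  Groth.Agent.Lib.Helper46.LocPChart.locP_of_isPullback
    Groth.Agent.Lib.Helper30.EtLocalInst.etLocal_lft X.property Y.property hXk
    (IsAlgSpace.yon_obj _) hsq hf

include hf hXk hsq in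
theorem isLocNoethSp_fibre : IsLocNoethSp Xk :=
  isLocNoethSp_of_locP_lft hXk (IsAlgSpace.yon_obj _) snd (locP_snd f hf r Xk hXk fst snd hsq)
    (have : IsLocallyNoetherian r.pt.left :=
      (inferInstance : IsLocallyNoetherian (Spec (CommRingCat.of r.K)))
     isLocNoethSp_yon r.pt)

include hf hXk hsq in
theorem chart_props {W : Over S} (c : (yon S).obj W ⟶ Xk) (hc : RepWith @Etale c) :
    IsLocallyNoetherian W.left ∧ JacobsonSpace ↥W.left := by
  have hN := isLocNoethSp_fibre f hf r Xk hXk fst snd hsq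
  refine ⟨isLocallyNoetherian_of_etale_chart hN c hc, ?_⟩
  obtain ⟨g, hg⟩ := (yon S).map_surjective (c ≫ snd)
  have hlft : LocallyOfFiniteType g.left :=
    (locP_snd f hf r Xk hXk fst snd hsq) c (𝟙 _) g hc (repWith_id _ _)
      (by rw [hg, Category.comp_id])
  let gl : W.left ⟶ Spec (CommRingCat.of r.K) := g.left
  have : LocallyOfFiniteType gl := hlft
  exact LocallyOfFiniteType.jacobsonSpace gl

include hf hXk hsq in
/-- a point of the fibre is open iff the fibre has dimension zero there -/
theorem isOpen_singleton_iff_hasAt (xt : Points Xk) :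
    IsOpen ({xt} : Set (Points Xk)) ↔
      HasAt (fun U u => FlatMor.localDim ↥U u = 0) Xk xt := by
  have hN := isLocNoethSp_fibre f hf r Xk hXk fst snd hsq
  constructor
  · intro hop
    obtain ⟨W, c, hce, hcs⟩ := hXk.atlas
    obtain ⟨w, hw⟩ := ofPt_surjective c hcs xt
    have : IsLocallyNoetherian W.left := isLocallyNoetherian_of_etale_chart hN c hce
    refine ⟨W, c, w, hce, hw, ?_⟩
    apply localDim_eq_zero_of_isOpen_singleton
    apply isOpen_singleton_of_nbhd w (Points.ofPt c ⁻¹' {xt})
      (hop.preimage (Points.continuous_ofPt c)) hw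
    · intro w' hw' hs
      exact (eq_of_specializes_of_isLocNoethSp hN c hce w w' (hw.trans hw'.symm) hs).symm
    · intro w' hw' hs
      exact eq_of_specializes_of_isLocNoethSp hN c hce w' w (hw'.trans hw.symm) hs
  · rintro ⟨U, a, u, ha, hu, hd⟩
    have : IsLocallyNoetherian U.left := isLocallyNoetherian_of_etale_chart hN a ha
    have h1 := isOpen_singleton_of_localDim_eq_zero u hd
    have h2 := isOpenMap_ofPt a ha _ h1
    rwa [Set.image_singleton, hu] at h2

include hf hXk hsq in
/-- the fibre has dimension zero at a point iff `f` is quasi-finite at its image -/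
theorem hasAt_iff_hasAtMor (xt : Points Xk) :
    HasAt (fun U u => FlatMor.localDim ↥U u = 0) Xk xt ↔
      HasAtMor (fun U _ h u => ∃ W : U.Opens, u ∈ W ∧ LocallyQuasiFinite (W.ι ≫ h) ∧
        LocallyOfFiniteType (W.ι ≫ h)) f.hom (Points.map fst xt) := by
  rw [Groth.Agent.S10313.hasAtMor_lqf_iff_mem_qfLocus f hf]
  constructor
  · rintro ⟨W, c, w, hc, hw, hd⟩
    obtain ⟨U, V, a, b, h, u, hae, has, hbe, hbs, comm, hu, -⟩ :=
      exists_chart_diagram_at f (Points.map fst xt)
    refine ⟨U, V, a, b, h, u, hae, hbe, comm, hu, ?_⟩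
    show FlatMor.fibreDimAt h.left u = 0
    rw [localDim_eq_fibreDimAt f hf r Xk fst snd hsq c hc w a b h u hae hbe comm
      (by rw [hu, hw]), hd]
  · rintro ⟨U, V, a, b, h, u, hae, hbe, comm, hu, hq⟩
    obtain ⟨W, c, hce, hcs⟩ := hXk.atlas
    obtain ⟨w, hw⟩ := ofPt_surjective c hcs xt
    refine ⟨W, c, w, hce, hw, ?_⟩
    show FlatMor.localDim ↥W.left w = 0
    rw [← localDim_eq_fibreDimAt f hf r Xk fst snd hsq c hce w a b h u hae hbe comm
      (by rw [hu, hw])]
    exact hq

include hf hXk hsq in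
/-- a point of the fibre is open iff it is closed without proper generizations -/
theorem isOpen_singleton_iff_closed (xt : Points Xk) :
    IsOpen ({xt} : Set (Points Xk)) ↔
      IsClosed ({xt} : Set (Points Xk)) ∧ ∀ x' : Points Xk, x' ⤳ xt → x' = xt := by
  have hN := isLocNoethSp_fibre f hf r Xk hXk fst snd hsq
  obtain ⟨W, c, hce, hcs⟩ := hXk.atlas
  obtain ⟨hWN, hWJ⟩ := chart_props f hf r Xk hXk fst snd hsq c hce
  have hq := isQuotientMap_ofPt c hce hcs
  constructor
  · intro hop
    refine ⟨?_, fun x' hx' => hx'.mem_open hop rfl⟩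
    rw [← hq.isClosed_preimage]
    apply isClosed_of_subset_isolated
    intro t ht
    apply isOpen_singleton_of_nbhd t (Points.ofPt c ⁻¹' {xt})
      (hop.preimage (Points.continuous_ofPt c)) ht
    · intro w' hw' hs
      exact (eq_of_specializes_of_isLocNoethSp hN c hce t w' (ht.trans hw'.symm) hs).symm
    · intro w' hw' hs
      exact eq_of_specializes_of_isLocNoethSp hN c hce w' t (hw'.trans ht.symm) hs
  · rintro ⟨hcl, hgen⟩
    obtain ⟨w, hw⟩ := ofPt_surjective c hcs xt
    have h1 : IsOpen ({w} : Set ↥W.left) := by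
      apply isOpen_singleton_of_nbhd w Set.univ isOpen_univ trivial
      · intro w' _ hs
        have h2 : Points.ofPt c w' = xt :=
          hgen _ (hw ▸ hs.map (Points.continuous_ofPt c))
        exact (eq_of_specializes_of_isLocNoethSp hN c hce w w' (hw.trans h2.symm) hs).symm
      · intro w' _ hs
        have h3 : xt ⤳ Points.ofPt c w' := hw ▸ hs.map (Points.continuous_ofPt c)
        rw [specializes_iff_mem_closure, hcl.closure_eq] at h3
        exact eq_of_specializes_of_isLocNoethSp hN c hce w' w (h3.trans hw.symm) hs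
    have h2 := isOpenMap_ofPt c hce _ h1
    rwa [Set.image_singleton, hw] at h2

end Fibre

end Groth.Agent.Lib.Helper36.FibrePts
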