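import Groth.Agent.Lib.Helper36.FibrePts
import Groth.Agent.Lib.Helper37.QsSober
import Groth.Agent.Lib.Helper23.AlgSpMor4

set_option autoImplicit false
universe u
open CategoryTheory CategoryTheory.Limits AlgebraicGeometry TopologicalSpace

namespace Groth.Agent.Lib.Helper36.FibrePts

open AlgSp Groth.Agent.Lib.Helper37.AlgSpPoints Groth.Agent.Lib.Helper37.AlgSpFibres
  Groth.Agent.Lib.Helper36.AlgSpCharts Groth.Agent.Lib.Helper36.AlgSpChartDiag
  Groth.Agent.Lib.Helper36.FibreDimSp Groth.Agent.Lib.Helper36.FibreDimZero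
  Groth.Agent.Lib.Helper36.QFLocus Groth.Agent.Lib.Helper36.QuasiFiniteAt
  Groth.Agent.Lib.Helper30.DecentDim Groth.Agent.Lib.Helper23.AlgSpMor

section Decent

variable {S : Scheme.{u}} {X Y : Space S} (f : X ⟶ Y) (hf : LocP @LocallyOfFiniteType f.hom)

/-- chart diagram through a point with affine target chart -/
theorem exists_chart_affine (x : Points X.obj) :
    ∃ (W V : Over S) (a : (yon S).obj W ⟶ X.obj) (b : (yon S).obj V ⟶ Y.obj) (h : W ⟶ V)
      (w : ↥W.left), RepWith @Etale a ∧ RepWith @Etale b ∧ a ≫ f.hom = (yon S).map h ≫ b ∧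
      Points.ofPt a w = x ∧ IsAffine V.left := by
  obtain ⟨V, b, v, hV, hbe, hv⟩ :=
    Groth.Agent.Lib.Helper37.QsSober.exists_affine_chart Y (Points.map f.hom x)
  obtain ⟨U, p, hpe, hps⟩ := X.property.atlas
  obtain ⟨u₀, hu₀⟩ := ofPt_surjective p hps x
  obtain ⟨W, p1, h, h1, -, sq⟩ := exists_chart_diagram_of_charts f.hom p b hbe
  have e : Points.ofPt (p ≫ f.hom) u₀ = Points.ofPt b v := by
    rw [← Points.map_ofPt, hu₀, hv]
  obtain ⟨w, hw1, hw2⟩ := (ofPt_eq_ofPt_iff sq u₀ v).1 e
  refine ⟨W, V, (yon S).map p1 ≫ p, b, h, w, repWith_yon_map_comp p1 h1 p hpe, hbe, ?_, ?_, hV⟩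
  · rw [Category.assoc]; exact sq.w
  · rw [ofPt_map_comp, hw1, hu₀]

/-- over a decent space, points of a quasi-compact étale chart are isolated in their fibre -/
theorem exists_open_isolating (hY : IsDecent Y.obj) {V : Over S} (b : (yon S).obj V ⟶ Y.obj)
    (hb : RepWith @Etale b) [CompactSpace ↥V.left] (v : ↥V.left) :
    ∃ V₁ : Set ↥V.left, IsOpen V₁ ∧ v ∈ V₁ ∧
      ∀ v' ∈ V₁, Points.ofPt b v' = Points.ofPt b v → v' = v := by
  obtain ⟨p, hp, -, hq⟩ := hY (Points.ofPt b v)
  have hfin := finite_fibre_of_qc_point p hq b hb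
  rw [hp] at hfin
  set T : Set ↥V.left := {v' | Points.ofPt b v' = Points.ofPt b v ∧ v' ≠ v} with hT
  have hTfin : T.Finite := hfin.subset (fun v' hv' => hv'.1)
  have hcl : IsClosed (⋃ t ∈ T, closure ({t} : Set ↥V.left)) :=
    hTfin.isClosed_biUnion (fun t _ => isClosed_closure)
  refine ⟨(⋃ t ∈ T, closure ({t} : Set ↥V.left))ᶜ, hcl.isOpen_compl, ?_, ?_⟩
  · intro hv
    simp only [Set.mem_iUnion] at hv
    obtain ⟨t, ht, hvt⟩ := hv
    have hs : t ⤳ v := specializes_iff_mem_closure.2 hvt
    have := eq_of_specializes_of_isDecent hY b hb v t ht.1.symm hs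
    exact ht.2 this.symm
  · intro v' hv' he
    by_contra hne
    apply hv'
    simp only [Set.mem_iUnion]
    exact ⟨v', ⟨he, hne⟩, subset_closure rfl⟩

include hf in
/-- L9a: over a decent base, a point of the quasi-finite locus is isolated in its fibre -/
theorem exists_open_of_mem_qfLocus (hY : IsDecent Y.obj) (x : Points X.obj) (hx : x ∈ qfLocus f) :
    ∃ O : Set (Points X.obj), IsOpen O ∧ x ∈ O ∧
      ∀ x' ∈ O, Points.map f.hom x' = Points.map f.hom x → x' = x := by
  obtain ⟨W, V, a, b, h, w, hae, hbe, comm, hw, hV⟩ := exists_chart_affine f x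
  have : LocallyOfFiniteType h.left := hf a b h hae hbe comm
  have hq : h.left.QuasiFiniteAt w :=
    (mem_qfLocus_iff_of_chart f hf a b h hae hbe comm w).1 (hw ▸ hx)
  obtain ⟨W₁, hW₁, hwW₁, hW₁u⟩ := (quasiFiniteAt_iff_exists_open h.left w).1 hq
  obtain ⟨V₁, hV₁, hvV₁, hV₁u⟩ := exists_open_isolating hY b hbe (h.left w)
  have key : ∀ z : ↥W.left, Points.ofPt b (h.left z) = Points.map f.hom (Points.ofPt a z) := by
    intro z; rw [Points.map_ofPt, comm, ofPt_map_comp]
  refine ⟨Points.ofPt a '' (W₁ ∩ h.left ⁻¹' V₁),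
    isOpenMap_ofPt a hae _ (hW₁.inter (hV₁.preimage h.left.continuous)),
    ⟨w, ⟨hwW₁, hvV₁⟩, hw⟩, ?_⟩
  rintro _ ⟨z, ⟨hz1, hz2⟩, rfl⟩ he
  have h1 : h.left z = h.left w := by
    apply hV₁u _ hz2
    rw [key, key, he, hw]
  rw [hW₁u z hz1 h1, hw]

include hf in
/-- L9b: over a decent base, a point isolated in its fibre lies in the quasi-finite locus -/
theorem mem_qfLocus_of_isolated (hY : IsDecent Y.obj) (x : Points X.obj)
    (O : Set (Points X.obj)) (hO : IsOpen O) (hxO : x ∈ O)
    (hiso : ∀ x' ∈ O, Points.map f.hom x' = Points.map f.hom x → x' = x) : x ∈ qfLocus f := by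
  obtain ⟨p, hp, hm, hq⟩ := hY (Points.map f.hom x)
  have sqp : IsPullback (pullback.fst f.hom p.toHom) (pullback.snd f.hom p.toHom) f.hom p.toHom :=
    IsPullback.of_hasPullback _ _
  have hXp : IsAlgSpace (pullback f.hom p.toHom) :=
    isAlgSpace_of_isPullback X.property (IsAlgSpace.yon_obj _) Y.property.diag sqp
  have hmono : Mono (pullback.fst f.hom p.toHom) := inferInstance
  have hinj := Groth.Agent.Lib.Helper30.LocPNbhd.points_map_injective_of_mono
    (pullback.fst f.hom p.toHom)
  obtain ⟨xt, hxt⟩ := exists_point_fibre sqp x hp.symm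
  have hop : IsOpen ({xt} : Set (Points (pullback f.hom p.toHom))) := by
    have : ({xt} : Set (Points (pullback f.hom p.toHom))) =
        Points.map (pullback.fst f.hom p.toHom) ⁻¹' O := by
      ext z; constructor
      · intro hz
        rw [Set.mem_singleton_iff.1 hz]
        show Points.map _ xt ∈ O
        rw [hxt]; exact hxO
      · intro hz
        apply hinj
        rw [hxt]
        apply hiso _ hz
        rw [map_map_fst_eq_mk sqp, hp]
    rw [this]; exact hO.preimage (Points.continuous_map _)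
  have h2 := (isOpen_singleton_iff_hasAt f hf p _ hXp _ _ sqp xt).1 hop
  have h3 := (hasAt_iff_hasAtMor f hf p _ hXp _ _ sqp xt).1 h2
  rw [hxt] at h3
  exact (Groth.Agent.S10313.hasAtMor_lqf_iff_mem_qfLocus f hf x).1 h3

include hf in
/-- L9c': over a decent base, a point of the quasi-finite locus does not specialize to another
point of its fibre -/
theorem exists_open_not_mem (hY : IsDecent Y.obj) (x : Points X.obj) (hx : x ∈ qfLocus f)
    (x' : Points X.obj) (hfx : Points.map f.hom x' = Points.map f.hom x) (hne : x' ≠ x) :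
    ∃ O' : Set (Points X.obj), IsOpen O' ∧ x' ∈ O' ∧ x ∉ O' := by
  obtain ⟨W, V, a, b, h, w', hae, hbe, comm, hw', hV⟩ := exists_chart_affine f x'
  have : LocallyOfFiniteType h.left := hf a b h hae hbe comm
  obtain ⟨V₁, hV₁, hvV₁, hV₁u⟩ := exists_open_isolating hY b hbe (h.left w')
  have key : ∀ z : ↥W.left, Points.ofPt b (h.left z) = Points.map f.hom (Points.ofPt a z) := by
    intro z; rw [Points.map_ofPt, comm, ofPt_map_comp]
  have hι : ∀ z, h.left (h.left.fiberι (h.left w') z) = h.left w' := by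
    intro z
    have : h.left.fiberι (h.left w') z ∈ Set.range (h.left.fiberι (h.left w')) := ⟨z, rfl⟩
    rw [Scheme.Hom.range_fiberι] at this
    exact this
  have hemb : Topology.IsEmbedding (h.left.fiberι (h.left w')) :=
    (h.left.fiberι (h.left w')).isEmbedding
  set T : Set ↥(h.left.fiber (h.left w')) :=
    {z | Points.ofPt a (h.left.fiberι (h.left w') z) = x} with hT
  have hTcl : IsClosed T := by
    apply isClosed_of_subset_isolated
    intro t ht
    have hq : h.left.QuasiFiniteAt (h.left.fiberι (h.left w') t) :=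
      (mem_qfLocus_iff_of_chart f hf a b h hae hbe comm _).1 (by rw [ht]; exact hx)
    obtain ⟨W₁, hW₁, htW₁, hW₁u⟩ := (quasiFiniteAt_iff_exists_open h.left _).1 hq
    have : ({t} : Set ↥(h.left.fiber (h.left w'))) = (h.left.fiberι (h.left w')) ⁻¹' W₁ := by
      ext z; constructor
      · intro hz; rw [Set.mem_singleton_iff.1 hz]; exact htW₁
      · intro hz
        have := hW₁u _ hz (by rw [hι, hι])
        exact hemb.injective this
    rw [this]; exact hW₁.preimage (h.left.fiberι (h.left w')).continuous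
  have hw'r : w' ∈ Set.range (h.left.fiberι (h.left w')) := by
    rw [Scheme.Hom.range_fiberι]; rfl
  obtain ⟨z', hz'⟩ := hw'r
  have hz'T : z' ∉ T := by
    intro hz; apply hne; rw [← hw', ← hz']; exact hz
  obtain ⟨M, hM, hMeq⟩ := (hemb.isInducing.isOpen_iff).1 hTcl.isOpen_compl
  refine ⟨Points.ofPt a '' (M ∩ h.left ⁻¹' V₁),
    isOpenMap_ofPt a hae _ (hM.inter (hV₁.preimage h.left.continuous)),
    ⟨w', ⟨?_, hvV₁⟩, hw'⟩, ?_⟩
  · have : z' ∈ (h.left.fiberι (h.left w')) ⁻¹' M := by rw [hMeq]; exact hz'T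
    rw [← hz']; exact this
  · rintro ⟨z, ⟨hzM, hzV⟩, hzx⟩
    have h1 : h.left z = h.left w' := by
      apply hV₁u _ hzV
      rw [key, key, hzx, hw', hfx]
    have hzr : z ∈ Set.range (h.left.fiberι (h.left w')) := by
      rw [Scheme.Hom.range_fiberι]; exact h1
    obtain ⟨z₀, rfl⟩ := hzr
    have : z₀ ∈ (h.left.fiberι (h.left w')) ⁻¹' M := hzM
    rw [hMeq] at this
    exact this hzx

include hf in
/-- over a decent base, a point closed in its fibre without proper generizations in its fibre lies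
in the quasi-finite locus -/
theorem mem_qfLocus_of_closed_noGen (hY : IsDecent Y.obj) (x : Points X.obj)
    (hcl : ∀ x' : Points X.obj, Points.map f.hom x' = Points.map f.hom x → x ⤳ x' → x' = x)
    (hgen : ∀ x' : Points X.obj, Points.map f.hom x' = Points.map f.hom x → x' ⤳ x → x' = x) :
    x ∈ qfLocus f := by
  obtain ⟨p, hp, hm, hq⟩ := hY (Points.map f.hom x)
  have sqp : IsPullback (pullback.fst f.hom p.toHom) (pullback.snd f.hom p.toHom) f.hom p.toHom :=
    IsPullback.of_hasPullback _ _
  have hXp : IsAlgSpace (pullback f.hom p.toHom) :=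
    isAlgSpace_of_isPullback X.property (IsAlgSpace.yon_obj _) Y.property.diag sqp
  have hmono : Mono (pullback.fst f.hom p.toHom) := inferInstance
  have hinj := Groth.Agent.Lib.Helper30.LocPNbhd.points_map_injective_of_mono
    (pullback.fst f.hom p.toHom)
  obtain ⟨xt, hxt⟩ := exists_point_fibre sqp x hp.symm
  have hcont := Points.continuous_map (pullback.fst f.hom p.toHom)
  have hop : IsOpen ({xt} : Set (Points (pullback f.hom p.toHom))) := by
    rw [isOpen_singleton_iff_closed f hf p _ hXp _ _ sqp xt]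
    constructor
    · rw [← closure_subset_iff_isClosed]
      intro z hz
      have hs : xt ⤳ z := specializes_iff_mem_closure.2 hz
      have hs' := hs.map hcont
      rw [hxt] at hs'
      apply hinj
      rw [hxt]
      exact hcl _ (by rw [map_map_fst_eq_mk sqp, hp]) hs'
    · intro z hs
      have hs' := hs.map hcont
      rw [hxt] at hs'
      apply hinj
      rw [hxt]
      exact hgen _ (by rw [map_map_fst_eq_mk sqp, hp]) hs'
  have h2 := (isOpen_singleton_iff_hasAt f hf p _ hXp _ _ sqp xt).1 hop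
  have h3 := (hasAt_iff_hasAtMor f hf p _ hXp _ _ sqp xt).1 h2
  rw [hxt] at h3
  exact (Groth.Agent.S10313.hasAtMor_lqf_iff_mem_qfLocus f hf x).1 h3

include hf in
/-- L10: for a decent source, a point with a neighbourhood whose part in the fibre has no
nontrivial specializations lies in the quasi-finite locus -/
theorem mem_qfLocus_of_nbhd_decent (hX : IsDecent X.obj) (x : Points X.obj)
    (N : Set (Points X.obj)) (hN : IsOpen N) (hxN : x ∈ N)
    (hspec : ∀ x₁ ∈ N, ∀ x₂ ∈ N, Points.map f.hom x₁ = Points.map f.hom x →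
      Points.map f.hom x₂ = Points.map f.hom x → x₁ ⤳ x₂ → x₁ = x₂) : x ∈ qfLocus f := by
  obtain ⟨W, V, a, b, h, w, hae, has, hbe, hbs, comm, hw, -⟩ := exists_chart_diagram_at f x
  have : LocallyOfFiniteType h.left := hf a b h hae hbe comm
  have key : ∀ z : ↥W.left, Points.ofPt b (h.left z) = Points.map f.hom (Points.ofPt a z) := by
    intro z; rw [Points.map_ofPt, comm, ofPt_map_comp]
  have hι : ∀ z, h.left (h.left.fiberι (h.left w) z) = h.left w := by
    intro z
    have : h.left.fiberι (h.left w) z ∈ Set.range (h.left.fiberι (h.left w)) := ⟨z, rfl⟩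
    rw [Scheme.Hom.range_fiberι] at this
    exact this
  have hemb : Topology.IsEmbedding (h.left.fiberι (h.left w)) :=
    (h.left.fiberι (h.left w)).isEmbedding
  have hfz : ∀ z, Points.map f.hom (Points.ofPt a (h.left.fiberι (h.left w) z)) =
      Points.map f.hom x := by
    intro z; rw [← key, hι, key, hw]
  rw [← hw, mem_qfLocus_iff_of_chart f hf a b h hae hbe comm w,
    Scheme.Hom.quasiFiniteAt_iff_isOpen_singleton_asFiber]
  have hcN : IsOpen ((h.left.fiberι (h.left w)) ⁻¹' (Points.ofPt a ⁻¹' N)) :=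
    (hN.preimage (Points.continuous_ofPt a)).preimage (h.left.fiberι (h.left w)).continuous
  apply isOpen_singleton_of_nbhd (h.left.asFiber w) _ hcN
  · show Points.ofPt a (h.left.fiberι (h.left w) (h.left.asFiber w)) ∈ N
    rw [Scheme.Hom.fiberι_asFiber, hw]; exact hxN
  · intro z hz hs
    have hs1 : h.left.fiberι (h.left w) z ⤳ w := by
      have := hs.map (h.left.fiberι (h.left w)).continuous
      rwa [Scheme.Hom.fiberι_asFiber] at this
    have hs2 : Points.ofPt a (h.left.fiberι (h.left w) z) ⤳ x := by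
      have := hs1.map (Points.continuous_ofPt a)
      rwa [hw] at this
    have he := hspec _ hz _ hxN (hfz z) rfl hs2
    have := eq_of_specializes_of_isDecent hX a hae w _ (by rw [hw, he]) hs1
    apply hemb.injective
    rw [Scheme.Hom.fiberι_asFiber]
    exact this.symm
  · intro z hz hs
    have hs1 : w ⤳ h.left.fiberι (h.left w) z := by
      have := hs.map (h.left.fiberι (h.left w)).continuous
      rwa [Scheme.Hom.fiberι_asFiber] at this
    have hs2 : x ⤳ Points.ofPt a (h.left.fiberι (h.left w) z) := by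
      have := hs1.map (Points.continuous_ofPt a)
      rwa [hw] at this
    have he := hspec _ hxN _ hz rfl (hfz z) hs2
    have := eq_of_specializes_of_isDecent hX a hae _ w (by rw [hw, ← he]) hs1
    apply hemb.injective
    rw [Scheme.Hom.fiberι_asFiber]
    exact this

include hf in
/-- for a decent source, a point whose fibre is finite lies in the quasi-finite locus -/
theorem mem_qfLocus_of_finite_decent (hX : IsDecent X.obj) (x : Points X.obj)
    (hfin : (Points.map f.hom ⁻¹' {Points.map f.hom x}).Finite) : x ∈ qfLocus f := by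
  obtain ⟨W, V, a, b, h, w, hae, has, hbe, hbs, comm, hw, -⟩ := exists_chart_diagram_at f x
  have : LocallyOfFiniteType h.left := hf a b h hae hbe comm
  have key : ∀ z : ↥W.left, Points.ofPt b (h.left z) = Points.map f.hom (Points.ofPt a z) := by
    intro z; rw [Points.map_ofPt, comm, ofPt_map_comp]
  have hι : ∀ z, h.left (h.left.fiberι (h.left w) z) = h.left w := by
    intro z
    have : h.left.fiberι (h.left w) z ∈ Set.range (h.left.fiberι (h.left w)) := ⟨z, rfl⟩
    rw [Scheme.Hom.range_fiberι] at this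
    exact this
  have hemb : Topology.IsEmbedding (h.left.fiberι (h.left w)) :=
    (h.left.fiberι (h.left w)).isEmbedding
  have hfz : ∀ z, Points.map f.hom (Points.ofPt a (h.left.fiberι (h.left w) z)) =
      Points.map f.hom x := by
    intro z; rw [← key, hι, key, hw]
  obtain ⟨_, ⟨W₀, hW₀, rfl⟩, hwW₀, -⟩ :=
    W.left.isBasis_affineOpens.exists_subset_of_mem_open (Set.mem_univ w) isOpen_univ
  have ha₀ := repWith_etale_restrict a hae W₀
  have : CompactSpace ↥(openOver W W₀).left := isCompact_iff_compactSpace.1 hW₀.isCompact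
  -- the part of `W₀` over the fibre is finite
  have hfinW : ((W₀ : Set ↥W.left) ∩ Points.ofPt a ⁻¹'
      (Points.map f.hom ⁻¹' {Points.map f.hom x})).Finite := by
    have : (W₀ : Set ↥W.left) ∩ Points.ofPt a ⁻¹' (Points.map f.hom ⁻¹' {Points.map f.hom x}) ⊆
        ⋃ x' ∈ (Points.map f.hom ⁻¹' {Points.map f.hom x}),
          Subtype.val '' (Points.ofPt ((yon S).map (openι W W₀) ≫ a) ⁻¹' {x'}) := by
      rintro z ⟨hz1, hz2⟩
      simp only [Set.mem_iUnion]
      exact ⟨Points.ofPt a z, hz2, ⟨z, hz1⟩, ofPt_restrict a W₀ ⟨z, hz1⟩, rfl⟩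
    refine (hfin.biUnion fun x' _ => ?_).subset this
    obtain ⟨q, hq, -, hqc⟩ := hX x'
    have := finite_fibre_of_qc_point q hqc _ ha₀
    rw [hq] at this
    exact this.image _
  set Φ₀ : Set ↥(h.left.fiber (h.left w)) := (h.left.fiberι (h.left w)) ⁻¹' (W₀ : Set ↥W.left)
    with hΦ₀
  have hΦ₀o : IsOpen Φ₀ := W₀.2.preimage (h.left.fiberι (h.left w)).continuous
  have hΦ₀fin : Φ₀.Finite := by
    refine (hfinW.preimage hemb.injective.injOn).subset ?_
    intro z hz
    exact ⟨hz, hfz z⟩
  have : Finite ↥Φ₀ := hΦ₀fin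
  have : JacobsonSpace ↥Φ₀ := JacobsonSpace.of_isOpenEmbedding hΦ₀o.isOpenEmbedding_subtypeVal
  have hz₀ : h.left.asFiber w ∈ Φ₀ := by
    show h.left.fiberι (h.left w) (h.left.asFiber w) ∈ (W₀ : Set ↥W.left)
    rw [Scheme.Hom.fiberι_asFiber]; exact hwW₀
  rw [← hw, mem_qfLocus_iff_of_chart f hf a b h hae hbe comm w,
    Scheme.Hom.quasiFiniteAt_iff_isOpen_singleton_asFiber]
  have h1 : IsOpen ({⟨h.left.asFiber w, hz₀⟩} : Set ↥Φ₀) := isOpen_discrete _
  have h2 := hΦ₀o.isOpenEmbedding_subtypeVal.isOpenMap _ h1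
  simpa using h2

end Decent

end Groth.Agent.Lib.Helper36.FibrePts
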