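import Groth.Agent.Lib.Helper36.GeomRedGerm
import Groth.Agent.S1545
import Mathlib.CategoryTheory.Limits.Constructions.Over.Products

/-!
# Base change of sheaves over a field to a field extension (helper36)

For `S = Spec k`, a sheaf `X` over `S` and a field extension `K/k`, the base change is
`X ⨯ h_{Spec K}`.  For a chart `a : h_U ⟶ X` we build the chart `aK : h_{U_K} ⟶ X ⨯ h_{Spec K}`
with `U_K = U ×_k Spec K` (literally `FBase.bc U.hom K`), show that it is the base change of `a`,
and lift points.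
-/

set_option autoImplicit false
universe u v w

open CategoryTheory CategoryTheory.Limits AlgebraicGeometry Opposite

namespace Groth.Agent.Lib.Helper36.FieldBC

open AlgSp Groth.Agent.Lib.Helper36.AlgSpCharts Groth.Agent.Lib.Helper37.AlgSpPoints
  Groth.Agent.Lib.Helper36.GeomRedGerm

section General

variable {D : Type u} [Category.{v} D]

/-- If `P = A × T` then `P ⟶ X ⨯ T` is the base change of `a : A ⟶ X` along the projection. -/
theorem isPullback_prod_lift {A T X P : D} {π : P ⟶ A} {q : P ⟶ T}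
    (hP : IsLimit (BinaryFan.mk π q)) (a : A ⟶ X) [HasBinaryProduct X T] :
    IsPullback (prod.lift (π ≫ a) q) π (prod.fst : X ⨯ T ⟶ X) a := by
  have w : prod.lift (π ≫ a) q ≫ (prod.fst : X ⨯ T ⟶ X) = π ≫ a := prod.lift_fst _ _
  refine ⟨⟨w⟩, ⟨PullbackCone.IsLimit.mk w
    (fun s => hP.lift (BinaryFan.mk s.snd (s.fst ≫ prod.snd))) ?_ ?_ ?_⟩⟩
  · intro s
    have h1 : hP.lift (BinaryFan.mk s.snd (s.fst ≫ prod.snd)) ≫ π = s.snd :=
      hP.fac (BinaryFan.mk s.snd (s.fst ≫ prod.snd)) ⟨WalkingPair.left⟩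
    have h2 : hP.lift (BinaryFan.mk s.snd (s.fst ≫ prod.snd)) ≫ q = s.fst ≫ prod.snd :=
      hP.fac (BinaryFan.mk s.snd (s.fst ≫ prod.snd)) ⟨WalkingPair.right⟩
    apply Limits.prod.hom_ext
    · rw [Category.assoc, prod.lift_fst, ← Category.assoc, h1, s.condition]
    · rw [Category.assoc, prod.lift_snd, h2]
  · intro s
    exact hP.fac (BinaryFan.mk s.snd (s.fst ≫ prod.snd)) ⟨WalkingPair.left⟩
  · intro s m hm1 hm2
    apply BinaryFan.IsLimit.hom_ext hP
    · change m ≫ π = _ ≫ π
      rw [hm2]
      exact (hP.fac (BinaryFan.mk s.snd (s.fst ≫ prod.snd)) ⟨WalkingPair.left⟩).symm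
    · change m ≫ q = _ ≫ q
      have h2 : hP.lift (BinaryFan.mk s.snd (s.fst ≫ prod.snd)) ≫ q = s.fst ≫ prod.snd :=
        hP.fac (BinaryFan.mk s.snd (s.fst ≫ prod.snd)) ⟨WalkingPair.right⟩
      rw [h2, ← hm1, Category.assoc, prod.lift_snd]

/-- `X ⨯ T' ⟶ X ⨯ T` is the base change of `g : T' ⟶ T`. -/
theorem isPullback_prod_map_snd (X : D) {T T' : D} (g : T' ⟶ T) [HasBinaryProduct X T]
    [HasBinaryProduct X T'] :
    IsPullback (prod.map (𝟙 X) g) (prod.snd : X ⨯ T' ⟶ T') (prod.snd : X ⨯ T ⟶ T) g := by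
  have w : prod.map (𝟙 X) g ≫ (prod.snd : X ⨯ T ⟶ T) = (prod.snd : X ⨯ T' ⟶ T') ≫ g :=
    prod.map_snd _ _
  refine ⟨⟨w⟩, ⟨PullbackCone.IsLimit.mk w
    (fun s => prod.lift (s.fst ≫ prod.fst) s.snd) ?_ ?_ ?_⟩⟩
  · intro s
    apply Limits.prod.hom_ext
    · rw [Category.assoc, prod.map_fst, Category.comp_id, prod.lift_fst]
    · rw [Category.assoc, prod.map_snd, ← Category.assoc, prod.lift_snd, s.condition]
  · intro s
    exact prod.lift_snd _ _
  · intro s m hm1 hm2
    apply Limits.prod.hom_ext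
    · rw [prod.lift_fst, ← hm1, Category.assoc, prod.map_fst, Category.comp_id]
    · rw [prod.lift_snd, hm2]

end General

/-- the projection `X ⨯ h_T ⟶ X` is representable -/
theorem representable_prod_fst {S : Scheme.{u}} (X : Sp S) (T' : Over S) :
    Representable (prod.fst : X ⨯ (yon S).obj T' ⟶ X) := by
  have hT : IsTerminal ((yon S).obj (Over.mk (𝟙 S))) :=
    IsTerminal.isTerminalObj (yon S) _ Over.mkIdTerminal
  let g : T' ⟶ Over.mk (𝟙 S) := Over.homMk T'.hom (Category.comp_id _)
  have sq : IsPullback (prod.fst : X ⨯ (yon S).obj T' ⟶ X) prod.snd (hT.from _)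
      ((yon S).map g) := by
    have := IsPullback.of_is_product' (prodIsProd X ((yon S).obj T')) hT
    rwa [hT.hom_ext (hT.from ((yon S).obj T')) ((yon S).map g)] at this
  exact (Representable (S := S)).of_isPullback sq.flip (representable_yon_map g)

variable {k : Type u} [Field k]

/-- `Spec K` as a scheme over `Spec k`. -/
noncomputable abbrev T (k : Type u) [Field k] (K : Type u) [Field K] [Algebra k K] :
    Over (Spec (CommRingCat.of k)) :=
  Over.mk (Spec.map (CommRingCat.ofHom (algebraMap k K)))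

variable (U : Over (Spec (CommRingCat.of k))) (K : Type u) [Field K] [Algebra k K]

/-- `U_K = U ×_k Spec K` as a scheme over `Spec k`. -/
noncomputable def UK : Over (Spec (CommRingCat.of k)) := Over.mk (FBase.bcπ U.hom K ≫ U.hom)

/-- the projection `U_K ⟶ U` -/
noncomputable def πK : UK U K ⟶ U := Over.homMk (FBase.bcπ U.hom K) rfl

/-- the structure map `U_K ⟶ Spec K` -/
noncomputable def qK : UK U K ⟶ T k K :=
  Over.homMk (FBase.bcStr U.hom K) (pullback.condition (f := U.hom)
    (g := Spec.map (CommRingCat.ofHom (algebraMap k K)))).symm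

theorem πK_left : (πK U K).left = FBase.bcπ U.hom K := rfl

theorem qK_left : (qK U K).left = FBase.bcStr U.hom K := rfl

/-- `U_K` is the product of `U` and `Spec K` over `Spec k`. -/
noncomputable def isLimitFan : IsLimit (BinaryFan.mk (πK U K) (qK U K)) :=
  IsLimit.pullbackConeEquivBinaryFanFunctor
    (c := PullbackCone.mk (pullback.fst U.hom (Spec.map (CommRingCat.ofHom (algebraMap k K))))
      (pullback.snd U.hom (Spec.map (CommRingCat.ofHom (algebraMap k K)))) pullback.condition)
    (pullbackIsPullback U.hom (Spec.map (CommRingCat.ofHom (algebraMap k K))))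

/-- `h_{U_K}` is the product of `h_U` and `h_{Spec K}`. -/
noncomputable def isLimitYonFan :
    IsLimit (BinaryFan.mk ((yon (Spec (CommRingCat.of k))).map (πK U K))
      ((yon (Spec (CommRingCat.of k))).map (qK U K))) :=
  mapIsLimitOfPreservesOfIsLimit (yon (Spec (CommRingCat.of k))) _ _ (isLimitFan U K)

variable {U} {X : Sp (Spec (CommRingCat.of k))}

/-- the base change of a chart -/
noncomputable def aK (a : (yon (Spec (CommRingCat.of k))).obj U ⟶ X) :
    (yon (Spec (CommRingCat.of k))).obj (UK U K) ⟶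
      X ⨯ (yon (Spec (CommRingCat.of k))).obj (T k K) :=
  prod.lift ((yon (Spec (CommRingCat.of k))).map (πK U K) ≫ a)
    ((yon (Spec (CommRingCat.of k))).map (qK U K))

theorem aK_fst (a : (yon (Spec (CommRingCat.of k))).obj U ⟶ X) :
    aK K a ≫ prod.fst = (yon (Spec (CommRingCat.of k))).map (πK U K) ≫ a := prod.lift_fst _ _

theorem aK_snd (a : (yon (Spec (CommRingCat.of k))).obj U ⟶ X) :
    aK K a ≫ prod.snd = (yon (Spec (CommRingCat.of k))).map (qK U K) := prod.lift_snd _ _

theorem isPullback_aK (a : (yon (Spec (CommRingCat.of k))).obj U ⟶ X) :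
    IsPullback (aK K a) ((yon (Spec (CommRingCat.of k))).map (πK U K))
      (prod.fst : X ⨯ (yon (Spec (CommRingCat.of k))).obj (T k K) ⟶ X) a :=
  isPullback_prod_lift (isLimitYonFan U K) a

theorem repWith_aK {P : MorphismProperty Scheme.{u}}
    (a : (yon (Spec (CommRingCat.of k))).obj U ⟶ X) (ha : RepWith P a) : RepWith P (aK K a) :=
  (RepWith (S := Spec (CommRingCat.of k)) P).of_isPullback (isPullback_aK K a).flip ha

/-- lifting points to the base-changed chart -/
theorem exists_point_aK (a : (yon (Spec (CommRingCat.of k))).obj U ⟶ X)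
    (x' : Points (X ⨯ (yon (Spec (CommRingCat.of k))).obj (T k K))) (u : ↥U.left)
    (h : Points.map prod.fst x' = Points.ofPt a u) :
    ∃ u' : ↥(UK U K).left, Points.ofPt (aK K a) u' = x' ∧ (πK U K).left u' = u := by
  have h' : Points.map prod.fst x' = Points.map a (Points.ofScheme U u) := by
    rw [h, Points.ofPt_eq_map_ofScheme]
  obtain ⟨p, hp1, hp2⟩ := points_exists_of_isPullback (isPullback_aK K a) x'
    (Points.ofScheme U u) h'
  refine ⟨Points.toScheme (UK U K) p, ?_, ?_⟩
  · rw [Points.ofPt_eq_map_ofScheme, Points.ofScheme_toScheme, hp1]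
  · rw [← Points.toScheme_ofPt, Points.ofPt_eq_map_ofScheme, Points.ofScheme_toScheme, hp2,
      Points.toScheme_ofScheme]

/-- surjectivity of `U_K ⟶ U` -/
theorem πK_surjective (U : Over (Spec (CommRingCat.of k))) :
    Function.Surjective (πK U K).left := by
  intro u
  have : Surjective (Spec.map (CommRingCat.ofHom (algebraMap k K))) := by
    constructor
    intro x
    exact ⟨IsLocalRing.closedPoint K, Subsingleton.elim _ _⟩
  have h2 : Surjective (FBase.bcπ U.hom K) :=
    MorphismProperty.pullback_fst (P := @Surjective) _ _ this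
  exact h2.surj u

/-- the image in `|X|` of a point of the base-changed chart -/
theorem map_fst_ofPt_aK (a : (yon (Spec (CommRingCat.of k))).obj U ⟶ X) (u' : ↥(UK U K).left) :
    Points.map (prod.fst : X ⨯ (yon (Spec (CommRingCat.of k))).obj (T k K) ⟶ X)
      (Points.ofPt (aK K a) u') = Points.ofPt a ((πK U K).left u') := by
  rw [Points.map_ofPt, aK_fst, ofPt_map_comp]

/-- `|X_K| ⟶ |X|` is surjective when `X` has an atlas -/
theorem map_fst_surjective
    (hX : ∃ (U : Over (Spec (CommRingCat.of k))) (p : (yon (Spec (CommRingCat.of k))).obj U ⟶ X),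
      RepWith @Etale p ∧ RepWith @Surjective p) :
    Function.Surjective (Points.map
      (prod.fst : X ⨯ (yon (Spec (CommRingCat.of k))).obj (T k K) ⟶ X)) := by
  intro x
  obtain ⟨U, a, -, has⟩ := hX
  obtain ⟨u, hu⟩ := ofPt_surjective a has x
  obtain ⟨u', hu'⟩ := πK_surjective K U u
  exact ⟨Points.ofPt (aK K a) u', by rw [map_fst_ofPt_aK, hu', hu]⟩

end Groth.Agent.Lib.Helper36.FieldBC
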