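import Groth.Agent.Lib.Helper36.FieldBC
import Groth.Agent.Lib.Helper23.AlgSpMor2
import Groth.Agent.Lib.Helper37.UnivTop
import Groth.Agent.Lib.Helper51.GeomIrr
import Groth.Agent.Lib.Helper30.AlgSpDiag

/-!
# Connected components and base change with geometrically connected fibres (helper36)
-/

set_option autoImplicit false
universe u

open CategoryTheory CategoryTheory.Limits AlgebraicGeometry Opposite

namespace Groth.Agent.Lib.Helper36.FieldBCConn

open AlgSp Groth.Agent.Lib.Helper36.AlgSpCharts Groth.Agent.Lib.Helper37.AlgSpPoints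
  Groth.Agent.Lib.Helper36.FieldBC

variable {S : Scheme.{u}}

/-- Base change of `h_g` for `g` universally open with geometrically connected fibres: the map on
points is a quotient map with connected fibres. -/
theorem coinducing_and_fibres_of_isPullback {F P : Sp S} {T T' : Over S} (g : T' ⟶ T)
    (π : F ⟶ (yon S).obj T) (pr : P ⟶ F) (pr' : P ⟶ (yon S).obj T')
    (sq : IsPullback pr pr' π ((yon S).map g)) [UniversallyOpen g.left]
    [GeometricallyConnected g.left] :
    Topology.IsCoinducing (Points.map pr) ∧ ∀ x, IsConnected (Points.map pr ⁻¹' {x}) := by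
  have hfib : ∀ x, IsConnected (Points.map pr ⁻¹' {x}) := by
    intro x
    induction x using Points.ind with
    | h p =>
    obtain ⟨s, hs⟩ := (yon S).map_surjective (p.toHom ≫ π)
    obtain ⟨Z, p1, p2, sqZ⟩ := exists_isPullback_yon ((yon S).map s) ((yon S).map g)
      (representable_yon_map g)
    have sqZ' : IsPullback p2.left p1.left g.left s.left := (isPullback_left_of_yon sqZ).flip
    have hZ : ConnectedSpace ↥Z.left :=
      GeometricallyConnected.geometrically_connectedSpace (f := g.left) s.left p2.left p1.left sqZ'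
    have hcomm : ((yon S).map p1 ≫ p.toHom) ≫ π = (yon S).map p2 ≫ (yon S).map g := by
      rw [Category.assoc, ← hs, sqZ.w]
    let j : (yon S).obj Z ⟶ P := sq.lift ((yon S).map p1 ≫ p.toHom) ((yon S).map p2) hcomm
    have hj1 : j ≫ pr = (yon S).map p1 ≫ p.toHom := sq.lift_fst _ _ _
    have hj2 : j ≫ pr' = (yon S).map p2 := sq.lift_snd _ _ _
    have sqj : IsPullback j ((yon S).map p1) pr p.toHom := by
      refine IsPullback.of_right ?_ hj1 sq.flip
      rw [hj2, ← hs]
      exact sqZ.flip
    have hrange : Points.map pr ⁻¹' {Points.mk p} = Set.range (Points.ofPt j) := by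
      ext w
      constructor
      · intro hw
        have hw' : Points.map pr w = Points.map p.toHom
            (Points.ofScheme p.pt (IsLocalRing.closedPoint p.K)) := by
          rw [← Points.ofPt_eq_map_ofScheme, Points.ofPt_toHom]
          exact hw
        obtain ⟨q, hq1, -⟩ := points_exists_of_isPullback sqj w _ hw'
        refine ⟨Points.toScheme Z q, ?_⟩
        rw [Points.ofPt_eq_map_ofScheme, Points.ofScheme_toScheme, hq1]
      · rintro ⟨z, rfl⟩
        show Points.map pr (Points.ofPt j z) = Points.mk p
        rw [Points.map_ofPt, hj1, ofPt_map_comp, Points.ofPt_toHom]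
    rw [hrange]
    exact isConnected_range (Points.continuous_ofPt j)
  refine ⟨?_, hfib⟩
  have hpo : RepWith @UniversallyOpen pr :=
    (RepWith (S := S) @UniversallyOpen).of_isPullback sq.flip
      ((repWith_yon_map_iff @UniversallyOpen g).2 inferInstance)
  have hopen : IsOpenMap (Points.map pr) :=
    Groth.Agent.Lib.Helper23.AlgSpMor.isOpenMap_points_of_repWith_universallyOpen pr hpo
  have hsurj : Function.Surjective (Points.map pr) := fun x => by
    obtain ⟨w, hw⟩ := (hfib x).nonempty
    exact ⟨w, hw⟩
  exact (hopen.isQuotientMap (Points.continuous_map pr) hsurj).isCoinducing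

/-- a quotient map with connected fibres onto a connected space has connected source -/
theorem connectedSpace_of_coinducing_fibres {α β : Type*} [TopologicalSpace α] [TopologicalSpace β]
    [ConnectedSpace β] {f : α → β} (hf : Topology.IsCoinducing f)
    (hfib : ∀ y, IsConnected (f ⁻¹' {y})) : ConnectedSpace α := by
  obtain ⟨y⟩ := (inferInstance : Nonempty β)
  obtain ⟨w, -⟩ := (hfib y).nonempty
  rw [connectedSpace_iff_connectedComponent]
  refine ⟨w, ?_⟩
  rw [← hf.preimage_connectedComponent hfib w, PreconnectedSpace.connectedComponent_eq_univ,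
    Set.preimage_univ]

/-- over a separably closed field, `|X_K| ⟶ |X|` is a quotient map with connected fibres -/
theorem sepClosed_coinducing_fibres (k : Type u) [Field k] [IsSepClosed k]
    (X : Sp (Spec (CommRingCat.of k))) (K : Type u) [Field K] [Algebra k K] :
    Topology.IsCoinducing (Points.map
      (prod.fst : X ⨯ (yon (Spec (CommRingCat.of k))).obj (T k K) ⟶ X)) ∧
      ∀ x, IsConnected (Points.map
        (prod.fst : X ⨯ (yon (Spec (CommRingCat.of k))).obj (T k K) ⟶ X) ⁻¹' {x}) := by
  have hT : IsTerminal ((yon (Spec (CommRingCat.of k))).obj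
      (Over.mk (𝟙 (Spec (CommRingCat.of k))))) :=
    IsTerminal.isTerminalObj (yon (Spec (CommRingCat.of k))) _ Over.mkIdTerminal
  let g : T k K ⟶ Over.mk (𝟙 (Spec (CommRingCat.of k))) :=
    Over.homMk (Spec.map (CommRingCat.ofHom (algebraMap k K))) (Category.comp_id _)
  have sq : IsPullback (prod.fst : X ⨯ (yon (Spec (CommRingCat.of k))).obj (T k K) ⟶ X)
      prod.snd (hT.from _) ((yon (Spec (CommRingCat.of k))).map g) := by
    have := IsPullback.of_is_product' (prodIsProd X ((yon (Spec (CommRingCat.of k))).obj (T k K))) hT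
    rwa [hT.hom_ext (hT.from ((yon (Spec (CommRingCat.of k))).obj (T k K)))
      ((yon (Spec (CommRingCat.of k))).map g)] at this
  have : GeometricallyConnected g.left :=
    Groth.Agent.Lib.Helper51.geometricallyConnected_specMap_of_isSepClosed k K
  have : UniversallyOpen g.left :=
    (inferInstance : UniversallyOpen (Spec.map (CommRingCat.ofHom (algebraMap k K))))
  exact coinducing_and_fibres_of_isPullback g (hT.from _) prod.fst prod.snd sq

section Tower

variable {k : Type u} [Field k] {K K' : Type u} [Field K] [Field K'] [Algebra k K] [Algebra k K']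

/-- the morphism `Spec K' ⟶ Spec K` over `Spec k` attached to a `k`-homomorphism `K → K'` -/
noncomputable def gT (ψ : K →+* K') (hψ : ψ.comp (algebraMap k K) = algebraMap k K') :
    T k K' ⟶ T k K :=
  Over.homMk (Spec.map (CommRingCat.ofHom ψ)) (by
    change Spec.map (CommRingCat.ofHom ψ) ≫ Spec.map (CommRingCat.ofHom (algebraMap k K)) =
      Spec.map (CommRingCat.ofHom (algebraMap k K'))
    rw [← Spec.map_comp, ← CommRingCat.ofHom_comp, hψ])

theorem gT_left (ψ : K →+* K') (hψ : ψ.comp (algebraMap k K) = algebraMap k K') :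
    (gT ψ hψ).left = Spec.map (CommRingCat.ofHom ψ) := rfl

/-- `|X_{K'}| ⟶ |X_K|` is surjective -/
theorem map_tower_surjective (X : Sp (Spec (CommRingCat.of k))) (ψ : K →+* K')
    (hψ : ψ.comp (algebraMap k K) = algebraMap k K') :
    Function.Surjective (Points.map (prod.map (𝟙 X)
      ((yon (Spec (CommRingCat.of k))).map (gT ψ hψ)))) := by
  apply Groth.Agent.Lib.Helper37.UnivTop.surjective_points_of_repWith
  refine (RepWith (S := Spec (CommRingCat.of k)) @Surjective).of_isPullback
    (isPullback_prod_map_snd X ((yon (Spec (CommRingCat.of k))).map (gT ψ hψ))).flip ?_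
  rw [repWith_yon_map_iff]
  constructor
  intro x
  have : Subsingleton ↥(Spec (CommRingCat.of K)) := inferInstance
  exact ⟨IsLocalRing.closedPoint K', Subsingleton.elim (α := ↥(Spec (CommRingCat.of K))) _ _⟩

end Tower

section Prod

variable {k : Type u} [Field k]

/-- geometric connectedness in terms of arbitrary field-valued points of the base -/
theorem connectedSpace_of_geomConn {X : Sp (Spec (CommRingCat.of k))}
    (hX : ∀ (K : Type u) [Field K] [Algebra k K],
      ConnectedSpace (Points (X ⨯ (yon (Spec (CommRingCat.of k))).obj (T k K))))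
    (L : Type u) [Field L] (str : Spec (CommRingCat.of L) ⟶ Spec (CommRingCat.of k)) :
    ConnectedSpace (Points (X ⨯ (yon (Spec (CommRingCat.of k))).obj (Over.mk str))) := by
  obtain ⟨φ, rfl⟩ := Spec.map_surjective str
  letI : Algebra k L := φ.hom.toAlgebra
  exact hX L

/-- the product chart `h_{U × V} ⟶ X ⨯ Y` -/
noncomputable def prodChart {S : Scheme.{u}} {X Y : Sp S} {U V : Over S}
    (a : (yon S).obj U ⟶ X) (b : (yon S).obj V ⟶ Y) : (yon S).obj (U ⨯ V) ⟶ X ⨯ Y :=
  prod.lift ((yon S).map prod.fst ≫ a) ((yon S).map prod.snd ≫ b)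

theorem prodChart_snd {S : Scheme.{u}} {X Y : Sp S} {U V : Over S}
    (a : (yon S).obj U ⟶ X) (b : (yon S).obj V ⟶ Y) :
    prodChart a b ≫ prod.snd = (yon S).map prod.snd ≫ b := prod.lift_snd _ _

/-- the product chart is surjective on points -/
theorem prodChart_points_surjective {S : Scheme.{u}} {X Y : Sp S} {U V : Over S}
    (a : (yon S).obj U ⟶ X) (b : (yon S).obj V ⟶ Y) (ha : RepWith @Surjective a)
    (hb : RepWith @Surjective b) : Function.Surjective (Points.ofPt (prodChart a b)) := by
  let c1 : (yon S).obj (U ⨯ V) ⟶ X ⨯ (yon S).obj V :=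
    prod.lift ((yon S).map prod.fst ≫ a) ((yon S).map prod.snd)
  let c2 : X ⨯ (yon S).obj V ⟶ X ⨯ Y := prod.map (𝟙 X) b
  have hc : prodChart a b = c1 ≫ c2 := by
    apply Limits.prod.hom_ext
    · simp only [prodChart, c1, c2, prod.lift_fst, Category.assoc, prod.map_fst, Category.comp_id]
    · simp only [prodChart, c1, c2, prod.lift_snd, Category.assoc, prod.map_snd]
      rw [← Category.assoc, prod.lift_snd]
  have h1 : RepWith @Surjective c1 :=
    (RepWith (S := S) @Surjective).of_isPullback
      (isPullback_prod_lift (Groth.Agent.Lib.Helper30.AlgSpDiag.isLimitYonProd U V) a).flip ha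
  have h2 : RepWith @Surjective c2 :=
    (RepWith (S := S) @Surjective).of_isPullback (isPullback_prod_map_snd X b).flip hb
  intro w
  obtain ⟨w2, rfl⟩ := Groth.Agent.Lib.Helper37.UnivTop.surjective_points_of_repWith c2 h2 w
  obtain ⟨w1, rfl⟩ := Groth.Agent.Lib.Helper37.UnivTop.surjective_points_of_repWith c1 h1 w2
  refine ⟨Points.toScheme (U ⨯ V) w1, ?_⟩
  rw [Points.ofPt_eq_map_ofScheme, Points.ofScheme_toScheme, hc, Points.map_comp]

/-- product with a geometrically connected sheaf: the projection is a quotient map on points with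
connected fibres -/
theorem prod_snd_coinducing_fibres {X Y : Sp (Spec (CommRingCat.of k))}
    (hXat : ∃ (U : Over (Spec (CommRingCat.of k))) (p : (yon (Spec (CommRingCat.of k))).obj U ⟶ X),
      RepWith @Etale p ∧ RepWith @Surjective p)
    (hYat : ∃ (U : Over (Spec (CommRingCat.of k))) (p : (yon (Spec (CommRingCat.of k))).obj U ⟶ Y),
      RepWith @Etale p ∧ RepWith @Surjective p)
    (hX : ∀ (K : Type u) [Field K] [Algebra k K],
      ConnectedSpace (Points (X ⨯ (yon (Spec (CommRingCat.of k))).obj (T k K)))) :
    Topology.IsCoinducing (Points.map (prod.snd : X ⨯ Y ⟶ Y)) ∧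
      ∀ y, IsConnected (Points.map (prod.snd : X ⨯ Y ⟶ Y) ⁻¹' {y}) := by
  have hfib : ∀ y, IsConnected (Points.map (prod.snd : X ⨯ Y ⟶ Y) ⁻¹' {y}) := by
    intro y
    induction y using Points.ind with
    | h p =>
    have hconn : ConnectedSpace (Points (X ⨯ (yon (Spec (CommRingCat.of k))).obj p.pt)) :=
      connectedSpace_of_geomConn hX p.K p.str
    let j : X ⨯ (yon (Spec (CommRingCat.of k))).obj p.pt ⟶ X ⨯ Y := prod.map (𝟙 X) p.toHom
    have sqj : IsPullback j prod.snd (prod.snd : X ⨯ Y ⟶ Y) p.toHom :=
      isPullback_prod_map_snd X p.toHom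
    have hrange : Points.map (prod.snd : X ⨯ Y ⟶ Y) ⁻¹' {Points.mk p} =
        Set.range (Points.map j) := by
      ext w
      constructor
      · intro hw
        have hw' : Points.map (prod.snd : X ⨯ Y ⟶ Y) w = Points.map p.toHom
            (Points.ofScheme p.pt (IsLocalRing.closedPoint p.K)) := by
          rw [← Points.ofPt_eq_map_ofScheme, Points.ofPt_toHom]
          exact hw
        obtain ⟨q, hq1, -⟩ := points_exists_of_isPullback sqj w _ hw'
        exact ⟨q, hq1⟩
      · rintro ⟨z, rfl⟩
        show Points.map prod.snd (Points.map j z) = Points.mk p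
        rw [← Points.map_comp, sqj.w, Points.map_comp]
        rw [← Points.ofScheme_toScheme p.pt (Points.map prod.snd z),
          ← Points.ofPt_eq_map_ofScheme, Points.ofPt_toHom]
    rw [hrange]
    exact isConnected_range (Points.continuous_map j)
  refine ⟨?_, hfib⟩
  obtain ⟨U, a, hae, has⟩ := hXat
  obtain ⟨V, b, hbe, hbs⟩ := hYat
  have hcs := prodChart_points_surjective a b has hbs
  have hopen : IsOpenMap (Points.map (prod.snd : X ⨯ Y ⟶ Y)) := by
    intro O hO
    have hset : Points.map (prod.snd : X ⨯ Y ⟶ Y) '' O =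
        Points.ofPt b '' ((prod.snd : U ⨯ V ⟶ V).left '' (Points.ofPt (prodChart a b) ⁻¹' O)) := by
      ext y
      constructor
      · rintro ⟨w, hw, rfl⟩
        obtain ⟨z, rfl⟩ := hcs w
        refine ⟨_, ⟨z, hw, rfl⟩, ?_⟩
        rw [Points.map_ofPt, prodChart_snd, ofPt_map_comp]
      · rintro ⟨_, ⟨z, hz, rfl⟩, rfl⟩
        refine ⟨Points.ofPt (prodChart a b) z, hz, ?_⟩
        rw [Points.map_ofPt, prodChart_snd, ofPt_map_comp]
    rw [hset]
    apply isOpenMap_ofPt b hbe
    have huo : UniversallyOpen (prod.snd : U ⨯ V ⟶ V).left := by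
      rw [← Over.prodLeftIsoPullback_hom_snd]
      have : UniversallyOpen U.hom := inferInstance
      infer_instance
    exact (prod.snd : U ⨯ V ⟶ V).left.isOpenMap _
      ((Points.continuous_ofPt (prodChart a b)).isOpen_preimage O hO)
  have hsurj : Function.Surjective (Points.map (prod.snd : X ⨯ Y ⟶ Y)) := fun y => by
    obtain ⟨w, hw⟩ := (hfib y).nonempty
    exact ⟨w, hw⟩
  exact (hopen.isQuotientMap (Points.continuous_map _) hsurj).isCoinducing

end Prod

end Groth.Agent.Lib.Helper36.FieldBCConn
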