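import Groth.Agent.Lib.Helper36.FieldBCConn
import Groth.Agent.Lib.Helper78.GalTrans

/-!
# The Galois action on the base change of a sheaf over a field (helper36)
-/

set_option autoImplicit false
universe u

open CategoryTheory CategoryTheory.Limits AlgebraicGeometry Opposite

namespace Groth.Agent.Lib.Helper36.FieldBCGal

open AlgSp Groth.Agent.Lib.Helper36.AlgSpCharts Groth.Agent.Lib.Helper37.AlgSpPoints
  Groth.Agent.Lib.Helper36.FieldBC Groth.Agent.Lib.Helper36.FieldBCConn
  Groth.Agent.Lib.Helper78.GalTrans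

variable {k : Type u} [Field k] (K : Type u) [Field K] [Algebra k K]

/-- the action of `σ` on the chart `U_K`, as a morphism over `Spec k` -/
noncomputable def galOver (U : Over (Spec (CommRingCat.of k))) (σ : K ≃ₐ[k] K) : UK U K ⟶ UK U K :=
  Over.homMk (gal U.hom K σ) (by
    change gal U.hom K σ ≫ pullback.fst _ _ ≫ U.hom = pullback.fst _ _ ≫ U.hom
    rw [← Category.assoc, gal_fst])

theorem galOver_left (U : Over (Spec (CommRingCat.of k))) (σ : K ≃ₐ[k] K) :
    (galOver K U σ).left = gal U.hom K σ := rfl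

theorem galOver_πK (U : Over (Spec (CommRingCat.of k))) (σ : K ≃ₐ[k] K) :
    galOver K U σ ≫ πK U K = πK U K := by
  apply Over.OverMorphism.ext
  exact gal_fst U.hom K σ

theorem galOver_qK (U : Over (Spec (CommRingCat.of k))) (σ : K ≃ₐ[k] K) (g : T k K ⟶ T k K)
    (hg : g.left = Spec.map (CommRingCat.ofHom (σ : K ≃ₐ[k] K).toRingHom)) :
    galOver K U σ ≫ qK U K = qK U K ≫ g := by
  apply Over.OverMorphism.ext
  rw [Over.comp_left, Over.comp_left, hg]
  exact gal_snd U.hom K σ

variable {U : Over (Spec (CommRingCat.of k))} {X : Sp (Spec (CommRingCat.of k))}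

/-- the chart `a_K` is equivariant -/
theorem galOver_aK (a : (yon (Spec (CommRingCat.of k))).obj U ⟶ X) (σ : K ≃ₐ[k] K)
    (g : T k K ⟶ T k K)
    (hg : g.left = Spec.map (CommRingCat.ofHom (σ : K ≃ₐ[k] K).toRingHom)) :
    (yon (Spec (CommRingCat.of k))).map (galOver K U σ) ≫ aK K a =
      aK K a ≫ prod.map (𝟙 X) ((yon (Spec (CommRingCat.of k))).map g) := by
  apply Limits.prod.hom_ext
  · rw [Category.assoc, aK_fst, Category.assoc, prod.map_fst, Category.comp_id, aK_fst,
      ← Category.assoc, ← Functor.map_comp, galOver_πK]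
  · rw [Category.assoc, aK_snd, Category.assoc, prod.map_snd, ← Category.assoc, aK_snd,
      ← Functor.map_comp, ← Functor.map_comp, galOver_qK K U σ g hg]

/-- two points of `|X_K|` with the same image in `|X|` are conjugate under the Galois group -/
theorem exists_gal_map_eq [IsGalois k K]
    (hX : ∃ (U : Over (Spec (CommRingCat.of k))) (p : (yon (Spec (CommRingCat.of k))).obj U ⟶ X),
      RepWith @Etale p ∧ RepWith @Surjective p)
    (gσ : ∀ σ : K ≃ₐ[k] K, T k K ⟶ T k K)
    (hgσ : ∀ σ : K ≃ₐ[k] K, (gσ σ).left = Spec.map (CommRingCat.ofHom (σ : K ≃ₐ[k] K).toRingHom))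
    (w w' : Points (X ⨯ (yon (Spec (CommRingCat.of k))).obj (T k K)))
    (h : Points.map (prod.fst : X ⨯ (yon (Spec (CommRingCat.of k))).obj (T k K) ⟶ X) w =
      Points.map (prod.fst : X ⨯ (yon (Spec (CommRingCat.of k))).obj (T k K) ⟶ X) w') :
    ∃ σ : K ≃ₐ[k] K, Points.map (prod.map (𝟙 X)
      ((yon (Spec (CommRingCat.of k))).map (gσ σ))) w = w' := by
  obtain ⟨U, a, hae, has⟩ := hX
  obtain ⟨u₁, hu₁⟩ := ofPt_surjective (aK K a) (repWith_aK K a has) w
  have h' : Points.map (prod.fst : X ⨯ (yon (Spec (CommRingCat.of k))).obj (T k K) ⟶ X) w' =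
      Points.ofPt a ((πK U K).left u₁) := by
    rw [← h, ← hu₁, map_fst_ofPt_aK]
  obtain ⟨u₂, hu₂, hπ⟩ := exists_point_aK K a w' ((πK U K).left u₁) h'
  obtain ⟨σ, hσ⟩ := exists_gal_eq U.hom K u₁ u₂ hπ.symm
  refine ⟨σ, ?_⟩
  rw [← hu₁, ← hu₂, Points.map_ofPt, ← galOver_aK K a σ (gσ σ) (hgσ σ), ofPt_map_comp]
  exact congrArg (Points.ofPt (aK K a)) hσ

/-- `|X_K| ⟶ |X|` is open -/
theorem isOpenMap_map_fst :
    IsOpenMap (Points.map (prod.fst : X ⨯ (yon (Spec (CommRingCat.of k))).obj (T k K) ⟶ X)) := by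
  have hT : IsTerminal ((yon (Spec (CommRingCat.of k))).obj
      (Over.mk (𝟙 (Spec (CommRingCat.of k))))) :=
    IsTerminal.isTerminalObj (yon (Spec (CommRingCat.of k))) _ Over.mkIdTerminal
  let g : T k K ⟶ Over.mk (𝟙 (Spec (CommRingCat.of k))) :=
    Over.homMk (Spec.map (CommRingCat.ofHom (algebraMap k K))) (Category.comp_id _)
  have sq : IsPullback (prod.fst : X ⨯ (yon (Spec (CommRingCat.of k))).obj (T k K) ⟶ X)
      prod.snd (hT.from _) ((yon (Spec (CommRingCat.of k))).map g) := by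
    have := IsPullback.of_is_product' (prodIsProd X ((yon (Spec (CommRingCat.of k))).obj (T k K))) hT
    rwa [hT.hom_ext (hT.from ((yon (Spec (CommRingCat.of k))).obj (T k K)))
      ((yon (Spec (CommRingCat.of k))).map g)] at this
  have : UniversallyOpen g.left :=
    (inferInstance : UniversallyOpen (Spec.map (CommRingCat.ofHom (algebraMap k K))))
  have hpo : RepWith @UniversallyOpen
      (prod.fst : X ⨯ (yon (Spec (CommRingCat.of k))).obj (T k K) ⟶ X) :=
    (RepWith (S := Spec (CommRingCat.of k)) @UniversallyOpen).of_isPullback sq.flip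
      ((repWith_yon_map_iff @UniversallyOpen g).2 inferInstance)
  exact Groth.Agent.Lib.Helper23.AlgSpMor.isOpenMap_points_of_repWith_universallyOpen _ hpo

end Groth.Agent.Lib.Helper36.FieldBCGal
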