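import Groth.Agent.Lib.Helper36.FieldBC

/-!
# Geometric reducedness and base change of sheaves over a field (helper36)
-/

set_option autoImplicit false
universe u

open CategoryTheory CategoryTheory.Limits AlgebraicGeometry Opposite

namespace Groth.Agent.Lib.Helper36.FieldBCRed

open AlgSp Groth.Agent.Lib.Helper36.AlgSpCharts Groth.Agent.Lib.Helper37.AlgSpPoints
  Groth.Agent.Lib.Helper36.GeomRedGerm Groth.Agent.Lib.Helper36.FieldBC

variable {k : Type u} [Field k]

/-- geometric reducedness of `U` at `u` vs. of `U_K` (over `K`) at a point over `u` -/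
theorem isGeomReducedAt_bc_iff (U : Over (Spec (CommRingCat.of k))) (K : Type u) [Field K]
    [Algebra k K] (u' : ↥(UK U K).left) :
    FBase.IsGeomReducedAt U.hom ((πK U K).left u') ↔ FBase.IsGeomReducedAt (qK U K).left u' :=
  @Groth.Agent.S1545.result k _ U.left ⟨U.hom⟩ K _ _ ((πK U K).left u') u' rfl

/-- transfer of geometric reducedness over `K` between two étale charts of a sheaf over `h_{Spec K}` -/
theorem isGeomReducedAt_iff_of_charts {K : Type u} [Field K] [Algebra k K]
    {F : Sp (Spec (CommRingCat.of k))}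
    (π : F ⟶ (yon (Spec (CommRingCat.of k))).obj (T k K))
    {U₁ U₂ : Over (Spec (CommRingCat.of k))}
    (a₁ : (yon (Spec (CommRingCat.of k))).obj U₁ ⟶ F)
    (a₂ : (yon (Spec (CommRingCat.of k))).obj U₂ ⟶ F)
    (h₁ : RepWith @Etale a₁) (h₂ : RepWith @Etale a₂) (q₁ : U₁ ⟶ T k K) (q₂ : U₂ ⟶ T k K)
    (e₁ : a₁ ≫ π = (yon (Spec (CommRingCat.of k))).map q₁)
    (e₂ : a₂ ≫ π = (yon (Spec (CommRingCat.of k))).map q₂) (u₁ : ↥U₁.left) (u₂ : ↥U₂.left)
    (h : Points.ofPt a₁ u₁ = Points.ofPt a₂ u₂) :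
    FBase.IsGeomReducedAt q₁.left u₁ ↔ FBase.IsGeomReducedAt q₂.left u₂ := by
  obtain ⟨W, p1, p2, sq⟩ := exists_isPullback_yon a₁ a₂ h₂.rep
  have hp1 : Etale p1.left := prop_fst_of_isPullback sq h₂
  have hp2 : Etale p2.left := prop_snd_of_isPullback sq h₁
  obtain ⟨r, rfl, rfl⟩ := (ofPt_eq_ofPt_iff sq u₁ u₂).1 h
  have hq : p1 ≫ q₁ = p2 ≫ q₂ := by
    apply (yon (Spec (CommRingCat.of k))).map_injective
    rw [Functor.map_comp, Functor.map_comp, ← e₁, ← e₂, ← Category.assoc, ← Category.assoc, sq.w]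
  have hq' : p1.left ≫ q₁.left = p2.left ≫ q₂.left := by
    rw [← Over.comp_left, ← Over.comp_left, hq]
  exact (isGeomReducedAt_iff_of_etale (p1.left ≫ q₁.left) q₁.left p1.left rfl r).symm.trans
    (isGeomReducedAt_iff_of_etale (p1.left ≫ q₁.left) q₂.left p2.left hq'.symm r)

/-- in an étale-locally reduced sheaf every étale chart has reduced stalks -/
theorem isReduced_stalk_of_etaleLocally {S : Scheme.{u}} {F : Sp S}
    (hF : EtaleLocally (fun U => IsReduced U) F) {U : Over S} (a : (yon S).obj U ⟶ F)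
    (ha : RepWith @Etale a) (u : ↥U.left) : _root_.IsReduced ↥(U.left.presheaf.stalk u) := by
  obtain ⟨V, b, hbe, hbs, hV⟩ := hF
  obtain ⟨v, hv⟩ := ofPt_surjective b hbs (Points.ofPt a u)
  have : IsReduced V.left := hV
  exact (Groth.Agent.Lib.Helper36.AlgSpHasAt.germ_iff_of_ofPt_eq
    Groth.Agent.Lib.Helper36.AlgSpHasAt.isEtaleLocalGerm_isReduced_stalk b a hbe ha v u hv).1
    inferInstance

/-- if `X` is geometrically reduced at all points of an étale surjective chart `U`, then `X_K` is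
reduced -/
theorem etaleLocally_reduced_bc {X : Sp (Spec (CommRingCat.of k))}
    {U : Over (Spec (CommRingCat.of k))} (a : (yon (Spec (CommRingCat.of k))).obj U ⟶ X)
    (hae : RepWith @Etale a) (has : RepWith @Surjective a)
    (h : ∀ u : ↥U.left, FBase.IsGeomReducedAt U.hom u) (K : Type u) [Field K] [Algebra k K] :
    EtaleLocally (fun U => IsReduced U) (X ⨯ (yon (Spec (CommRingCat.of k))).obj (T k K)) := by
  refine ⟨UK U K, aK K a, repWith_aK K a hae, repWith_aK K a has, ?_⟩
  have : ∀ u' : ↥(UK U K).left, _root_.IsReduced ↥((UK U K).left.presheaf.stalk u') :=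
    fun u' => h ((πK U K).left u') K u' rfl
  exact isReduced_of_isReduced_stalk (UK U K).left

/-- if `X_K` is reduced, then every étale chart `U` of `X` has `U_K` with reduced stalks -/
theorem isReduced_stalk_bc_of_etaleLocally {X : Sp (Spec (CommRingCat.of k))}
    {U : Over (Spec (CommRingCat.of k))} (a : (yon (Spec (CommRingCat.of k))).obj U ⟶ X)
    (hae : RepWith @Etale a) (K : Type u) [Field K] [Algebra k K]
    (h : EtaleLocally (fun U => IsReduced U) (X ⨯ (yon (Spec (CommRingCat.of k))).obj (T k K)))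
    (u' : ↥(FBase.bc U.hom K)) : _root_.IsReduced ↥((FBase.bc U.hom K).presheaf.stalk u') :=
  isReduced_stalk_of_etaleLocally h (aK K a) (repWith_aK K a hae) u'

end Groth.Agent.Lib.Helper36.FieldBCRed
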