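import Mathlib.Topology.Sober
import Mathlib.Topology.NoetherianSpace
import Mathlib.AlgebraicGeometry.Noetherian
import Mathlib.AlgebraicGeometry.Fiber
import Mathlib.AlgebraicGeometry.Morphisms.Flat
import Mathlib.AlgebraicGeometry.Morphisms.UniversallyOpen
import Mathlib.AlgebraicGeometry.Morphisms.FiniteType
import Groth.Agent.Lib.Helper36.FibreDimZero

/-!
# Schemes whose quasi-compact opens have finitely many irreducible components (helper36)
-/

universe u

open CategoryTheory CategoryTheory.Limits AlgebraicGeometry TopologicalSpace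

namespace Groth.Agent.Lib.Helper36.FinIrr

section Top

variable {X : Type*} [TopologicalSpace X]

/-- If finitely many continuous maps from spaces with finitely many irreducible components have
jointly dense image (pointwise), then the target has finitely many irreducible components. -/
theorem finite_irreducibleComponents_of_cover {ι : Type*} [Finite ι] {Y : ι → Type*}
    [∀ i, TopologicalSpace (Y i)] (f : ∀ i, Y i → X) (hf : ∀ i, Continuous (f i))
    (hY : ∀ i, (irreducibleComponents (Y i)).Finite)
    (hcov : ∀ x, ∃ i, x ∈ closure (Set.range (f i))) : (irreducibleComponents X).Finite := by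
  classical
  let 𝒦 : Set (Set X) := ⋃ i, (fun Z => closure (f i '' Z)) '' irreducibleComponents (Y i)
  have h𝒦fin : 𝒦.Finite := Set.finite_iUnion fun i => (hY i).image _
  have h𝒦irr : ∀ K ∈ 𝒦, IsIrreducible K := by
    intro K hK
    obtain ⟨i, Z, hZ, rfl⟩ := Set.mem_iUnion.1 hK
    exact (hZ.1.image (f i) (hf i).continuousOn).closure
  have h𝒦cl : ∀ K ∈ 𝒦, IsClosed K := by
    intro K hK
    obtain ⟨i, Z, hZ, rfl⟩ := Set.mem_iUnion.1 hK
    exact isClosed_closure
  refine h𝒦fin.subset ?_
  intro C hC
  have hsub : C ⊆ ⋃₀ (h𝒦fin.toFinset : Set (Set X)) := by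
    intro x _
    obtain ⟨i, hx⟩ := hcov x
    have hr : Set.range (f i) = ⋃ Z ∈ irreducibleComponents (Y i), f i '' Z := by
      rw [← Set.image_univ, ← sUnion_irreducibleComponents, Set.image_sUnion, Set.sUnion_image]
    rw [hr, (hY i).closure_biUnion] at hx
    obtain ⟨Z, hZ, hxZ⟩ := Set.mem_iUnion₂.1 hx
    refine ⟨closure (f i '' Z), ?_, hxZ⟩
    rw [Set.Finite.coe_toFinset]
    exact Set.mem_iUnion.2 ⟨i, Z, hZ, rfl⟩
  obtain ⟨K, hK, hCK⟩ := isIrreducible_iff_sUnion_isClosed.1 hC.1 h𝒦fin.toFinset
    (fun K hK => h𝒦cl K (h𝒦fin.mem_toFinset.1 hK)) hsub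
  have hK' : K ∈ 𝒦 := h𝒦fin.mem_toFinset.1 hK
  have hKC : K ≤ C := hC.2 (h𝒦irr K hK') hCK
  rw [Set.Subset.antisymm hCK hKC]
  exact hK'

/-- A point without proper generization. -/
def IsMaxPt (x : X) : Prop := ∀ y : X, y ⤳ x → y = x

/-- In a quasi-sober T0 space every point has a generization which is a maximal point. -/
theorem exists_isMaxPt_specializes [QuasiSober X] [T0Space X] (x : X) :
    ∃ ξ : X, ξ ⤳ x ∧ IsMaxPt ξ := by
  have hirr : IsIrreducible (irreducibleComponent x) := isIrreducible_irreducibleComponent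
  have hg := hirr.isGenericPoint_genericPoint_closure
  rw [isClosed_irreducibleComponent.closure_eq] at hg
  refine ⟨hirr.genericPoint, ?_, ?_⟩
  · rw [specializes_iff_mem_closure, hg.def]; exact mem_irreducibleComponent
  · intro y hy
    have h1 : irreducibleComponent x ⊆ closure {y} := by
      rw [← hg.def]
      exact closure_minimal (Set.singleton_subset_iff.2 (specializes_iff_mem_closure.1 hy))
        isClosed_closure
    have h2 : closure {y} ⊆ irreducibleComponent x :=
      (irreducibleComponent_mem_irreducibleComponents x).2 isIrreducible_singleton.closure h1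
    have h3 : hirr.genericPoint ⤳ y := by
      rw [specializes_iff_mem_closure, hg.def]
      exact h2 (subset_closure rfl)
    exact (hy.antisymm h3).eq

/-- With finitely many irreducible components, there are finitely many maximal points. -/
theorem finite_isMaxPt [QuasiSober X] [T0Space X] (h : (irreducibleComponents X).Finite) :
    {x : X | IsMaxPt x}.Finite := by
  have hinj : Set.InjOn (fun x : X => irreducibleComponent x) {x : X | IsMaxPt x} := by
    intro x hx y hy hxy
    have hirr : IsIrreducible (irreducibleComponent x) := isIrreducible_irreducibleComponent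
    have hg := hirr.isGenericPoint_genericPoint_closure
    rw [isClosed_irreducibleComponent.closure_eq] at hg
    have h1 : hirr.genericPoint ⤳ x := by
      rw [specializes_iff_mem_closure, hg.def]; exact mem_irreducibleComponent
    have h2 : hirr.genericPoint ⤳ y := by
      rw [specializes_iff_mem_closure, hg.def]
      have : irreducibleComponent x = irreducibleComponent y := hxy
      rw [this]; exact mem_irreducibleComponent
    rw [← hx _ h1, ← hy _ h2]
  refine Set.Finite.of_finite_image (h.subset ?_) hinj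
  rintro _ ⟨x, -, rfl⟩
  exact irreducibleComponent_mem_irreducibleComponents x

/-- Generic points of irreducible components are maximal points. -/
theorem isMaxPt_of_mem_genericPoints [T0Space X] {x : X} (hx : x ∈ genericPoints X) :
    IsMaxPt x := by
  intro y hy
  have h1 : closure {x} ⊆ closure {y} :=
    closure_minimal (Set.singleton_subset_iff.2 (specializes_iff_mem_closure.1 hy)) isClosed_closure
  have h2 : closure {y} ⊆ closure {x} := hx.2 isIrreducible_singleton.closure h1
  have h3 : x ⤳ y := by
    rw [specializes_iff_mem_closure]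
    exact h2 (subset_closure rfl)
  exact (hy.antisymm h3).eq

/-- In a sober space with finitely many maximal points there are finitely many irreducible
components. -/
theorem finite_irreducibleComponents_of_finite_isMaxPt [QuasiSober X] [T0Space X]
    (h : {x : X | IsMaxPt x}.Finite) : (irreducibleComponents X).Finite := by
  have h1 : (genericPoints X).Finite := h.subset fun x hx => isMaxPt_of_mem_genericPoints hx
  have := h1.to_subtype
  have e := (genericPoints.equiv (α := X))
  exact Set.finite_coe_iff.1 (Finite.of_equiv _ e)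

end Top

section Scheme

open Groth.Agent.Lib.Helper36.FibreDimZero

/-- The quasi-compact opens of the scheme have finitely many irreducible components. -/
def LocFinIrr (U : Scheme.{u}) : Prop :=
  ∀ W : U.Opens, IsCompact (W : Set ↥U) → (irreducibleComponents ↥W).Finite

/-- A quasi-compact flat morphism locally of finite type to a scheme with finitely many
irreducible components has a source with finitely many irreducible components. -/
theorem finite_irreducibleComponents_of_flat {A B : Scheme.{u}} (g : A ⟶ B) [Flat g]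
    [LocallyOfFiniteType g] [QuasiCompact g] (hB : (irreducibleComponents ↥B).Finite) :
    (irreducibleComponents ↥A).Finite := by
  have hG := finite_isMaxPt hB
  have := hG.to_subtype
  refine finite_irreducibleComponents_of_cover (ι := ↥{η : ↥B | IsMaxPt η})
    (Y := fun η => ↥(g ⁻¹' {η.1})) (fun η => Subtype.val) (fun η => continuous_subtype_val) ?_ ?_
  · intro η
    have h0 : IsNoetherian (g.fiber η.1) := {}
    have h1 : NoetherianSpace ↥(g.fiber η.1) := inferInstance
    have : NoetherianSpace ↥(g ⁻¹' {η.1}) :=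
      (noetherianSpace_iff_of_homeomorph (g.fiberHomeo η.1)).1 h1
    exact NoetherianSpace.finite_irreducibleComponents
  · intro x
    obtain ⟨ξ, hξx, hξ⟩ := exists_isMaxPt_specializes x
    have hgξ : IsMaxPt (g ξ) := by
      intro η' hη'
      obtain ⟨ξ', hξ', e⟩ := (Flat.generalizingMap (f := g)) hη'
      rw [← e, hξ ξ' hξ']
    refine ⟨⟨g ξ, hgξ⟩, ?_⟩
    have : ξ ∈ Set.range (Subtype.val : ↥(g ⁻¹' {g ξ}) → ↥A) := ⟨⟨ξ, rfl⟩, rfl⟩
    exact closure_mono (Set.singleton_subset_iff.2 this) (specializes_iff_mem_closure.1 hξx)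

/-- `LocFinIrr` passes to the source of a flat morphism locally of finite type. -/
theorem locFinIrr_of_flat {U' V : Scheme.{u}} (h : U' ⟶ V) [Flat h] [LocallyOfFiniteType h]
    (hV : LocFinIrr V) : LocFinIrr U' := by
  intro W' hW'
  have hchoice : ∀ x : ↥W', ∃ (A : U'.Opens) (B : V.Opens) (_ : A ≤ h ⁻¹ᵁ B),
      IsAffineOpen A ∧ IsAffineOpen B ∧ A ≤ W' ∧ x.1 ∈ A := by
    intro x
    obtain ⟨_, ⟨B, hB, rfl⟩, hxB, -⟩ :=
      V.isBasis_affineOpens.exists_subset_of_mem_open (Set.mem_univ (h x.1)) isOpen_univ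
    obtain ⟨_, ⟨A, hA, rfl⟩, hxA, hAsub⟩ :=
      U'.isBasis_affineOpens.exists_subset_of_mem_open
        (show x.1 ∈ ((W' ⊓ h ⁻¹ᵁ B : U'.Opens) : Set ↥U') from ⟨x.2, hxB⟩) (W' ⊓ h ⁻¹ᵁ B).2
    exact ⟨A, B, fun y hy => (hAsub hy).2, hA, hB, fun y hy => (hAsub hy).1, hxA⟩
  choose A B e hA hB hAW hxA using hchoice
  obtain ⟨t, ht⟩ := hW'.elim_finite_subcover (fun x : ↥W' => (A x : Set ↥U'))
    (fun x => (A x).2) (fun x hx => Set.mem_iUnion.2 ⟨⟨x, hx⟩, hxA ⟨x, hx⟩⟩)
  have hfinA : ∀ x : ↥W', (irreducibleComponents ↥(A x)).Finite := by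
    intro x
    have : IsAffine (A x).toScheme := hA x
    have : IsAffine (B x).toScheme := hB x
    have hBfin := hV (B x) (hB x).isCompact
    have : LocallyOfFiniteType (h.resLE (B x) (A x) (e x)) := by
      delta Scheme.Hom.resLE; infer_instance
    exact finite_irreducibleComponents_of_flat (h.resLE (B x) (A x) (e x)) hBfin
  have := t.finite_toSet.to_subtype
  refine finite_irreducibleComponents_of_cover (ι := ↥(t : Set ↥W')) (Y := fun x => ↥(A x.1))
    (fun x z => ⟨z.1, hAW x.1 z.2⟩) (fun x => (continuous_subtype_val).subtype_mk _)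
    (fun x => hfinA x.1) ?_
  intro w
  obtain ⟨x, hx, hwx⟩ := Set.mem_iUnion₂.1 (ht w.2)
  exact ⟨⟨x, hx⟩, subset_closure ⟨⟨w.1, hwx⟩, rfl⟩⟩

/-- `LocFinIrr` descends along surjective open morphisms. -/
theorem locFinIrr_of_surjective {U' U : Scheme.{u}} (π : U' ⟶ U) [Surjective π]
    (hop : IsOpenMap π) (hU' : LocFinIrr U') : LocFinIrr U := by
  intro W hW
  have hchoice : ∀ w : ↥W, ∃ A : U'.Opens, IsAffineOpen A ∧ (A : Set ↥U') ⊆ π ⁻¹' (W : Set ↥U) ∧
      w.1 ∈ π '' (A : Set ↥U') := by
    intro w
    obtain ⟨p, hp⟩ := π.surjective w.1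
    have hpW : p ∈ π ⁻¹' (W : Set ↥U) := by
      change π p ∈ W
      rw [hp]; exact w.2
    obtain ⟨_, ⟨A, hA, rfl⟩, hpA, hAW⟩ := U'.isBasis_affineOpens.exists_subset_of_mem_open hpW
      (W.2.preimage π.continuous)
    exact ⟨A, hA, hAW, p, hpA, hp⟩
  choose A hA hAW hwA using hchoice
  obtain ⟨t, ht⟩ := hW.elim_finite_subcover (fun w : ↥W => π '' (A w : Set ↥U'))
    (fun w => hop _ (A w).2) (fun w hw => Set.mem_iUnion.2 ⟨⟨w, hw⟩, hwA ⟨w, hw⟩⟩)
  have := t.finite_toSet.to_subtype
  refine finite_irreducibleComponents_of_cover (ι := ↥(t : Set ↥W)) (Y := fun x => ↥(A x.1))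
    (fun x z => ⟨π z.1, hAW x.1 z.2⟩)
    (fun x => (π.continuous.comp continuous_subtype_val).subtype_mk _)
    (fun x => hU' (A x.1) (hA x.1).isCompact) ?_
  intro w
  obtain ⟨x, hx, p, hp, hpw⟩ := Set.mem_iUnion₂.1 (ht w.2)
  exact ⟨⟨x, hx⟩, subset_closure ⟨⟨p, hp⟩, Subtype.ext hpw⟩⟩

end Scheme

end Groth.Agent.Lib.Helper36.FinIrr
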