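import Mathlib

/-!
# A module vanishing after a jointly surjective flat family of base changes is zero (helper36)
-/

set_option autoImplicit false
universe u
open TensorProduct

namespace Groth.Agent.Lib.Helper36.FlatFamD1

theorem subsingleton_of_forall_subsingleton_tensor {A : Type u} [CommRing A] {T : Type u}
    (B : T → Type u) [∀ t, CommRing (B t)] [∀ t, Algebra A (B t)] [∀ t, Module.Flat A (B t)]
    (hsurj : ∀ p : PrimeSpectrum A, ∃ (t : T) (q : PrimeSpectrum (B t)),
      PrimeSpectrum.comap (algebraMap A (B t)) q = p)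
    (M : Type u) [AddCommGroup M] [Module A M] (h : ∀ t, Subsingleton (B t ⊗[A] M)) :
    Subsingleton M := by
  by_contra hM
  rw [not_subsingleton_iff_nontrivial] at hM
  obtain ⟨x, hx⟩ := exists_ne (0 : M)
  let φ : A →ₗ[A] M := LinearMap.toSpanSingleton A M x
  let I : Ideal A := LinearMap.ker φ
  have hI : I ≠ ⊤ := by
    intro hI
    have h1 : (1 : A) ∈ I := hI ▸ Submodule.mem_top
    have h2 : φ 1 = 0 := h1
    simp [φ] at h2
    exact hx h2
  obtain ⟨m, hm, hIm⟩ := Ideal.exists_le_maximal I hI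
  obtain ⟨t, q, hq⟩ := hsurj ⟨m, hm.isPrime⟩
  -- the injection `A ⧸ I → M`
  let ψ : (A ⧸ I) →ₗ[A] M := I.liftQ φ le_rfl
  have hψ : Function.Injective ψ := by
    rw [← LinearMap.ker_eq_bot]
    exact Submodule.ker_liftQ_eq_bot _ _ _ le_rfl
  have hinj : Function.Injective (LinearMap.lTensor (B t) ψ) :=
    Module.Flat.lTensor_preserves_injective_linearMap ψ hψ
  have hsub : Subsingleton (B t ⊗[A] (A ⧸ I)) := hinj.subsingleton
  have hsub' : Subsingleton (B t ⧸ (I • ⊤ : Submodule A (B t))) :=
    (TensorProduct.tensorQuotEquivQuotSMul (B t) I).symm.injective.subsingleton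
  have htop : (I • ⊤ : Submodule A (B t)) = ⊤ := Submodule.Quotient.subsingleton_iff.mp hsub'
  have hle : (I • ⊤ : Submodule A (B t)) ≤ q.asIdeal.restrictScalars A := by
    rw [Submodule.smul_le]
    intro a ha b _
    show a • b ∈ q.asIdeal
    rw [Algebra.smul_def]
    apply Ideal.mul_mem_right
    have h3 : a ∈ (PrimeSpectrum.comap (algebraMap A (B t)) q).asIdeal := by
      rw [hq]; exact hIm ha
    exact h3
  have h1 : (1 : B t) ∈ q.asIdeal := hle (by rw [htop]; exact Submodule.mem_top)
  exact q.isPrime.ne_top ((Ideal.eq_top_iff_one _).mpr h1)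

end Groth.Agent.Lib.Helper36.FlatFamD1
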