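import Mathlib
import Groth.Agent.Lib.Helper36.FlatFamD1

/-!
# Finiteness of a module descends along a finite jointly surjective flat family (helper36)
-/

set_option autoImplicit false
universe u
open TensorProduct

namespace Groth.Agent.Lib.Helper36.FlatFamD2

theorem finite_of_forall_finite_tensor {A : Type u} [CommRing A] {T : Type u} [Finite T]
    (B : T → Type u) [∀ t, CommRing (B t)] [∀ t, Algebra A (B t)] [∀ t, Module.Flat A (B t)]
    (hsurj : ∀ p : PrimeSpectrum A, ∃ (t : T) (q : PrimeSpectrum (B t)),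
      PrimeSpectrum.comap (algebraMap A (B t)) q = p)
    (M : Type u) [AddCommGroup M] [Module A M] (h : ∀ t, Module.Finite (B t) (B t ⊗[A] M)) :
    Module.Finite A M := by
  classical
  have hfin : ∀ t, ∃ (n : ℕ) (s : Fin n → B t ⊗[A] M),
      Submodule.span (B t) (Set.range s) = ⊤ := fun t =>
    Module.Finite.exists_fin (R := B t) (M := B t ⊗[A] M)
  choose n s hs using hfin
  choose k c m hcm using fun (p : Σ t, Fin (n t)) => TensorProduct.exists_sum_tmul_eq (s p.1 p.2)
  let ι := Σ p : (Σ t, Fin (n t)), Fin (k p)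
  have : Finite ι := inferInstance
  let f₀ : (ι → A) →ₗ[A] M := (Pi.basisFun A ι).constr A fun q => m q.1 q.2
  have hsurj_t : ∀ t, Function.Surjective (AlgebraTensorModule.lTensor (B t) (B t) f₀) := by
    intro t
    rw [← LinearMap.range_eq_top, eq_top_iff, ← hs t, Submodule.span_le, Set.range_subset_iff]
    intro i
    use ∑ j : Fin (k ⟨t, i⟩), c ⟨t, i⟩ j ⊗ₜ Pi.basisFun A ι ⟨⟨t, i⟩, j⟩
    simp [f₀, -Pi.basisFun_equivFun, -Pi.basisFun_apply, hcm ⟨t, i⟩]
  let N : Submodule A M := LinearMap.range f₀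
  have hQ : Subsingleton (M ⧸ N) := by
    apply Groth.Agent.Lib.Helper36.FlatFamD1.subsingleton_of_forall_subsingleton_tensor B hsurj
    intro t
    refine ⟨fun x y => ?_⟩
    suffices ∀ z : B t ⊗[A] (M ⧸ N), z = 0 by rw [this x, this y]
    intro z
    obtain ⟨w, rfl⟩ := LinearMap.lTensor_surjective (B t) (N.mkQ_surjective) z
    obtain ⟨v, rfl⟩ := hsurj_t t w
    show LinearMap.lTensor (B t) N.mkQ (LinearMap.lTensor (B t) f₀ v) = 0
    rw [← LinearMap.comp_apply, ← LinearMap.lTensor_comp]
    have : N.mkQ ∘ₗ f₀ = 0 := by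
      ext x
      simp [N]
    rw [this, LinearMap.lTensor_zero, LinearMap.zero_apply]
  have hN : N = ⊤ := Submodule.Quotient.subsingleton_iff.mp hQ
  have hf₀ : Function.Surjective f₀ := LinearMap.range_eq_top.mp hN
  exact Module.Finite.of_surjective f₀ hf₀

end Groth.Agent.Lib.Helper36.FlatFamD2
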