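import Groth.Agent.Lib.Helper36.ReducedGerm
import Groth.Prelude.Def_FDesc

/-!
# Geometric reducedness at a point is étale local (helper36)
-/

universe u

open CategoryTheory CategoryTheory.Limits AlgebraicGeometry Opposite

namespace Groth.Agent.Lib.Helper36.GeomRedGerm

open AlgSp Groth.Agent.Lib.Helper36.AlgSpCharts Groth.Agent.Lib.Helper37.AlgSpPoints

theorem exists_preimage_of_isPullback {P X Y Z : Scheme.{u}} {fst : P ⟶ X} {snd : P ⟶ Y}
    {f : X ⟶ Z} {g : Y ⟶ Z} (sq : IsPullback fst snd f g) (x : X) (y : Y) (h : f x = g y) :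
    ∃ z : P, fst z = x ∧ snd z = y := by
  obtain ⟨z0, h1, h2⟩ := Scheme.Pullback.exists_preimage_pullback x y h
  refine ⟨sq.isoPullback.inv z0, ?_, ?_⟩
  · rw [← Scheme.Hom.comp_apply, sq.isoPullback_inv_fst, h1]
  · rw [← Scheme.Hom.comp_apply, sq.isoPullback_inv_snd, h2]

section

variable {k : Type u} [Field k]

/-- The base change to `K` of a morphism of `k`-schemes. -/
noncomputable def bcMap {R U : Scheme.{u}} (fR : R ⟶ Spec (CommRingCat.of k))
    (fU : U ⟶ Spec (CommRingCat.of k)) (g : R ⟶ U) (hg : g ≫ fU = fR)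
    (K : Type u) [Field K] [Algebra k K] : FBase.bc fR K ⟶ FBase.bc fU K :=
  pullback.map fR (Spec.map (CommRingCat.ofHom (algebraMap k K))) fU
    (Spec.map (CommRingCat.ofHom (algebraMap k K))) g (𝟙 _) (𝟙 _)
    (by rw [Category.comp_id, hg]) (by rw [Category.comp_id, Category.id_comp])

theorem isPullback_bcMap {R U : Scheme.{u}} (fR : R ⟶ Spec (CommRingCat.of k))
    (fU : U ⟶ Spec (CommRingCat.of k)) (g : R ⟶ U) (hg : g ≫ fU = fR)
    (K : Type u) [Field K] [Algebra k K] :
    IsPullback (bcMap fR fU g hg K) (FBase.bcπ fR K) (FBase.bcπ fU K) g := by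
  have e1 : bcMap fR fU g hg K ≫ FBase.bcπ fU K = FBase.bcπ fR K ≫ g := by
    exact pullback.lift_fst _ _ _
  have e2 : bcMap fR fU g hg K ≫
      pullback.snd fU (Spec.map (CommRingCat.ofHom (algebraMap k K))) =
      pullback.snd fR (Spec.map (CommRingCat.ofHom (algebraMap k K))) := by
    exact (pullback.lift_snd _ _ _).trans (Category.comp_id _)
  refine IsPullback.of_right ?_ e1
    (IsPullback.of_hasPullback fU (Spec.map (CommRingCat.ofHom (algebraMap k K)))).flip
  rw [e2, hg]
  exact (IsPullback.of_hasPullback fR (Spec.map (CommRingCat.ofHom (algebraMap k K)))).flip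

/-- Geometric reducedness at a point is invariant under étale morphisms of `k`-schemes. -/
theorem isGeomReducedAt_iff_of_etale {R U : Scheme.{u}} (fR : R ⟶ Spec (CommRingCat.of k))
    (fU : U ⟶ Spec (CommRingCat.of k)) (g : R ⟶ U) [Etale g] (hg : g ≫ fU = fR) (r : R) :
    FBase.IsGeomReducedAt fR r ↔ FBase.IsGeomReducedAt fU (g r) := by
  have key : ∀ (K : Type u) [Field K] [Algebra k K] (r' : ↥(FBase.bc fR K)),
      _root_.IsReduced ((FBase.bc fR K).presheaf.stalk r') ↔
      _root_.IsReduced ((FBase.bc fU K).presheaf.stalk (bcMap fR fU g hg K r')) := by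
    intro K _ _ r'
    have sq := isPullback_bcMap fR fU g hg K
    have : Etale (bcMap fR fU g hg K) := MorphismProperty.of_isPullback sq.flip ‹Etale g›
    exact Groth.Agent.Lib.Helper36.AlgSpHasAt.isEtaleLocalGerm_isReduced_stalk
      (bcMap fR fU g hg K) r'
  constructor
  · intro h K _ _ u' hu'
    have sq := isPullback_bcMap fR fU g hg K
    obtain ⟨r', h1, h2⟩ := exists_preimage_of_isPullback sq u' r hu'
    rw [← h1]
    exact (key K r').1 (h K r' h2)
  · intro h K _ _ r' hr'
    have sq := isPullback_bcMap fR fU g hg K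
    refine (key K r').2 (h K _ ?_)
    rw [← Scheme.Hom.comp_apply, sq.w, Scheme.Hom.comp_apply]
    exact congrArg _ hr'

end

section Over

variable {S : Scheme.{u}}

/-- A property of pointed schemes over `S` which is invariant under étale morphisms over `S`. -/
def IsEtaleLocalGermOver (Q : ∀ U : Over S, ↥U.left → Prop) : Prop :=
  ∀ ⦃R U : Over S⦄ (g : R ⟶ U), Etale g.left → ∀ r : ↥R.left, Q R r ↔ Q U (g.left r)

/-- If two étale charts hit the same point, an étale-local property of germs over `S` holds for one iff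
it holds for the other. -/
theorem germOver_iff_of_ofPt_eq {Q : ∀ U : Over S, ↥U.left → Prop} (hQ : IsEtaleLocalGermOver Q)
    {F : Sp S} {U V : Over S} (a : (yon S).obj U ⟶ F) (b : (yon S).obj V ⟶ F)
    (ha : RepWith @Etale a) (hb : RepWith @Etale b) (u : ↥U.left) (v : ↥V.left)
    (h : Points.ofPt a u = Points.ofPt b v) : Q U u ↔ Q V v := by
  obtain ⟨W, p1, p2, sq⟩ := exists_isPullback_yon a b hb.rep
  have h1 : Etale p1.left := prop_fst_of_isPullback sq hb
  have h2 : Etale p2.left := prop_snd_of_isPullback sq ha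
  obtain ⟨r, rfl, rfl⟩ := (ofPt_eq_ofPt_iff sq u v).1 h
  exact (hQ p1 h1 r).symm.trans (hQ p2 h2 r)

theorem isEtaleLocalGermOver_isGeomReducedAt (k : Type u) [Field k] :
    IsEtaleLocalGermOver (S := Spec (CommRingCat.of k))
      (fun U u => FBase.IsGeomReducedAt U.hom u) := by
  intro R U g hg r
  have : Etale g.left := hg
  exact isGeomReducedAt_iff_of_etale R.hom U.hom g.left (Over.w g) r

end Over

end Groth.Agent.Lib.Helper36.GeomRedGerm
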