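import Groth.Agent.Lib.Helper36.FieldBCGal
import Groth.Agent.Lib.Helper36.GeomRedGerm

/-!
# Continuity of the Galois action on the points of a base change (helper36)

For a Galois (more generally algebraic) extension `K/k`, the action of `Gal(K/k)` on `|Y_K|`
(`Y` a scheme over `k`) and on `|X_K|` (`X` a sheaf over `k` with an étale atlas) is jointly
continuous for the Krull topology: every point `w` and open `O ∋ w` admit an open `N ∋ w` and an
open subgroup `H` with `H · N ⊆ O`.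
-/

set_option autoImplicit false
universe u

open CategoryTheory CategoryTheory.Limits AlgebraicGeometry Opposite TensorProduct

namespace Groth.Agent.Lib.Helper36.GalCont

open AlgSp Groth.Agent.Lib.Helper36.AlgSpCharts Groth.Agent.Lib.Helper37.AlgSpPoints
  Groth.Agent.Lib.Helper36.FieldBC Groth.Agent.Lib.Helper36.FieldBCConn
  Groth.Agent.Lib.Helper36.FieldBCGal Groth.Agent.Lib.Helper78.GalTrans
  Groth.Agent.Lib.Helper36.GeomRedGerm

section Scheme

variable {k : Type u} [Field k] (K : Type u) [Field K] [Algebra k K]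

/-- the base change map, typed as a morphism between the pullbacks -/
noncomputable abbrev bcm {R U : Scheme.{u}} (fR : R ⟶ Spec (CommRingCat.of k))
    (fU : U ⟶ Spec (CommRingCat.of k)) (g : R ⟶ U) (hg : g ≫ fU = fR) :
    pullback fR (Spec.map (CommRingCat.ofHom (algebraMap k K))) ⟶
      pullback fU (Spec.map (CommRingCat.ofHom (algebraMap k K))) :=
  bcMap fR fU g hg K

theorem bcm_fst {R U : Scheme.{u}} (fR : R ⟶ Spec (CommRingCat.of k))
    (fU : U ⟶ Spec (CommRingCat.of k)) (g : R ⟶ U) (hg : g ≫ fU = fR) :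
    bcm K fR fU g hg ≫ pullback.fst fU _ = pullback.fst fR _ ≫ g :=
  pullback.lift_fst _ _ _

theorem bcm_snd {R U : Scheme.{u}} (fR : R ⟶ Spec (CommRingCat.of k))
    (fU : U ⟶ Spec (CommRingCat.of k)) (g : R ⟶ U) (hg : g ≫ fU = fR) :
    bcm K fR fU g hg ≫ pullback.snd fU _ = pullback.snd fR _ :=
  (pullback.lift_snd _ _ _).trans (Category.comp_id _)

theorem isPullback_bcm {R U : Scheme.{u}} (fR : R ⟶ Spec (CommRingCat.of k))
    (fU : U ⟶ Spec (CommRingCat.of k)) (g : R ⟶ U) (hg : g ≫ fU = fR) :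
    IsPullback (bcm K fR fU g hg) (pullback.fst fR _) (pullback.fst fU _) g :=
  isPullback_bcMap fR fU g hg K

/-- base change maps are Galois equivariant -/
theorem bcm_gal {R U : Scheme.{u}} (fR : R ⟶ Spec (CommRingCat.of k))
    (fU : U ⟶ Spec (CommRingCat.of k)) (g : R ⟶ U) (hg : g ≫ fU = fR) (σ : K ≃ₐ[k] K) :
    bcm K fR fU g hg ≫ gal fU K σ = gal fR K σ ≫ bcm K fR fU g hg := by
  apply pullback.hom_ext
  · rw [Category.assoc, gal_fst, bcm_fst, Category.assoc, bcm_fst, gal_fst_assoc]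
  · rw [Category.assoc, gal_snd, ← Category.assoc, bcm_snd, Category.assoc, bcm_snd, gal_snd]

theorem tensorAut_comp_includeLeft' (R : Type u) [CommRing R] [Algebra k R] (σ : K ≃ₐ[k] K) :
    (tensorAut k R K σ : (R ⊗[k] K) →+* (R ⊗[k] K)).comp
      (Algebra.TensorProduct.includeLeftRingHom : R →+* R ⊗[k] K) =
      Algebra.TensorProduct.includeLeftRingHom := by
  ext x
  simp

theorem tensorAut_comp_includeRight' (R : Type u) [CommRing R] [Algebra k R] (σ : K ≃ₐ[k] K) :
    (tensorAut k R K σ : (R ⊗[k] K) →+* (R ⊗[k] K)).comp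
      (Algebra.TensorProduct.includeRight : K →ₐ[k] R ⊗[k] K).toRingHom =
      ((Algebra.TensorProduct.includeRight : K →ₐ[k] R ⊗[k] K).toRingHom).comp
        (σ : K →ₐ[k] K).toRingHom := by
  ext x
  simp

theorem pullbackSpecIso_inv_gal' (R : Type u) [CommRing R] [Algebra k R] (σ : K ≃ₐ[k] K) :
    (pullbackSpecIso k R K).inv ≫ gal (Spec.map (CommRingCat.ofHom (algebraMap k R))) K σ =
      Spec.map (CommRingCat.ofHom (tensorAut k R K σ : (R ⊗[k] K) →+* (R ⊗[k] K))) ≫
        (pullbackSpecIso k R K).inv := by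
  apply pullback.hom_ext
  · rw [Category.assoc, gal_fst, Category.assoc, pullbackSpecIso_inv_fst, ← Spec.map_comp,
      ← CommRingCat.ofHom_comp, tensorAut_comp_includeLeft']
  · rw [Category.assoc, gal_snd, Category.assoc, pullbackSpecIso_inv_snd, ← Spec.map_comp,
      pullbackSpecIso_inv_snd_assoc, ← Spec.map_comp, ← CommRingCat.ofHom_comp,
      ← CommRingCat.ofHom_comp]
    congr 2

attribute [local instance] tensorAction in
/-- joint continuity of the Galois action, affine case -/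
theorem affine_cont [Algebra.IsIntegral k K] (R : Type u) [CommRing R] [Algebra k R]
    (y' : ↥(pullback (Spec.map (CommRingCat.ofHom (algebraMap k R)))
      (Spec.map (CommRingCat.ofHom (algebraMap k K)))))
    (O : Set ↥(pullback (Spec.map (CommRingCat.ofHom (algebraMap k R)))
      (Spec.map (CommRingCat.ofHom (algebraMap k K))))) (hO : IsOpen O) (hy : y' ∈ O) :
    ∃ (W : Set ↥(pullback (Spec.map (CommRingCat.ofHom (algebraMap k R)))
      (Spec.map (CommRingCat.ofHom (algebraMap k K))))) (H : Subgroup (K ≃ₐ[k] K)),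
      IsOpen W ∧ y' ∈ W ∧ IsOpen (H : Set (K ≃ₐ[k] K)) ∧
        ∀ σ ∈ H, ∀ w ∈ W, gal (Spec.map (CommRingCat.ofHom (algebraMap k R))) K σ w ∈ O := by
  let e := pullbackSpecIso k R K
  have hinv : ∀ w, e.inv (e.hom w) = w := fun w => by
    rw [← Scheme.Hom.comp_apply, Iso.hom_inv_id]; rfl
  let O' : Set (PrimeSpectrum (R ⊗[k] K)) := e.inv ⁻¹' O
  have hO' : IsOpen O' := hO.preimage e.inv.continuous
  have hz : e.hom y' ∈ O' := by
    change e.inv (e.hom y') ∈ O
    rw [hinv]; exact hy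
  obtain ⟨_, ⟨f, rfl⟩, hzf, hsub⟩ :=
    PrimeSpectrum.isTopologicalBasis_basic_opens.exists_subset_of_mem_open hz hO'
  refine ⟨e.hom ⁻¹' (PrimeSpectrum.basicOpen f : Set (PrimeSpectrum (R ⊗[k] K))),
    MulAction.stabilizer (K ≃ₐ[k] K) f, ?_, hzf, isOpen_stabilizer k R K f, ?_⟩
  · exact (PrimeSpectrum.basicOpen f).isOpen.preimage e.hom.continuous
  · intro σ hσ w hw
    have h1 := congr_arg (fun φ => φ (e.hom w)) (pullbackSpecIso_inv_gal' K R σ)
    simp only [Scheme.Hom.comp_apply] at h1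
    rw [hinv] at h1
    rw [h1]
    apply hsub
    change f ∉ Ideal.comap (tensorAut k R K σ : (R ⊗[k] K) →+* (R ⊗[k] K)) (e.hom w).asIdeal
    rw [Ideal.mem_comap]
    have hσf : tensorAut k R K σ f = f := MulAction.mem_stabilizer_iff.1 hσ
    change tensorAut k R K σ f ∉ _
    rw [hσf]
    exact hw

/-- joint continuity of the Galois action on `|Y_K|` for a scheme `Y` over `k` -/
theorem scheme_cont [Algebra.IsIntegral k K] {Y : Scheme.{u}} (g : Y ⟶ Spec (CommRingCat.of k))
    (y' : ↥(pullback g (Spec.map (CommRingCat.ofHom (algebraMap k K)))))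
    (O : Set ↥(pullback g (Spec.map (CommRingCat.ofHom (algebraMap k K))))) (hO : IsOpen O)
    (hy : y' ∈ O) :
    ∃ (W : Set ↥(pullback g (Spec.map (CommRingCat.ofHom (algebraMap k K)))))
      (H : Subgroup (K ≃ₐ[k] K)),
      IsOpen W ∧ y' ∈ W ∧ IsOpen (H : Set (K ≃ₐ[k] K)) ∧
        ∀ σ ∈ H, ∀ w ∈ W, gal g K σ w ∈ O := by
  obtain ⟨V, hV, hyV, -⟩ := exists_isAffineOpen_mem_and_subset
    (x := pullback.fst g (Spec.map (CommRingCat.ofHom (algebraMap k K))) y')
    (U := (⊤ : Y.Opens)) trivial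
  let ι : Spec Γ(Y, V) ⟶ Y := hV.fromSpec
  let φ : k →+* Γ(Y, V) := (Spec.preimage (ι ≫ g)).hom
  let : Algebra k Γ(Y, V) := φ.toAlgebra
  have hφ : ι ≫ g = Spec.map (CommRingCat.ofHom (algebraMap k Γ(Y, V))) :=
    (Spec.map_preimage (ι ≫ g)).symm
  let b := bcm K (Spec.map (CommRingCat.ofHom (algebraMap k Γ(Y, V)))) g ι hφ
  have sq := isPullback_bcm K (Spec.map (CommRingCat.ofHom (algebraMap k Γ(Y, V)))) g ι hφ
  have hbo : IsOpenImmersion b :=
    MorphismProperty.of_isPullback sq.flip (inferInstance : IsOpenImmersion ι)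
  obtain ⟨r, hr⟩ : ∃ r, ι r = pullback.fst g (Spec.map (CommRingCat.ofHom (algebraMap k K))) y' := by
    have : pullback.fst g (Spec.map (CommRingCat.ofHom (algebraMap k K))) y' ∈ Set.range ι := by
      rw [hV.range_fromSpec]; exact hyV
    exact this
  obtain ⟨yA, hyA, -⟩ := exists_preimage_of_isPullback sq y' r hr.symm
  obtain ⟨WA, H, hWA, hyWA, hH, hact⟩ := affine_cont K Γ(Y, V) yA (b ⁻¹' O)
    (hO.preimage b.continuous) (by change b yA ∈ O; rw [hyA]; exact hy)
  refine ⟨b '' WA, H, b.isOpenEmbedding.isOpenMap _ hWA, ⟨yA, hyWA, hyA⟩, hH, ?_⟩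
  rintro σ hσ _ ⟨w, hw, rfl⟩
  have h1 := congr_arg (fun ψ => ψ w)
    (bcm_gal K (Spec.map (CommRingCat.ofHom (algebraMap k Γ(Y, V)))) g ι hφ σ)
  simp only [Scheme.Hom.comp_apply] at h1
  rw [h1]
  exact hact σ hσ w hw

end Scheme

section Space

variable {k : Type u} [Field k] (K : Type u) [Field K] [Algebra k K]
  {U : Over (Spec (CommRingCat.of k))} {X : Sp (Spec (CommRingCat.of k))}

/-- joint continuity of the Galois action on `|X_K|` for a sheaf `X` with an étale atlas -/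
theorem space_cont [Algebra.IsIntegral k K]
    (a : (yon (Spec (CommRingCat.of k))).obj U ⟶ X) (hae : RepWith @Etale a)
    (has : RepWith @Surjective a)
    (w : Points (X ⨯ (yon (Spec (CommRingCat.of k))).obj (T k K)))
    (O : Set (Points (X ⨯ (yon (Spec (CommRingCat.of k))).obj (T k K)))) (hO : IsOpen O)
    (hw : w ∈ O) :
    ∃ (N : Set (Points (X ⨯ (yon (Spec (CommRingCat.of k))).obj (T k K))))
      (H : Subgroup (K ≃ₐ[k] K)),
      IsOpen N ∧ w ∈ N ∧ IsOpen (H : Set (K ≃ₐ[k] K)) ∧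
        ∀ σ ∈ H, ∀ (g : T k K ⟶ T k K),
          g.left = Spec.map (CommRingCat.ofHom (σ : K ≃ₐ[k] K).toRingHom) →
          ∀ n ∈ N, Points.map (prod.map (𝟙 X) ((yon (Spec (CommRingCat.of k))).map g)) n ∈ O := by
  obtain ⟨y', hy'⟩ := ofPt_surjective (aK K a) (repWith_aK K a has) w
  obtain ⟨W, H, hW, hyW, hH, hact⟩ := scheme_cont K U.hom y' (Points.ofPt (aK K a) ⁻¹' O)
    (hO.preimage (Points.continuous_ofPt _)) (by change Points.ofPt (aK K a) y' ∈ O; rw [hy']; exact hw)
  refine ⟨Points.ofPt (aK K a) '' W, H, isOpenMap_ofPt (aK K a) (repWith_aK K a hae) _ hW,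
    ⟨y', hyW, hy'⟩, hH, ?_⟩
  rintro σ hσ g hg _ ⟨y, hyW', rfl⟩
  rw [Points.map_ofPt, ← galOver_aK K a σ g hg, ofPt_map_comp]
  exact hact σ hσ y hyW'

end Space

end Groth.Agent.Lib.Helper36.GalCont
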