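import Groth.Agent.Lib.Helper36.GalCont

set_option autoImplicit false
universe u

open CategoryTheory CategoryTheory.Limits AlgebraicGeometry Opposite TensorProduct

namespace Groth.Agent.Lib.Helper36.GalOrbit

open AlgSp Groth.Agent.Lib.Helper36.AlgSpCharts Groth.Agent.Lib.Helper37.AlgSpPoints
  Groth.Agent.Lib.Helper36.FieldBC Groth.Agent.Lib.Helper36.FieldBCConn
  Groth.Agent.Lib.Helper36.FieldBCGal Groth.Agent.Lib.Helper78.GalTrans
  Groth.Agent.Lib.Helper36.GeomRedGerm

variable {S : Scheme.{u}}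

/-- the fibres of the base change of `h_g`, `g : Spec K ⟶ Spec k'` Galois, are Galois orbits -/
theorem exists_gal_of_isPullback {k' K : Type u} [Field k'] [Field K] [Algebra k' K]
    [IsGalois k' K] (str : Spec (CommRingCat.of k') ⟶ S) (str' : Spec (CommRingCat.of K) ⟶ S)
    (g : Over.mk str' ⟶ Over.mk str)
    (hg : g.left = Spec.map (CommRingCat.ofHom (algebraMap k' K)))
    {F P : Sp S} (π : F ⟶ (yon S).obj (Over.mk str)) (pr : P ⟶ F)
    (pr' : P ⟶ (yon S).obj (Over.mk str'))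
    (sq : IsPullback pr pr' π ((yon S).map g))
    (w w' : Points P) (h : Points.map pr w = Points.map pr w') :
    ∃ σ : K ≃ₐ[k'] K, ∀ (gσ : Over.mk str' ⟶ Over.mk str') (α : P ⟶ P),
      gσ.left = Spec.map (CommRingCat.ofHom (σ : K ≃ₐ[k'] K).toRingHom) →
      α ≫ pr = pr → α ≫ pr' = pr' ≫ (yon S).map gσ → Points.map α w = w' := by
  obtain ⟨p, hp⟩ := Points.mk_surjective (Points.map pr w)
  obtain ⟨s, hs⟩ := (yon S).map_surjective (p.toHom ≫ π)
  obtain ⟨Z, p1, p2, sqZ⟩ := exists_isPullback_yon ((yon S).map s) ((yon S).map g)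
    (representable_yon_map g)
  have sqZ' : IsPullback p1.left p2.left s.left g.left := isPullback_left_of_yon sqZ
  have hcomm : ((yon S).map p1 ≫ p.toHom) ≫ π = (yon S).map p2 ≫ (yon S).map g := by
    rw [Category.assoc, ← hs, sqZ.w]
  let j : (yon S).obj Z ⟶ P := sq.lift ((yon S).map p1 ≫ p.toHom) ((yon S).map p2) hcomm
  have hj1 : j ≫ pr = (yon S).map p1 ≫ p.toHom := sq.lift_fst _ _ _
  have hj2 : j ≫ pr' = (yon S).map p2 := sq.lift_snd _ _ _
  have sqj : IsPullback j ((yon S).map p1) pr p.toHom := by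
    refine IsPullback.of_right ?_ hj1 sq.flip
    rw [hj2, ← hs]
    exact sqZ.flip
  have hrange : ∀ v : Points P, Points.map pr v = Points.mk p → ∃ z, Points.ofPt j z = v := by
    intro v hv
    have hv' : Points.map pr v = Points.map p.toHom
        (Points.ofScheme p.pt (IsLocalRing.closedPoint p.K)) := by
      rw [← Points.ofPt_eq_map_ofScheme, Points.ofPt_toHom]
      exact hv
    obtain ⟨q, hq1, -⟩ := points_exists_of_isPullback sqj v _ hv'
    refine ⟨Points.toScheme Z q, ?_⟩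
    rw [Points.ofPt_eq_map_ofScheme, Points.ofScheme_toScheme, hq1]
  obtain ⟨z, rfl⟩ := hrange w hp.symm
  obtain ⟨z', rfl⟩ := hrange w' (h ▸ hp.symm)
  -- transitivity on the scheme `Z`
  have sqZ'' : IsPullback p1.left p2.left s.left
      (Spec.map (CommRingCat.ofHom (algebraMap k' K))) := hg ▸ sqZ'
  let e := sqZ''.isoPullback
  have he1 : e.hom ≫ pullback.fst _ _ = p1.left := sqZ''.isoPullback_hom_fst
  have he2 : e.hom ≫ pullback.snd _ _ = p2.left := sqZ''.isoPullback_hom_snd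
  have hsub : Subsingleton ↥(Spec (CommRingCat.of p.K)) := inferInstance
  obtain ⟨σ, hσ⟩ := exists_gal_eq s.left K (e.hom z) (e.hom z')
    (Subsingleton.elim (α := ↥(Spec (CommRingCat.of p.K))) _ _)
  refine ⟨σ, fun gσ α hgσ hα1 hα2 => ?_⟩
  let τ : Z.left ⟶ Z.left := e.hom ≫ gal s.left K σ ≫ e.inv
  have hτ1 : τ ≫ p1.left = p1.left := by
    rw [← he1]
    simp only [τ, Category.assoc, Iso.inv_hom_id_assoc, gal_fst]
  have hτ2 : τ ≫ p2.left = p2.left ≫ gσ.left := by
    rw [← he2, hgσ]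
    simp only [τ, Category.assoc, Iso.inv_hom_id_assoc, gal_snd]
    rfl
  have hτz : τ z = z' := by
    simp only [τ, Scheme.Hom.comp_apply]
    rw [hσ, ← Scheme.Hom.comp_apply, Iso.hom_inv_id]
    rfl
  have hτw : τ ≫ Z.hom = Z.hom := by
    rw [← Over.w p1, ← Category.assoc, hτ1]
  let τZ : Z ⟶ Z := Over.homMk τ hτw
  have hτZ1 : τZ ≫ p1 = p1 := Over.OverMorphism.ext hτ1
  have hτZ2 : τZ ≫ p2 = p2 ≫ gσ := Over.OverMorphism.ext hτ2
  have hequiv : (yon S).map τZ ≫ j = j ≫ α := by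
    apply sq.hom_ext
    · rw [Category.assoc, hj1, ← Category.assoc, ← Functor.map_comp, hτZ1, Category.assoc, hα1,
        hj1]
    · rw [Category.assoc, hj2, ← Functor.map_comp, hτZ2, Functor.map_comp, Category.assoc, hα2,
        ← Category.assoc, hj2]
  rw [Points.map_ofPt, ← hequiv, ofPt_map_comp]
  exact congrArg (Points.ofPt j) hτz

end Groth.Agent.Lib.Helper36.GalOrbit
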