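import Mathlib

/-! Divisibility of global sections of a scheme from divisibility of germs (helper36):
if all stalks of `Y` are domains, `b ∈ Γ(Y, ⊤)` has nonzero germ everywhere and the germ of `b`
divides the germ of `a` at every point, then `b ∣ a` in `Γ(Y, ⊤)`; multiplication by `b` is
injective on sections over any open. -/

set_option autoImplicit false
universe u

open CategoryTheory AlgebraicGeometry TopologicalSpace Opposite

namespace Groth.Agent.Lib.Helper36.GermDvd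

variable {Y : Scheme.{u}}

theorem res_res {U V W : Y.Opens} (s : Γ(Y, U)) (i : V ⟶ U) (j : W ⟶ V) (k : W ⟶ U) :
    (Y.presheaf.map j.op) ((Y.presheaf.map i.op) s) = (Y.presheaf.map k.op) s := by
  rw [← CommRingCat.comp_apply, ← Functor.map_comp]
  rfl

/-- multiplication by a section with nonzero germs is injective when the stalks are domains -/
theorem eq_zero_of_mul_eq_zero (b : Γ(Y, ⊤))
    (hdom : ∀ y : Y, IsDomain (Y.presheaf.stalk y))
    (hb : ∀ y : Y, Y.presheaf.germ ⊤ y trivial b ≠ 0) (V : Y.Opens) (t : Γ(Y, V))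
    (h : (Y.presheaf.map (homOfLE le_top : V ⟶ ⊤).op) b * t = 0) : t = 0 := by
  apply TopCat.Presheaf.section_ext Y.sheaf V
  intro y hy
  have h1 := congrArg (Y.presheaf.germ V y hy) h
  rw [map_mul, map_zero, TopCat.Presheaf.germ_res_apply] at h1
  change Y.presheaf.germ V y hy t = Y.presheaf.germ V y hy 0
  rw [map_zero]
  have := hdom y
  rcases mul_eq_zero.1 h1 with h2 | h2
  · exact absurd h2 (hb y)
  · exact h2

theorem eq_of_mul_eq_mul (b : Γ(Y, ⊤))
    (hdom : ∀ y : Y, IsDomain (Y.presheaf.stalk y))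
    (hb : ∀ y : Y, Y.presheaf.germ ⊤ y trivial b ≠ 0) (V : Y.Opens) (t t' : Γ(Y, V))
    (h : (Y.presheaf.map (homOfLE le_top : V ⟶ ⊤).op) b * t =
      (Y.presheaf.map (homOfLE le_top : V ⟶ ⊤).op) b * t') : t = t' := by
  rw [← sub_eq_zero]
  apply eq_zero_of_mul_eq_zero b hdom hb V
  rw [mul_sub, h, sub_self]

/-- local-to-global divisibility -/
theorem exists_eq_mul (a b : Γ(Y, ⊤))
    (hdom : ∀ y : Y, IsDomain (Y.presheaf.stalk y))
    (hb : ∀ y : Y, Y.presheaf.germ ⊤ y trivial b ≠ 0)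
    (hdvd : ∀ y : Y, Y.presheaf.germ ⊤ y trivial b ∣ Y.presheaf.germ ⊤ y trivial a) :
    ∃ c : Γ(Y, ⊤), a = b * c := by
  have hloc : ∀ y : Y, ∃ (V : Y.Opens) (_ : y ∈ V) (t : Γ(Y, V)),
      (Y.presheaf.map (homOfLE le_top : V ⟶ ⊤).op) a =
        (Y.presheaf.map (homOfLE le_top : V ⟶ ⊤).op) b * t := by
    intro y
    obtain ⟨cy, hcy⟩ := hdvd y
    obtain ⟨V, hyV, t, rfl⟩ := Y.presheaf.exists_germ_eq cy
    have h1 : Y.presheaf.germ V y hyV ((Y.presheaf.map (homOfLE le_top : V ⟶ ⊤).op) a) =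
        Y.presheaf.germ V y hyV ((Y.presheaf.map (homOfLE le_top : V ⟶ ⊤).op) b * t) := by
      rw [map_mul, TopCat.Presheaf.germ_res_apply, TopCat.Presheaf.germ_res_apply]
      exact hcy
    obtain ⟨W, hyW, i1, i2, he⟩ := Y.presheaf.germ_eq y hyV hyV _ _ h1
    refine ⟨W, hyW, (Y.presheaf.map i1.op) t, ?_⟩
    rw [map_mul, res_res _ _ _ (homOfLE le_top : W ⟶ ⊤), res_res _ _ _ (homOfLE le_top : W ⟶ ⊤),
      Subsingleton.elim i2 i1] at he
    exact he
  choose V hyV t ht using hloc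
  have hcompat : TopCat.Presheaf.IsCompatible Y.presheaf V t := by
    intro y y'
    apply eq_of_mul_eq_mul b hdom hb
    have e1 := congrArg (Y.presheaf.map (Opens.infLELeft (V y) (V y')).op) (ht y)
    have e2 := congrArg (Y.presheaf.map (Opens.infLERight (V y) (V y')).op) (ht y')
    rw [map_mul, res_res _ _ _ (homOfLE le_top : V y ⊓ V y' ⟶ ⊤),
      res_res _ _ _ (homOfLE le_top : V y ⊓ V y' ⟶ ⊤)] at e1 e2
    rw [← e1, ← e2]
  obtain ⟨c, hc, -⟩ : ∃! c : Γ(Y, ⊤), ∀ y,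
      (Y.presheaf.map (homOfLE le_top : V y ⟶ ⊤).op) c = t y :=
    TopCat.Sheaf.existsUnique_gluing' Y.sheaf V ⊤
      (fun y => homOfLE le_top) (fun y _ => Opens.mem_iSup.2 ⟨y, hyV y⟩) t hcompat
  refine ⟨c, ?_⟩
  apply TopCat.Sheaf.eq_of_locally_eq' Y.sheaf V ⊤ (fun y => homOfLE le_top)
    (fun y _ => Opens.mem_iSup.2 ⟨y, hyV y⟩)
  intro y
  change (Y.presheaf.map (homOfLE le_top : V y ⟶ ⊤).op) a =
    (Y.presheaf.map (homOfLE le_top : V y ⟶ ⊤).op) (b * c)
  rw [map_mul, ht y]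
  congr 1
  exact (hc y).symm

end Groth.Agent.Lib.Helper36.GermDvd
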