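import Groth.Agent.S10312
import Groth.Agent.S10313
import Groth.Agent.Lib.Helper36.OpenImmIso
import Groth.Agent.Lib.Helper5.FieldBase
import Groth.Agent.Lib.Helper23.ImmQuot
import Groth.Prelude.Def_AlgSpGpd

/-!
# Loci of group algebraic spaces (helper36)

For a group algebraic space `G ⟶ B` locally of finite type and a property `P` of morphisms of
schemes whose "near a point" locus is open and commutes with base change (`Good P`; we check the
unramified and the locally quasi-finite cases, from S10312 / S10313), `G ⟶ B` has `P` near `g` iff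
it has `P` near `e(π(g))` (`hasAtMor_iff_unit`; the two squares `(fst, snd)` and `(μ, snd)` on
`G ×_B G` are both cartesian over `(G.hom, G.hom)`).  Consequently a base change of `G ⟶ B` along
`t : T ⟶ B` has `P` iff `t` lands in the open `unitLocus` (`locP_iff_range_subset`).
-/

set_option autoImplicit false
universe u
open CategoryTheory CategoryTheory.Limits AlgebraicGeometry MonoidalCategory MonObj
open AlgSp

namespace Groth.Agent.Lib.Helper36.GrpLocus

open Groth.Agent.Lib.Helper36.AlgSpChartDiag Groth.Agent.Lib.Helper36.AlgSpHasAtMor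
  Groth.Agent.Lib.Helper36.OpenSubspace Groth.Agent.Lib.Helper37.AlgSpPoints
  Groth.Agent.Lib.Helper36.UnramBC Groth.Agent.Lib.Helper46

variable {S : Scheme.{u}}

/-- "`P` holds near the point". -/
abbrev Nbhd (P : MorphismProperty Scheme.{u}) : ∀ (U V : Scheme.{u}), (U ⟶ V) → ↥U → Prop :=
  fun U _ h u => ∃ W : U.Opens, u ∈ W ∧ P (W.ι ≫ h)

/-- The data needed of a property `P` for the locus argument. -/
structure Good (P : MorphismProperty Scheme.{u}) : Prop where
  etLocal : EtLocal P
  local_source : ∀ ⦃U V : Scheme.{u}⦄ (h : U ⟶ V),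
    (∀ u : ↥U, ∃ W : U.Opens, u ∈ W ∧ P (W.ι ≫ h)) → P h
  isOpen : ∀ {X Y : Space S} (f : X ⟶ Y), LocP @LocallyOfFiniteType f.hom →
    IsOpen {x : Points X.obj | HasAtMor (Nbhd P) f.hom x}
  baseChange : ∀ {X Y X'' Y'' : Space S} (f : X ⟶ Y), LocP @LocallyOfFiniteType f.hom →
    ∀ (g : Y'' ⟶ Y) (b : X'' ⟶ X) (f'' : X'' ⟶ Y''), IsPullback b.hom f''.hom f.hom g.hom →
    ∀ x'' : Points X''.obj, HasAtMor (Nbhd P) f''.hom x'' ↔
      HasAtMor (Nbhd P) f.hom (Points.map b.hom x'')

theorem locP_iff_forall_hasAtMor {P : MorphismProperty Scheme.{u}} (hP : Good (S := S) P)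
    {X Y : Space S} (f : X ⟶ Y) :
    LocP P f.hom ↔ ∀ x : Points X.obj, HasAtMor (Nbhd P) f.hom x := by
  constructor
  · intro hf x
    obtain ⟨W, V, a, b, h, w, hae, has, hbe, hbs, weq, hw, hv⟩ := exists_chart_diagram_at f x
    refine ⟨W, V, a, b, h, w, hae, hbe, weq, hw, ⊤, trivial, ?_⟩
    exact hP.etLocal.precomp _ _ inferInstance (hf a b h hae hbe weq)
  · intro H
    obtain ⟨W, V, a, b, h, hae, has, hbe, hbs, weq⟩ := exists_chart_diagram f
    refine LocPChart.locP_of_chart hP.etLocal f.hom a b h hae has hbe weq ?_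
    apply hP.local_source
    intro u
    exact (hasAtMor_iff_forall_chart (isEtaleLocalGermMor_nbhd hP.etLocal) f _).1
      (H (Points.ofPt a u)) W V a b h u hae hbe weq rfl

/-- The unramified case. -/
theorem good_unramified :
    Good (S := S) (@LocallyOfFiniteType ⊓ @FormallyUnramified : MorphismProperty Scheme.{u}) where
  etLocal := Groth.Agent.Lib.Helper30.EtLocalInst.etLocal_unramified
  local_source := by
    intro U V h H
    choose W hW hPW using H
    have hcov : iSup W = ⊤ := by
      rw [eq_top_iff]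
      intro u _
      exact TopologicalSpace.Opens.mem_iSup.2 ⟨u, hW u⟩
    exact ⟨IsZariskiLocalAtSource.of_iSup_eq_top W hcov fun u => (hPW u).1,
      IsZariskiLocalAtSource.of_iSup_eq_top W hcov fun u => (hPW u).2⟩
  isOpen := by
    intro X Y f hf
    exact (Groth.Agent.S10312.result f f (𝟙 Y) (Category.comp_id f) hf (𝟙 Y) (𝟙 Y) (𝟙 Y)
      IsPullback.of_id_snd (𝟙 X) f (IsPullback.of_id_fst)).1
  baseChange := by
    intro X Y X'' Y'' f hf g b f'' sq x''
    have := (Groth.Agent.S10312.result f f (𝟙 Y) (Category.comp_id f) hf g g (𝟙 Y'')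
      IsPullback.of_id_snd b f'' sq).2
    exact Set.ext_iff.1 this x''

/-- The quasi-finite case. -/
theorem good_lqf :
    Good (S := S) (@LocallyQuasiFinite ⊓ @LocallyOfFiniteType : MorphismProperty Scheme.{u}) where
  etLocal := Groth.Agent.Lib.Helper30.EtLocalInst.etLocal_lqf
  local_source := by
    intro U V h H
    choose W hW hPW using H
    have hcov : iSup W = ⊤ := by
      rw [eq_top_iff]
      intro u _
      exact TopologicalSpace.Opens.mem_iSup.2 ⟨u, hW u⟩
    exact ⟨IsZariskiLocalAtSource.of_iSup_eq_top W hcov fun u => (hPW u).1,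
      IsZariskiLocalAtSource.of_iSup_eq_top W hcov fun u => (hPW u).2⟩
  isOpen := by
    intro X Y f hf
    have h1 := Groth.Agent.Lib.Helper36.QFLocus.isOpen_qfLocus f hf
    have h2 : {x : Points X.obj | HasAtMor (Nbhd (@LocallyQuasiFinite ⊓ @LocallyOfFiniteType)) f.hom x} =
        Groth.Agent.Lib.Helper36.QFLocus.qfLocus f := by
      ext x
      exact Groth.Agent.S10313.hasAtMor_lqf_iff_mem_qfLocus f hf x
    rw [h2]; exact h1
  baseChange := by
    intro X Y X'' Y'' f hf g b f'' sq x''
    have hf'' : LocP @LocallyOfFiniteType f''.hom :=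
      Groth.Agent.Lib.Helper46.LocPChart.locP_of_isPullback Groth.Agent.Lib.Helper30.EtLocalInst.etLocal_lft
        X.property Y.property X''.property Y''.property sq hf
    have e1 := Groth.Agent.S10313.hasAtMor_lqf_iff_mem_qfLocus f'' hf'' x''
    have e2 := Groth.Agent.S10313.hasAtMor_lqf_iff_mem_qfLocus f hf (Points.map b.hom x'')
    have e3 := Groth.Agent.S10313.mem_qfLocus_iff_of_isPullback f hf g b f'' sq hf'' x''
    exact e1.trans (e3.trans e2.symm)


section Group

open CartesianMonoidalCategory

/-- The product square in a cartesian monoidal category. -/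
theorem isPullback_fst_snd {C : Type*} [Category C] [CartesianMonoidalCategory C] (X Y : C) :
    IsPullback (fst X Y) (snd X Y) (toUnit X) (toUnit Y) := by
  refine ⟨⟨toUnit_unique _ _⟩, ⟨PullbackCone.IsLimit.mk _ (fun c => lift c.fst c.snd)
    (fun c => lift_fst _ _) (fun c => lift_snd _ _) ?_⟩⟩
  intro c m h1 h2
  apply CartesianMonoidalCategory.hom_ext
  · rw [lift_fst]; exact h1
  · rw [lift_snd]; exact h2

variable {B : Sp S} (G : Over B) [GrpObj G]

omit [GrpObj G] in
theorem isPullback_fst_left : IsPullback (fst G G).left (snd G G).left G.hom G.hom := by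
  have sq0 := (isPullback_fst_snd G G).map (Over.forget _)
  have h1 : (Over.forget _).map (toUnit G) = G.hom := by simp
  rw [h1] at sq0
  exact sq0

theorem isPullback_mul_left : IsPullback (μ[G]).left (snd G G).left G.hom G.hom := by
  have sq0 := (Groth.Agent.Lib.Helper5.FieldBase.isPullback_mul G).map (Over.forget _)
  have h1 : (Over.forget _).map (toUnit G) = G.hom := by simp
  rw [h1] at sq0
  exact sq0

theorem unit_left_hom : (η[G]).left ≫ G.hom = 𝟙 B := by
  exact Over.w η[G]

/-- The morphism `g ↦ (e, g)`. -/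
noncomputable def unitPair : G ⟶ G ⊗ G := lift (toUnit G ≫ η[G]) (𝟙 G)

theorem unitPair_fst_left : (unitPair G).left ≫ (fst G G).left = G.hom ≫ (η[G]).left := by
  have h : unitPair G ≫ fst G G = toUnit G ≫ η[G] := lift_fst _ _
  have h2 := congrArg (fun φ => Over.Hom.left φ) h
  simp only [Over.comp_left] at h2
  rw [h2]
  congr 1

theorem unitPair_mul_left : (unitPair G).left ≫ (μ[G]).left = 𝟙 G.left := by
  have h : unitPair G ≫ μ[G] = 𝟙 G := by
    unfold unitPair
    simp
  have h2 := congrArg (fun φ => Over.Hom.left φ) h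
  simp only [Over.comp_left, Over.id_left] at h2
  exact h2

variable {P : MorphismProperty Scheme.{u}}

/-- The set of points `b` of the base such that `G ⟶ B` has `P` near `e(b)`. -/
def unitLocus (P : MorphismProperty Scheme.{u}) : Set (Points B) :=
  {b | HasAtMor (Nbhd P) G.hom (Points.map (η[G]).left b)}

omit [GrpObj G] in
theorem isAlgSpace_tensor (hB : IsAlgSpace B) (hG : IsAlgSpace G.left) :
    IsAlgSpace (G ⊗ G).left :=
  Groth.Agent.Lib.Helper23.AlgSpMor.isAlgSpace_of_isPullback hG hG hB.diag (isPullback_fst_left G)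

/-- Homogeneity: `G ⟶ B` has `P` near `g` iff it has `P` near `e(π(g))`. -/
theorem hasAtMor_iff_unit (hP : Good (S := S) P) (hB : IsAlgSpace B) (hG : IsAlgSpace G.left)
    (hlft : LocP @LocallyOfFiniteType G.hom) (g : Points G.left) :
    HasAtMor (Nbhd P) G.hom g ↔
      HasAtMor (Nbhd P) G.hom (Points.map (η[G]).left (Points.map G.hom g)) := by
  let XG : Space S := ⟨G.left, hG⟩
  let YB : Space S := ⟨B, hB⟩
  let XP : Space S := ⟨(G ⊗ G).left, isAlgSpace_tensor G hB hG⟩
  let f : XG ⟶ YB := ObjectProperty.homMk G.hom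
  let sndm : XP ⟶ XG := ObjectProperty.homMk (snd G G).left
  let fstm : XP ⟶ XG := ObjectProperty.homMk (fst G G).left
  let mulm : XP ⟶ XG := ObjectProperty.homMk (μ[G]).left
  let p : Points XP.obj := Points.map (unitPair G).left g
  have bc1 := hP.baseChange f hlft f fstm sndm (isPullback_fst_left G) p
  have bc2 := hP.baseChange f hlft f mulm sndm (isPullback_mul_left G) p
  have e1 : Points.map fstm.hom p = Points.map (η[G]).left (Points.map G.hom g) := by
    show Points.map (fst G G).left (Points.map (unitPair G).left g) = _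
    rw [← Points.map_comp, unitPair_fst_left, Points.map_comp]
  have e2 : Points.map mulm.hom p = g := by
    show Points.map (μ[G]).left (Points.map (unitPair G).left g) = _
    rw [← Points.map_comp, unitPair_mul_left, Points.map_id]
  rw [e1] at bc1
  rw [e2] at bc2
  exact bc2.symm.trans bc1

theorem isOpen_unitLocus (hP : Good (S := S) P) (hB : IsAlgSpace B) (hG : IsAlgSpace G.left)
    (hlft : LocP @LocallyOfFiniteType G.hom) : IsOpen (unitLocus G P) := by
  let XG : Space S := ⟨G.left, hG⟩
  let YB : Space S := ⟨B, hB⟩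
  let f : XG ⟶ YB := ObjectProperty.homMk G.hom
  exact (hP.isOpen f hlft).preimage (Points.continuous_map (η[G]).left)

/-- For any base change `f'` of `G ⟶ B` along `t : T ⟶ B`, `f'` has `P` iff `t` lands in the
unit locus. -/
theorem locP_iff_range_subset (hP : Good (S := S) P) (hB : IsAlgSpace B) (hG : IsAlgSpace G.left)
    (hlft : LocP @LocallyOfFiniteType G.hom) {T X' : Sp S} (hT : IsAlgSpace T) (t : T ⟶ B)
    (b' : X' ⟶ G.left) (f' : X' ⟶ T) (sq : IsPullback b' f' G.hom t) :
    LocP P f' ↔ Set.range (Points.map t) ⊆ unitLocus G P := by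
  have hX' : IsAlgSpace X' :=
    Groth.Agent.Lib.Helper23.AlgSpMor.isAlgSpace_of_isPullback hG hT hB.diag sq
  let XG : Space S := ⟨G.left, hG⟩
  let YB : Space S := ⟨B, hB⟩
  let XT : Space S := ⟨T, hT⟩
  let XX' : Space S := ⟨X', hX'⟩
  let f : XG ⟶ YB := ObjectProperty.homMk G.hom
  let tm : XT ⟶ YB := ObjectProperty.homMk t
  let b'm : XX' ⟶ XG := ObjectProperty.homMk b'
  let f'm : XX' ⟶ XT := ObjectProperty.homMk f'
  have key := locP_iff_forall_hasAtMor hP f'm
  have bc := hP.baseChange f hlft tm b'm f'm sq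
  show LocP P f'm.hom ↔ _
  rw [key]
  constructor
  · rintro H _ ⟨y, rfl⟩
    obtain ⟨s, hs1, hs2⟩ := sq.exists_lift (t ≫ (η[G]).left) (𝟙 T) (by
      rw [Category.assoc, unit_left_hom, Category.comp_id, Category.id_comp])
    have h1 := (bc (Points.map s y)).1 (H _)
    have h2 : Points.map b'm.hom (Points.map s y) = Points.map (η[G]).left (Points.map t y) := by
      show Points.map b' (Points.map s y) = _
      rw [← Points.map_comp, hs1, Points.map_comp]
    rw [h2] at h1
    exact h1
  · intro H x'
    rw [bc x']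
    show HasAtMor (Nbhd P) G.hom (Points.map b' x')
    rw [hasAtMor_iff_unit G hP hB hG hlft]
    have h2 : Points.map G.hom (Points.map b' x') = Points.map t (Points.map f' x') := by
      rw [← Points.map_comp, ← Points.map_comp, sq.w]
    rw [h2]
    exact H ⟨_, rfl⟩

end Group

end Groth.Agent.Lib.Helper36.GrpLocus
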