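import Groth.Agent.Lib.Helper36.GrpLocus
import Groth.Agent.S10311

/-!
# Homogeneity of group algebraic spaces for general pointwise properties (helper36)

`hasAtMor_iff_unit_of_bc`: for a group algebraic space `G ⟶ B` locally of finite type and a
pointwise property `Q` of morphisms whose locus commutes with base change, `Q` holds at `g` iff it
holds at `e(π(g))`.  `bc_fibreDimAt`: the relative dimension commutes with base change (iff form).
-/

set_option autoImplicit false
universe u
open CategoryTheory CategoryTheory.Limits AlgebraicGeometry MonoidalCategory MonObj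
open AlgSp

namespace Groth.Agent.Lib.Helper36.GrpLocus

open Groth.Agent.Lib.Helper36.AlgSpChartDiag Groth.Agent.Lib.Helper36.AlgSpHasAtMor
  Groth.Agent.Lib.Helper37.AlgSpPoints CartesianMonoidalCategory

variable {S : Scheme.{u}}

/-- Base change compatibility of the locus of a pointwise property. -/
def BC (Q : ∀ (U V : Scheme.{u}), (U ⟶ V) → ↥U → Prop) : Prop :=
  ∀ {X Y X'' Y'' : Space S} (f : X ⟶ Y), LocP @LocallyOfFiniteType f.hom →
    ∀ (g : Y'' ⟶ Y) (b : X'' ⟶ X) (f'' : X'' ⟶ Y''), IsPullback b.hom f''.hom f.hom g.hom →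
    ∀ x'' : Points X''.obj, HasAtMor Q f''.hom x'' ↔ HasAtMor Q f.hom (Points.map b.hom x'')

theorem hasAtMor_iff_unit_of_bc {Q : ∀ (U V : Scheme.{u}), (U ⟶ V) → ↥U → Prop}
    (hQ : BC (S := S) Q) {B : Sp S} (G : Over B) [GrpObj G]
    (hB : IsAlgSpace B) (hG : IsAlgSpace G.left)
    (hlft : LocP @LocallyOfFiniteType G.hom) (g : Points G.left) :
    HasAtMor Q G.hom g ↔ HasAtMor Q G.hom (Points.map (η[G]).left (Points.map G.hom g)) := by
  let XG : Space S := ⟨G.left, hG⟩
  let YB : Space S := ⟨B, hB⟩
  let XP : Space S := ⟨(G ⊗ G).left, isAlgSpace_tensor G hB hG⟩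
  let f : XG ⟶ YB := ObjectProperty.homMk G.hom
  let sndm : XP ⟶ XG := ObjectProperty.homMk (snd G G).left
  let fstm : XP ⟶ XG := ObjectProperty.homMk (fst G G).left
  let mulm : XP ⟶ XG := ObjectProperty.homMk (μ[G]).left
  let p : Points XP.obj := Points.map (unitPair G).left g
  have bc1 := hQ f hlft f fstm sndm (isPullback_fst_left G) p
  have bc2 := hQ f hlft f mulm sndm (isPullback_mul_left G) p
  have e1 : Points.map fstm.hom p = Points.map (η[G]).left (Points.map G.hom g) := by
    show Points.map (fst G G).left (Points.map (unitPair G).left g) = _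
    rw [← Points.map_comp, unitPair_fst_left, Points.map_comp]
  have e2 : Points.map mulm.hom p = g := by
    show Points.map (μ[G]).left (Points.map (unitPair G).left g) = _
    rw [← Points.map_comp, unitPair_mul_left, Points.map_id]
  rw [e1] at bc1
  rw [e2] at bc2
  exact bc2.symm.trans bc1

/-- The relative dimension commutes with base change. -/
theorem bc_fibreDimAt (d : WithBot ℕ∞) :
    BC (S := S) (fun _ _ h u => FlatMor.fibreDimAt h u = d) := by
  intro X Y X'' Y'' f hf g b f'' sq x''
  constructor
  · intro H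
    obtain ⟨W, V, a0, b0, h, w, hae, has, hbe, hbs, weq, hw, hv⟩ :=
      exists_chart_diagram_at f (Points.map b.hom x'')
    have H0 : HasAtMor (fun _ _ h' u => FlatMor.fibreDimAt h' u = FlatMor.fibreDimAt h.left w) f.hom
        (Points.map b.hom x'') := ⟨W, V, a0, b0, h, w, hae, hbe, weq, hw, rfl⟩
    have H1 := Groth.Agent.S10311.result f g b f'' sq hf x'' _ H0
    obtain ⟨U1, V1, a1, b1, h1, u1, ha1, hb1, w1, hu1, hq1⟩ := H
    have := (hasAtMor_iff_forall_chart
      (isEtaleLocalGermMor_fibreDimAt (· = FlatMor.fibreDimAt h.left w)) f'' x'').1 H1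
      U1 V1 a1 b1 h1 u1 ha1 hb1 w1 hu1
    have hd : FlatMor.fibreDimAt h.left w = d := this.symm.trans hq1
    rw [← hd]
    exact H0
  · intro H
    exact Groth.Agent.S10311.result f g b f'' sq hf x'' d H

end Groth.Agent.Lib.Helper36.GrpLocus
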