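import Mathlib

/-!
# Integral morphisms of integral affine schemes inducing an isomorphism at the generic point (helper36)
-/

set_option autoImplicit false
universe u
open CategoryTheory CategoryTheory.Limits AlgebraicGeometry Topology TopologicalSpace

namespace Groth.Agent.Lib.Helper36.IntBirat

theorem isFractionRing_stalk_of_eq_genericPoint {V : Scheme.{u}} [IsAffine V] [IsIntegral V]
    (x : V) (hx : x = genericPoint V) :
    letI := (V.presheaf.germ ⊤ x trivial).hom.toAlgebra
    IsFractionRing Γ(V, ⊤) (V.presheaf.stalk x) := by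
  subst hx
  have : Nonempty (⊤ : V.Opens) := ⟨⟨genericPoint V, trivial⟩⟩
  exact AlgebraicGeometry.functionField_isFractionRing_of_isAffineOpen (X := V) ⊤ (isAffineOpen_top V)

/-- an integral morphism of integral affine schemes, inducing an isomorphism of function fields, onto
a normal scheme is an isomorphism -/
theorem isIso_of_integral_of_stalk_iso {W V : Scheme.{u}} [IsAffine W] [IsAffine V] [IsIntegral W]
    [IsIntegral V] (j : W ⟶ V) [IsIntegralHom j] (w₀ : W) [IsIso (j.stalkMap w₀)]
    (hgen : j w₀ = genericPoint V) (hV : IsIntegrallyClosed Γ(V, ⊤)) : IsIso j := by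
  let alg := (V.presheaf.germ ⊤ (j w₀) trivial).hom.toAlgebra
  have hfrac : IsFractionRing Γ(V, ⊤) (V.presheaf.stalk (j w₀)) :=
    isFractionRing_stalk_of_eq_genericPoint (j w₀) hgen
  have hnat := j.germ_stalkMap ⊤ w₀ trivial
  have hψ : Function.Bijective (j.stalkMap w₀).hom :=
    (ConcreteCategory.isIso_iff_bijective (j.stalkMap w₀)).mp inferInstance
  have hγW : Function.Injective (W.presheaf.germ (j ⁻¹ᵁ ⊤) w₀ trivial).hom :=
    germ_injective_of_isIntegral W (U := j ⁻¹ᵁ ⊤) w₀ trivial
  have hγV : Function.Injective (V.presheaf.germ ⊤ (j w₀) trivial).hom :=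
    germ_injective_of_isIntegral V (U := ⊤) (j w₀) trivial
  have hnat' : ∀ b : Γ(V, ⊤), (j.stalkMap w₀).hom ((V.presheaf.germ ⊤ (j w₀) trivial).hom b) =
      (W.presheaf.germ (j ⁻¹ᵁ ⊤) w₀ trivial).hom ((j.app ⊤).hom b) := fun b =>
    congrArg (fun q => q.hom b) hnat
  have hint : (j.app ⊤).hom.IsIntegral := IsIntegralHom.isIntegral_app j ⊤ (isAffineOpen_top V)
  have hbij : Function.Bijective (j.app ⊤).hom := by
    constructor
    · rw [injective_iff_map_eq_zero]
      intro b hb
      apply hγV
      apply hψ.1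
      rw [hnat', hb, map_zero, map_zero, map_zero]
    · intro a
      obtain ⟨x, hx⟩ := hψ.2 ((W.presheaf.germ (j ⁻¹ᵁ ⊤) w₀ trivial).hom a)
      have hxint : IsIntegral Γ(V, ⊤) x := by
        obtain ⟨P, hP, hPa⟩ := hint a
        refine ⟨P, hP, ?_⟩
        apply hψ.1
        rw [map_zero, Polynomial.hom_eval₂, hx]
        have h1 := congrArg (W.presheaf.germ (j ⁻¹ᵁ ⊤) w₀ trivial).hom hPa
        rw [map_zero, Polynomial.hom_eval₂] at h1
        rw [← h1]
        congr 1
        ext b
        exact hnat' b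
      obtain ⟨b, hb⟩ := IsIntegrallyClosed.isIntegral_iff.mp hxint
      refine ⟨b, hγW ?_⟩
      rw [← hnat', ← hx]
      congr 1
  have hiso : IsIso (j.app ⊤) := (ConcreteCategory.isIso_iff_bijective _).mpr hbij
  exact (HasAffineProperty.iff_of_isAffine (P := MorphismProperty.isomorphisms Scheme)).mpr
    ⟨inferInstance, hiso⟩

end Groth.Agent.Lib.Helper36.IntBirat
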