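import Mathlib.AlgebraicGeometry.Morphisms.QuasiFinite
import Mathlib.AlgebraicGeometry.Morphisms.Finite
import Mathlib.AlgebraicGeometry.Morphisms.UniversallyOpen
import Mathlib.AlgebraicGeometry.Morphisms.Etale
import Groth.Agent.Lib.Helper30.EtaleQuasiFinite
import Groth.Agent.Lib.Helper36.FTPoint
import Groth.Agent.Lib.Helper36.AlgSpCharts
import Groth.Agent.Lib.Helper37.AlgSpPoints

/-!
# Closed points and Jacobson charts (helper36)
-/

universe u

open CategoryTheory CategoryTheory.Limits AlgebraicGeometry TopologicalSpace AlgSp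

namespace Groth.Agent.Lib.Helper36.JacobsonPts

open Groth.Agent.Lib.Helper36.AlgSpCharts Groth.Agent.Lib.Helper37.AlgSpPoints
  Groth.Agent.Lib.Helper36.FTPoint

/-- A point of a fibre of a locally quasi-finite morphism over a closed point is closed. -/
theorem isClosed_singleton_of_lqf {W U : Scheme.{u}} (f : W ⟶ U) [LocallyQuasiFinite f] (w : ↥W)
    (h : IsClosed ({f w} : Set ↥U)) : IsClosed ({w} : Set ↥W) :=
  isClosed_of_subset_discrete_closed (s := {w}) (t := f ⁻¹' {f w})
    (Set.singleton_subset_iff.2 rfl) (f.isDiscrete_preimage_singleton _) (h.preimage f.continuous)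

/-- A point of a fibre of an etale morphism over a closed point is closed. -/
theorem isClosed_singleton_of_etale {W U : Scheme.{u}} (f : W ⟶ U) [Etale f] (w : ↥W)
    (h : IsClosed ({f w} : Set ↥U)) : IsClosed ({w} : Set ↥W) := by
  have := Groth.Agent.Lib.Helper30.locallyQuasiFinite_of_etale f
  exact isClosed_singleton_of_lqf f w h

/-- If two etale charts of a sheaf have points with the same image, the first point being closed
and the second chart being Jacobson, then the second point is closed. -/
theorem isClosed_singleton_of_ofPt_eq {S : Scheme.{u}} {F : Sp S} {U U' : Over S}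
    (a : (yon S).obj U ⟶ F) (a' : (yon S).obj U' ⟶ F) (hae : RepWith @Etale a)
    (hae' : RepWith @Etale a') [JacobsonSpace ↥U.left] (u : ↥U.left) (u' : ↥U'.left)
    (hu' : IsClosed ({u'} : Set ↥U'.left)) (e : Points.ofPt a u = Points.ofPt a' u') :
    IsClosed ({u} : Set ↥U.left) := by
  obtain ⟨W, p1, p2, sq⟩ := exists_isPullback_yon a' a hae.rep
  have h1 : Etale p1.left := prop_fst_of_isPullback sq hae
  have h2 : Etale p2.left := prop_snd_of_isPullback sq hae'
  obtain ⟨w, hw1, hw2⟩ := (ofPt_eq_ofPt_iff sq u' u).1 e.symm
  have hw : IsClosed ({w} : Set ↥W.left) :=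
    isClosed_singleton_of_etale p1.left w (by rw [hw1]; exact hu')
  have := p2.left.closePoints_subset_preimage_closedPoints hw
  rw [← hw2]
  exact this

/-- Descent of closedness of a locally closed point along an etale surjective morphism from a
Jacobson scheme. -/
theorem isClosed_singleton_of_isLocallyClosed_of_etale {W' W : Scheme.{u}} (π : W' ⟶ W) [Etale π]
    [Surjective π] [JacobsonSpace ↥W'] (w : ↥W) (hlc : IsLocallyClosed ({w} : Set ↥W)) :
    IsClosed ({w} : Set ↥W) := by
  have hlqf := Groth.Agent.Lib.Helper30.locallyQuasiFinite_of_etale π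
  have hfib : ∀ w' : ↥W', π w' = w → IsClosed ({w'} : Set ↥W') := by
    intro w' hw'
    apply isClosed_singleton_of_isLocallyClosed_singleton
    obtain ⟨N, hN, hNw⟩ := isDiscrete_iff_forall_mem_exists_isOpen.1
      (π.isDiscrete_preimage_singleton w) w' hw'
    rw [← hNw]
    exact hN.isLocallyClosed.inter (hlc.preimage π.continuous)
  rw [← closure_eq_iff_isClosed]
  refine Set.Subset.antisymm ?_ subset_closure
  intro v hv
  have hs : w ⤳ v := specializes_iff_mem_closure.2 hv
  obtain ⟨v', rfl⟩ := π.surjective v
  obtain ⟨w'', hs', hw''⟩ := (Flat.generalizingMap (f := π)) hs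
  have hcl := hfib w'' hw''
  have : v' ∈ closure ({w''} : Set ↥W') := specializes_iff_mem_closure.1 hs'
  rw [hcl.closure_eq] at this
  rw [Set.mem_singleton_iff.1 this]
  exact hw''

/-- The image of a closed point under a morphism locally of finite type is a locally closed
point. -/
theorem isLocallyClosed_singleton_of_lft {W' W : Scheme.{u}} (π : W' ⟶ W) [LocallyOfFiniteType π]
    (w' : ↥W') (hw' : IsClosed ({w'} : Set ↥W')) : IsLocallyClosed ({π w'} : Set ↥W) := by
  have hcl : IsClosedImmersion (W'.fromSpecResidueField w') :=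
    isClosed_singleton_iff_isClosedImmersion.1 hw'
  let t : Spec (CommRingCat.of ↥(W'.residueField w')) ⟶ W := W'.fromSpecResidueField w' ≫ π
  have : LocallyOfFiniteType t := by
    change LocallyOfFiniteType (W'.fromSpecResidueField w' ≫ π)
    infer_instance
  obtain ⟨O, hO, hcl'⟩ := exists_opens_isClosed_singleton ↥(W'.residueField w') t
  have ht : t (IsLocalRing.closedPoint ↥(W'.residueField w')) = π w' := by
    change (W'.fromSpecResidueField w' ≫ π) _ = _
    rw [Scheme.Hom.comp_apply, Scheme.fromSpecResidueField_apply]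
  have himg := hcl'.isLocallyClosed.image Topology.IsInducing.subtypeVal
    (by rw [Subtype.range_coe]; exact O.2.isLocallyClosed)
  rw [Set.image_singleton] at himg
  rw [← ht]
  exact himg

end Groth.Agent.Lib.Helper36.JacobsonPts
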