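import Groth.Agent.Lib.Helper37.AlgSpFibres
import Groth.Agent.Lib.Helper30.DecentSober

set_option autoImplicit false
universe u
open CategoryTheory CategoryTheory.Limits AlgebraicGeometry TopologicalSpace

namespace Groth.Agent.Lib.Helper36.NormalChart

/-- A point generizing the generic point of an irreducible component is that generic point's
companion: its closure is the component. -/
theorem closure_eq_of_specializes_generic {A : Type*} [TopologicalSpace A] {Z : Set A}
    (hZ : Z ∈ irreducibleComponents A) {η ζ : A} (hη : IsGenericPoint η Z) (h : ζ ⤳ η) :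
    IsGenericPoint ζ Z := by
  have hsub : Z ⊆ closure {ζ} := by
    rw [← hη.def]
    exact closure_minimal (Set.singleton_subset_iff.2 (specializes_iff_mem_closure.1 h))
      isClosed_closure
  have hirr : IsIrreducible (closure ({ζ} : Set A)) := isIrreducible_singleton.closure
  exact le_antisymm (hZ.2 hirr hsub) hsub

/-- At a point whose local ring is a domain, there is only one irreducible component. -/
theorem eq_of_mem_irreducibleComponents_of_isDomain {Y : Scheme.{u}} (y : ↥Y)
    [IsDomain ↥(Y.presheaf.stalk y)] {Z Z' : Set ↥Y} (hZ : Z ∈ irreducibleComponents ↥Y)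
    (hZ' : Z' ∈ irreducibleComponents ↥Y) (hy : y ∈ Z) (hy' : y ∈ Z') : Z = Z' := by
  let ζ₀ : PrimeSpectrum ↥(Y.presheaf.stalk y) := ⟨⊥, Ideal.isPrime_bot⟩
  let ζ : ↥Y := Y.fromSpecStalk y ζ₀
  have key : ∀ W ∈ irreducibleComponents ↥Y, y ∈ W → IsGenericPoint ζ W := by
    intro W hW hyW
    obtain ⟨η, hη⟩ := QuasiSober.sober hW.1 (isClosed_of_mem_irreducibleComponents W hW)
    have hηy : η ⤳ y := by
      rw [specializes_iff_mem_closure, hη.def]; exact hyW
    have : η ∈ Set.range (Y.fromSpecStalk y) := by
      rw [Scheme.range_fromSpecStalk]; exact hηy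
    obtain ⟨s, rfl⟩ := this
    have hs : ζ₀ ⤳ s := (PrimeSpectrum.le_iff_specializes ζ₀ s).1 bot_le
    exact closure_eq_of_specializes_generic hW hη (hs.map (Y.fromSpecStalk y).continuous)
  rw [← (key Z hZ hy).def, ← (key Z' hZ' hy').def]

end Groth.Agent.Lib.Helper36.NormalChart
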