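import Groth.Prelude.Def_ProCons
import Mathlib.Topology.Spectral.ConstructibleTopology
import Mathlib.Topology.Constructible
import Mathlib.Topology.QuasiSeparated
import Mathlib.Topology.Sober
import Mathlib.Tactic

set_option autoImplicit false

open Topology Set
open scoped Set.Notation

namespace Groth.Agent.Lib.Helper36

section Spectral

variable {Z : Type*} [TopologicalSpace Z]

/-- The copy of a subset of `Z` inside `WithConstructibleTopology Z`. -/
def up (s : Set Z) : Set (WithConstructibleTopology Z) := WithTopology.ofTopology ⁻¹' s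

theorem mem_up {s : Set Z} {x : WithConstructibleTopology Z} :
    x ∈ up s ↔ WithTopology.ofTopology x ∈ s := Iff.rfl

theorem up_compl (s : Set Z) : up sᶜ = (up s)ᶜ := rfl

theorem up_inter (s t : Set Z) : up (s ∩ t) = up s ∩ up t := rfl

theorem up_union (s t : Set Z) : up (s ∪ t) = up s ∪ up t := rfl

theorem up_iUnion {ι : Sort*} (s : ι → Set Z) : up (⋃ i, s i) = ⋃ i, up (s i) :=
  preimage_iUnion

theorem up_iInter {ι : Sort*} (s : ι → Set Z) : up (⋂ i, s i) = ⋂ i, up (s i) :=
  preimage_iInter

theorem up_sInter (S : Set (Set Z)) : up (⋂₀ S) = ⋂ s ∈ S, up s :=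
  preimage_sInter

theorem up_sUnion (S : Set (Set Z)) : up (⋃₀ S) = ⋃ s ∈ S, up s :=
  preimage_sUnion

theorem up_subset_up {s t : Set Z} : up s ⊆ up t ↔ s ⊆ t := by
  constructor
  · intro h x hx
    exact h (show WithTopology.toTopology _ x ∈ up s from hx)
  · intro h x hx
    exact h hx

theorem isOpen_up_iff {s : Set Z} : IsOpen (up s) ↔ IsOpen[constructibleTopology Z] s :=
  Iff.rfl

theorem isOpen_up_of_isOpen_of_isCompact {s : Set Z} (ho : IsOpen s) (hc : IsCompact s) :
    IsOpen (up s) :=
  isOpen_up_iff.2 (hc.isOpen_constructibleTopology_of_isOpen ho)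

theorem isClosed_up_of_isOpen_of_isCompact {s : Set Z} (ho : IsOpen s) (hc : IsCompact s) :
    IsClosed (up s) := by
  rw [← isOpen_compl_iff, ← up_compl]
  apply isOpen_up_iff.2
  apply IsCompact.isOpen_constructibleTopology_of_isClosed
  · rw [compl_compl]; exact hc
  · exact ho.isClosed_compl

theorem isClopen_up_of_isConstructible [CompactSpace Z] [QuasiSeparatedSpace Z] {s : Set Z}
    (hs : IsConstructible s) : IsClopen (up s) := by
  induction hs using IsConstructible.empty_union_induction with
  | open_retrocompact U hUopen hUcomp =>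
    exact ⟨isClosed_up_of_isOpen_of_isCompact hUopen hUcomp.isCompact,
      isOpen_up_of_isOpen_of_isCompact hUopen hUcomp.isCompact⟩
  | union s hs t ht ihs iht =>
    rw [up_union]
    exact ihs.union iht
  | compl s hs ih =>
    rw [up_compl]
    exact ih.compl

theorem exists_finset_iInter_subset [CompactSpace Z] [QuasiSober Z]
    [PrespectralSpace Z] [QuasiSeparatedSpace Z] {ι : Type*} (F : ι → Set Z) (G : Set Z)
    (hF : ∀ i, IsClosed (up (F i))) (hG : IsOpen (up G))
    (h : ⋂ i, F i ⊆ G) : ∃ I : Finset ι, ⋂ i ∈ I, F i ⊆ G := by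
  have hcomp : IsCompact (up G)ᶜ := hG.isClosed_compl.isCompact
  have hcover : (up G)ᶜ ⊆ ⋃ i, (up (F i))ᶜ := by
    intro z hz
    by_contra hcon
    apply hz
    apply up_subset_up.2 h
    rw [up_iInter, mem_iInter]
    intro i
    by_contra hi
    exact hcon (mem_iUnion.2 ⟨i, hi⟩)
  obtain ⟨I, hI⟩ := hcomp.elim_finite_subcover (fun i => (up (F i))ᶜ)
    (fun i => (hF i).isOpen_compl) hcover
  refine ⟨I, ?_⟩
  rw [← up_subset_up]
  intro z hz
  by_contra hzG
  have := hI hzG
  rw [mem_iUnion₂] at this
  obtain ⟨i, hiI, hzi⟩ := this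
  apply hzi
  have h2 : (⋂ i ∈ I, F i) ⊆ F i := biInter_subset_of_mem hiI
  exact up_subset_up.2 h2 hz

theorem isConstructible_of_mem_subbasis [QuasiSeparatedSpace Z] {s : Set Z}
    (hs : s ∈ constructibleTopologySubbasis Z) : IsConstructible s := by
  rcases hs with hs | hs
  · exact hs.2.isConstructible hs.1
  · have : IsConstructible sᶜ := hs.2.isConstructible hs.1.isOpen_compl
    exact isConstructible_compl.1 this

theorem exists_isConstructible_subset_of_generateOpen [QuasiSeparatedSpace Z] {s : Set Z}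
    (hs : TopologicalSpace.GenerateOpen (constructibleTopologySubbasis Z) s) {x : Z} (hx : x ∈ s) :
    ∃ C : Set Z, IsConstructible C ∧ x ∈ C ∧ C ⊆ s := by
  induction hs with
  | basic s hs => exact ⟨s, isConstructible_of_mem_subbasis hs, hx, subset_rfl⟩
  | univ => exact ⟨univ, IsConstructible.univ, mem_univ _, subset_rfl⟩
  | inter s t _ _ ihs iht =>
    obtain ⟨C₁, h₁, hx₁, hs₁⟩ := ihs hx.1
    obtain ⟨C₂, h₂, hx₂, hs₂⟩ := iht hx.2
    exact ⟨C₁ ∩ C₂, h₁.inter h₂, ⟨hx₁, hx₂⟩, inter_subset_inter hs₁ hs₂⟩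
  | sUnion S _ ih =>
    obtain ⟨t, htS, hxt⟩ := hx
    obtain ⟨C, hC, hxC, hCt⟩ := ih t htS hxt
    exact ⟨C, hC, hxC, hCt.trans (subset_sUnion_of_mem htS)⟩

theorem exists_isConstructible_subset_of_isOpen_up [QuasiSeparatedSpace Z] {s : Set Z}
    (hs : IsOpen (up s)) {x : Z} (hx : x ∈ s) :
    ∃ C : Set Z, IsConstructible C ∧ x ∈ C ∧ C ⊆ s :=
  exists_isConstructible_subset_of_generateOpen (isOpen_up_iff.1 hs) hx

theorem isConstructible_of_isClopen_up [CompactSpace Z] [QuasiSober Z]
    [PrespectralSpace Z] [QuasiSeparatedSpace Z] {s : Set Z} (hs : IsClopen (up s)) :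
    IsConstructible s := by
  choose! C hC hxC hCs using fun (x : Z) (hx : x ∈ s) =>
    exists_isConstructible_subset_of_isOpen_up hs.2 hx
  have hcomp : IsCompact (up s) := hs.1.isCompact
  have hcover : up s ⊆ ⋃ x : s, up (C x) := by
    intro z hz
    rw [mem_iUnion]
    exact ⟨⟨WithTopology.ofTopology z, hz⟩, hxC _ hz⟩
  obtain ⟨I, hI⟩ := hcomp.elim_finite_subcover (fun x : s => up (C x))
    (fun x => (isClopen_up_of_isConstructible (hC x x.2)).2) hcover
  have hEq : s = ⋃ x ∈ I, C (x : Z) := by
    apply subset_antisymm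
    · intro z hz
      have := hI (show WithTopology.toTopology _ z ∈ up s from hz)
      rw [mem_iUnion₂] at this ⊢
      obtain ⟨x, hxI, hzx⟩ := this
      exact ⟨x, hxI, hzx⟩
    · intro z hz
      rw [mem_iUnion₂] at hz
      obtain ⟨x, _, hzx⟩ := hz
      exact hCs x x.2 hzx
  rw [hEq]
  exact IsConstructible.biUnion I.finite_toSet (fun x _ => hC x x.2)

end Spectral

section Ambient

variable {X : Type*} [TopologicalSpace X]

/-- A "good" open subset: open, compact and quasi-separated (e.g. an affine open of a scheme). -/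
structure IsGoodOpen (W : Set X) : Prop where
  isOpen : IsOpen W
  isCompact : IsCompact W
  isQuasiSeparated : IsQuasiSeparated W

namespace IsGoodOpen

variable {W V U : Set X}

theorem compactSpace (hW : IsGoodOpen W) : CompactSpace W :=
  isCompact_iff_compactSpace.1 hW.isCompact

theorem quasiSeparatedSpace (hW : IsGoodOpen W) : QuasiSeparatedSpace W :=
  (isQuasiSeparated_iff_quasiSeparatedSpace W hW.isOpen).1 hW.isQuasiSeparated

theorem quasiSober [QuasiSober X] (hW : IsGoodOpen W) : QuasiSober W :=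
  hW.isOpen.isOpenEmbedding_subtypeVal.quasiSober

theorem prespectralSpace [PrespectralSpace X] (hW : IsGoodOpen W) : PrespectralSpace W :=
  hW.isOpen.isOpenEmbedding_subtypeVal.prespectralSpace

theorem of_subset (hW : IsGoodOpen W) (hVo : IsOpen V) (hVc : IsCompact V) (hVW : V ⊆ W) :
    IsGoodOpen V :=
  ⟨hVo, hVc, hW.isQuasiSeparated.of_subset hVW⟩

/-- In a prespectral space, every neighbourhood inside a good open contains a good open
neighbourhood. -/
theorem exists_subset [PrespectralSpace X] (hW : IsGoodOpen W) {x : X} (hxW : x ∈ W)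
    (hU : IsOpen U) (hxU : x ∈ U) : ∃ V, IsGoodOpen V ∧ x ∈ V ∧ V ⊆ U ∧ V ⊆ W := by
  obtain ⟨V, ⟨hVo, hVc⟩, hxV, hVUW⟩ :=
    (PrespectralSpace.isTopologicalBasis (X := X)).exists_subset_of_mem_open
      (show x ∈ U ∩ W from ⟨hxU, hxW⟩) (hU.inter hW.isOpen)
  exact ⟨V, hW.of_subset hVo hVc (hVUW.trans inter_subset_right), hxV,
    hVUW.trans inter_subset_left, hVUW.trans inter_subset_right⟩

end IsGoodOpen

/-- Transfer of constructibility from a smaller good open to a bigger one. -/
theorem isConstructible_preimage_inter_of_subset {W V : Set X} (hW : IsGoodOpen W)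
    (hV : IsGoodOpen V) (hVW : V ⊆ W) {A : Set X} (hA : IsConstructible (V ↓∩ A)) :
    IsConstructible (W ↓∩ (A ∩ V)) := by
  haveI := hW.quasiSeparatedSpace
  have hopen : IsOpenEmbedding (inclusion hVW) :=
    IsOpenEmbedding.inclusion hVW (hV.isOpen.preimage continuous_subtype_val)
  have hrange : range (inclusion hVW) = W ↓∩ V := by
    ext z
    constructor
    · rintro ⟨v, rfl⟩
      exact v.2
    · intro hz
      exact ⟨⟨z.1, hz⟩, rfl⟩
  have hcompact : IsCompact (W ↓∩ V) := by
    rw [← hrange]
    haveI := hV.compactSpace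
    exact isCompact_range hopen.continuous
  have hretro : IsRetrocompact (range (inclusion hVW)) := by
    rw [hrange]
    exact hcompact.isRetrocompact (hV.isOpen.preimage continuous_subtype_val)
  have himage : inclusion hVW '' (V ↓∩ A) = W ↓∩ (A ∩ V) := by
    ext z
    constructor
    · rintro ⟨v, hv, rfl⟩
      exact ⟨hv, v.2⟩
    · rintro ⟨hzA, hzV⟩
      exact ⟨⟨z.1, hzV⟩, hzA, rfl⟩
  rw [← himage]
  exact hA.image_of_isOpenEmbedding hopen hretro

/-- A locally constructible subset of an open `U`, restricted to a good open `V ⊆ U`, is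
constructible in `V`. -/
theorem isConstructible_preimage_image_val [PrespectralSpace X] {U V : Set X}
    (hV : IsGoodOpen V) (hVU : V ⊆ U) {T : Set U} (hT : IsLocallyConstructible T) :
    IsConstructible (V ↓∩ (Subtype.val '' T)) := by
  haveI := hV.quasiSeparatedSpace
  haveI := hV.compactSpace
  haveI := hV.prespectralSpace
  have hopen : IsOpenEmbedding (inclusion hVU) :=
    IsOpenEmbedding.inclusion hVU (hV.isOpen.preimage continuous_subtype_val)
  have hpre : inclusion hVU ⁻¹' T = V ↓∩ (Subtype.val '' T) := by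
    ext v
    constructor
    · intro hv
      exact ⟨inclusion hVU v, hv, rfl⟩
    · rintro ⟨t, ht, hte⟩
      have : t = inclusion hVU v := Subtype.ext hte
      show inclusion hVU v ∈ T
      rw [← this]
      exact ht
  rw [← hpre]
  exact (hT.preimage_of_isOpenEmbedding hopen).isConstructible

theorem isLocallyConstructible_compl {Y : Type*} [TopologicalSpace Y] {s : Set Y}
    (hs : IsLocallyConstructible s) : IsLocallyConstructible sᶜ := by
  intro x
  obtain ⟨U, hU, hUo, hUs⟩ := hs x
  refine ⟨U, hU, hUo, ?_⟩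
  show IsConstructible ((U : Set Y) ↓∩ s)ᶜ
  exact hUs.compl

/-- Key local statement: a point of a locally constructible subset `T` of an open `U` has, inside
any good open `W`, a neighbourhood for the constructible topology of `W` contained in `T`. -/
theorem exists_isConstructible_subset_image_val [PrespectralSpace X] {U W : Set X}
    (hU : IsOpen U) (hW : IsGoodOpen W) {T : Set U} (hT : IsLocallyConstructible T)
    {x : X} (hxW : x ∈ W) (hxU : x ∈ U) (hxT : (⟨x, hxU⟩ : U) ∈ T) :
    ∃ C : Set X, IsConstructible (W ↓∩ C) ∧ x ∈ C ∧ C ⊆ Subtype.val '' T := by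
  obtain ⟨V, hV, hxV, hVU, hVW⟩ := hW.exists_subset hxW hU hxU
  refine ⟨Subtype.val '' T ∩ V, ?_, ⟨⟨⟨x, hxU⟩, hxT, rfl⟩, hxV⟩, inter_subset_left⟩
  exact isConstructible_preimage_inter_of_subset hW hV hVW
    (isConstructible_preimage_image_val hV hVU hT)

/-- An ind-constructible set meets every good open in an open set of its constructible
topology. -/
theorem isOpen_up_of_isIndConstructible [PrespectralSpace X] {E : Set X}
    (hE : ProCons.IsIndConstructible E) {W : Set X} (hW : IsGoodOpen W) :
    IsOpen (up (W ↓∩ E)) := by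
  haveI := hW.quasiSeparatedSpace
  haveI := hW.compactSpace
  rw [isOpen_iff_forall_mem_open]
  intro z hz
  set w : W := WithTopology.ofTopology z with hw
  have hwE : (w : X) ∈ E := hz
  obtain ⟨U, hUo, hxU, S, hS, hES⟩ := hE (w : X)
  have hmem : (⟨(w : X), hxU⟩ : U) ∈ (Subtype.val ⁻¹' E : Set U) := hwE
  rw [hES] at hmem
  obtain ⟨T, hTS, hxT⟩ := hmem
  obtain ⟨C, hC, hxC, hCT⟩ :=
    exists_isConstructible_subset_image_val hUo hW (hS T hTS) w.2 hxU hxT
  refine ⟨up (W ↓∩ C), ?_, (isClopen_up_of_isConstructible hC).2, hxC⟩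
  apply up_subset_up.2
  intro v hv
  obtain ⟨t, ht, hte⟩ := hCT hv
  have h1 : t ∈ (Subtype.val ⁻¹' E : Set U) := by
    rw [hES]
    exact ⟨T, hTS, ht⟩
  have h2 : (t : X) ∈ E := h1
  rw [hte] at h2
  exact h2

/-- A pro-constructible set meets every good open in a closed set of its constructible
topology. -/
theorem isClosed_up_of_isProConstructible [PrespectralSpace X] {F : Set X}
    (hF : ProCons.IsProConstructible F) {W : Set X} (hW : IsGoodOpen W) :
    IsClosed (up (W ↓∩ F)) := by
  haveI := hW.quasiSeparatedSpace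
  haveI := hW.compactSpace
  rw [← isOpen_compl_iff, isOpen_iff_forall_mem_open]
  intro z hz
  set w : W := WithTopology.ofTopology z with hw
  have hwF : (w : X) ∉ F := hz
  obtain ⟨U, hUo, hxU, S, hS, hFS⟩ := hF (w : X)
  have hmem : (⟨(w : X), hxU⟩ : U) ∉ (Subtype.val ⁻¹' F : Set U) := hwF
  rw [hFS, mem_sInter] at hmem
  push_neg at hmem
  obtain ⟨T, hTS, hxT⟩ := hmem
  obtain ⟨C, hC, hxC, hCT⟩ :=
    exists_isConstructible_subset_image_val hUo hW (isLocallyConstructible_compl (hS T hTS))
      w.2 hxU (show (⟨(w : X), hxU⟩ : U) ∈ Tᶜ from hxT)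
  refine ⟨up (W ↓∩ C), ?_, (isClopen_up_of_isConstructible hC).2, hxC⟩
  rw [← up_compl]
  apply up_subset_up.2
  intro v hv hvF
  obtain ⟨t, ht, hte⟩ := hCT hv
  have h1 : t ∈ (Subtype.val ⁻¹' F : Set U) := by
    show (t : X) ∈ F
    rw [hte]
    exact hvF
  rw [hFS, mem_sInter] at h1
  exact ht (h1 T hTS)

/-- Locally constructible sets are ind-constructible (any topological space). -/
theorem isIndConstructible_of_isLocallyConstructible {E : Set X}
    (hE : IsLocallyConstructible E) : ProCons.IsIndConstructible E := by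
  intro x
  refine ⟨univ, isOpen_univ, mem_univ x, {Subtype.val ⁻¹' E}, ?_, ?_⟩
  · intro T hT
    rw [mem_singleton_iff] at hT
    rw [hT]
    exact hE.preimage_of_isOpenEmbedding isOpen_univ.isOpenEmbedding_subtypeVal
  · rw [sUnion_singleton]

/-- Locally constructible sets are pro-constructible (any topological space). -/
theorem isProConstructible_of_isLocallyConstructible {E : Set X}
    (hE : IsLocallyConstructible E) : ProCons.IsProConstructible E := by
  intro x
  refine ⟨univ, isOpen_univ, mem_univ x, {Subtype.val ⁻¹' E}, ?_, ?_⟩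
  · intro T hT
    rw [mem_singleton_iff] at hT
    rw [hT]
    exact hE.preimage_of_isOpenEmbedding isOpen_univ.isOpenEmbedding_subtypeVal
  · rw [sInter_singleton]

/-- A set that is both ind- and pro-constructible is locally constructible, in a space covered
by good opens (e.g. a scheme). -/
theorem isLocallyConstructible_of_ind_of_pro [PrespectralSpace X] [QuasiSober X]
    (hcov : ∀ x : X, ∃ W : Set X, IsGoodOpen W ∧ x ∈ W) {E : Set X}
    (hind : ProCons.IsIndConstructible E) (hpro : ProCons.IsProConstructible E) :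
    IsLocallyConstructible E := by
  intro x
  obtain ⟨W, hW, hxW⟩ := hcov x
  haveI := hW.quasiSeparatedSpace
  haveI := hW.compactSpace
  haveI := hW.prespectralSpace
  haveI := hW.quasiSober
  refine ⟨W, hW.isOpen.mem_nhds hxW, hW.isOpen, ?_⟩
  exact isConstructible_of_isClopen_up
    ⟨isClosed_up_of_isProConstructible hpro hW, isOpen_up_of_isIndConstructible hind hW⟩

theorem isLocallyConstructible_iff_ind_and_pro [PrespectralSpace X] [QuasiSober X]
    (hcov : ∀ x : X, ∃ W : Set X, IsGoodOpen W ∧ x ∈ W) {E : Set X} :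
    IsLocallyConstructible E ↔ ProCons.IsIndConstructible E ∧ ProCons.IsProConstructible E :=
  ⟨fun h => ⟨isIndConstructible_of_isLocallyConstructible h,
    isProConstructible_of_isLocallyConstructible h⟩,
    fun h => isLocallyConstructible_of_ind_of_pro hcov h.1 h.2⟩

/-- Compactness for the constructible topology, inside one good open. -/
theorem exists_finset_iInter_inter_subset [PrespectralSpace X] [QuasiSober X]
    {W : Set X} (hW : IsGoodOpen W) {E : Set X} (hE : ProCons.IsIndConstructible E)
    {ι : Type*} (F : ι → Set X) (hF : ∀ i, ProCons.IsProConstructible (F i))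
    (h : (⋂ i, F i) ∩ W ⊆ E) : ∃ J : Finset ι, (⋂ i ∈ J, F i) ∩ W ⊆ E := by
  haveI := hW.quasiSeparatedSpace
  haveI := hW.compactSpace
  haveI := hW.prespectralSpace
  haveI := hW.quasiSober
  obtain ⟨J, hJ⟩ := exists_finset_iInter_subset (fun i => W ↓∩ F i) (W ↓∩ E)
    (fun i => isClosed_up_of_isProConstructible (hF i) hW)
    (isOpen_up_of_isIndConstructible hE hW) (by
      intro w hw
      rw [mem_iInter] at hw
      apply h
      refine ⟨?_, w.2⟩
      rw [mem_iInter]
      exact hw)
  refine ⟨J, ?_⟩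
  rintro x ⟨hxF, hxW⟩
  have : (⟨x, hxW⟩ : W) ∈ ⋂ i ∈ J, W ↓∩ F i := by
    rw [mem_iInter₂] at hxF ⊢
    exact hxF
  exact hJ this

/-- Compactness for the constructible topology on a quasi-compact space covered by good opens:
if an intersection of pro-constructible sets lies in an ind-constructible set, so does a finite
sub-intersection. -/
theorem exists_finset_iInter_subset_of_compactSpace [CompactSpace X] [PrespectralSpace X]
    [QuasiSober X] (hcov : ∀ x : X, ∃ W : Set X, IsGoodOpen W ∧ x ∈ W) {E : Set X}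
    (hE : ProCons.IsIndConstructible E) {ι : Type*} (F : ι → Set X)
    (hF : ∀ i, ProCons.IsProConstructible (F i)) (h : ⋂ i, F i ⊆ E) :
    ∃ J : Finset ι, ⋂ i ∈ J, F i ⊆ E := by
  classical
  choose W hW hxW using hcov
  obtain ⟨t, ht⟩ := isCompact_univ.elim_finite_subcover W (fun x => (hW x).isOpen)
    (fun x _ => mem_iUnion.2 ⟨x, hxW x⟩)
  have hJ : ∀ x : X, ∃ J : Finset ι, (⋂ i ∈ J, F i) ∩ W x ⊆ E := fun x =>
    exists_finset_iInter_inter_subset (hW x) hE F hF (inter_subset_left.trans h)
  choose J hJ using hJ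
  refine ⟨t.biUnion J, ?_⟩
  intro y hy
  have hyt := ht (mem_univ y)
  rw [mem_iUnion₂] at hyt
  obtain ⟨x, hxt, hyx⟩ := hyt
  apply hJ x
  refine ⟨?_, hyx⟩
  rw [mem_iInter₂] at hy ⊢
  intro i hi
  exact hy i (Finset.mem_biUnion.2 ⟨x, hxt, hi⟩)

/-- In a space covered by good opens, a point is interior to an ind-constructible set iff all
its generizations belong to the set. -/
theorem mem_interior_iff_of_isIndConstructible [PrespectralSpace X] [QuasiSober X]
    (hcov : ∀ x : X, ∃ W : Set X, IsGoodOpen W ∧ x ∈ W) {E : Set X}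
    (hE : ProCons.IsIndConstructible E) (x : X) :
    x ∈ interior E ↔ ∀ x' : X, x' ⤳ x → x' ∈ E := by
  constructor
  · intro hx x' hx'
    exact interior_subset (hx'.mem_open isOpen_interior hx)
  · intro hgen
    obtain ⟨W, hW, hxW⟩ := hcov x
    haveI := hW.quasiSeparatedSpace
    haveI := hW.compactSpace
    haveI := hW.prespectralSpace
    haveI := hW.quasiSober
    -- the family of compact open neighbourhoods of `x` inside `W`
    let ι := {V : Set X // IsOpen V ∧ IsCompact V ∧ x ∈ V ∧ V ⊆ W}
    have hclosed : ∀ V : ι, IsClosed (up (W ↓∩ (V : Set X))) := by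
      intro V
      apply isClosed_up_of_isOpen_of_isCompact
      · exact V.2.1.preimage continuous_subtype_val
      · rw [Subtype.isCompact_iff, Subtype.image_preimage_coe,
          inter_eq_self_of_subset_right V.2.2.2.2]
        exact V.2.2.1
    have hsub : ⋂ V : ι, W ↓∩ (V : Set X) ⊆ W ↓∩ E := by
      intro w hw
      rw [mem_iInter] at hw
      apply hgen
      rw [specializes_iff_forall_open]
      intro s hs hxs
      obtain ⟨V, hV, hxV, hVs, hVW⟩ := hW.exists_subset hxW hs hxs
      exact hVs (hw ⟨V, hV.isOpen, hV.isCompact, hxV, hVW⟩)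
    obtain ⟨J, hJ⟩ := exists_finset_iInter_subset (fun V : ι => W ↓∩ (V : Set X)) (W ↓∩ E)
      hclosed (isOpen_up_of_isIndConstructible hE hW) hsub
    rw [mem_interior]
    refine ⟨(⋂ V ∈ J, (V : Set X)) ∩ W, ?_, ?_, ?_⟩
    · rintro y ⟨hyJ, hyW⟩
      have : (⟨y, hyW⟩ : W) ∈ ⋂ V ∈ J, W ↓∩ (V : Set X) := by
        rw [mem_iInter₂] at hyJ ⊢
        exact hyJ
      exact hJ this
    · exact (isOpen_biInter_finset (fun V _ => V.2.1)).inter hW.isOpen
    · refine ⟨?_, hxW⟩
      rw [mem_iInter₂]
      intro V _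
      exact V.2.2.2.1

end Ambient

end Groth.Agent.Lib.Helper36
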