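import Groth.Agent.Lib.Helper36.ProCons2
import Mathlib.RingTheory.Spectrum.Prime.Topology
import Mathlib.RingTheory.LocalRing.ResidueField.Ideal

set_option autoImplicit false

open Topology Set
open scoped Set.Notation

namespace Groth.Agent.Lib.Helper36

universe u

section PiRes

variable {A : Type u} [CommRing A] (E : Set (PrimeSpectrum A))

/-- The product of the residue fields of the points of `E`. -/
abbrev PiRes : Type u := ∀ p : E, p.1.asIdeal.ResidueField

/-- The canonical map to the product of residue fields. -/
noncomputable def piResHom : A →+* PiRes E :=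
  Pi.ringHom (fun p => algebraMap A p.1.asIdeal.ResidueField)

theorem piResHom_apply (a : A) (p : E) :
    piResHom E a p = algebraMap A p.1.asIdeal.ResidueField a := rfl

open Classical in
/-- Indicator idempotents. -/
noncomputable def ind (S : Set E) : PiRes E := fun p => if p ∈ S then 1 else 0

variable {E}

theorem ind_mul (S T : Set E) : ind E S * ind E T = ind E (S ∩ T) := by
  classical
  funext p
  simp only [ind, Pi.mul_apply, mem_inter_iff]
  by_cases h1 : p ∈ S <;> by_cases h2 : p ∈ T <;> simp [h1, h2]

theorem ind_univ : ind E univ = 1 := by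
  classical
  funext p
  simp [ind]

theorem ind_empty : ind E ∅ = 0 := by
  classical
  funext p
  simp [ind]

theorem ind_add_compl (S : Set E) : ind E S + ind E Sᶜ = 1 := by
  classical
  funext p
  simp only [ind, Pi.add_apply, mem_compl_iff, Pi.one_apply]
  by_cases h1 : p ∈ S <;> simp [h1]

/-- Every point of `E` is in the image of `Spec (PiRes E)`. -/
theorem mem_range_comap_piResHom {p : PrimeSpectrum A} (hp : p ∈ E) :
    p ∈ range (PrimeSpectrum.comap (piResHom E)) := by
  let ev : PiRes E →+* p.asIdeal.ResidueField := Pi.evalRingHom _ (⟨p, hp⟩ : E)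
  refine ⟨⟨RingHom.ker ev, RingHom.ker_isPrime ev⟩, ?_⟩
  apply PrimeSpectrum.ext
  rw [PrimeSpectrum.comap_asIdeal]
  show Ideal.comap (piResHom E) (RingHom.ker ev) = p.asIdeal
  rw [RingHom.comap_ker]
  have : ev.comp (piResHom E) = algebraMap A p.asIdeal.ResidueField := rfl
  rw [this, Ideal.ker_algebraMap_residueField]

/-- Key closure property: the image of `Spec (PiRes E)` lies in every set that contains `E` and is
closed for the constructible topology. -/
theorem comap_piResHom_mem (hE : IsClosed (up E)) (Q : PrimeSpectrum (PiRes E)) :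
    PrimeSpectrum.comap (piResHom E) Q ∈ E := by
  classical
  by_contra hq
  set q := PrimeSpectrum.comap (piResHom E) Q with hqdef
  have hmem : ∀ a : A, a ∈ q.asIdeal ↔ piResHom E a ∈ Q.asIdeal := fun a => Iff.rfl
  -- the predicate propagated along the generation of the constructible topology
  let P : Set (PrimeSpectrum A) → Prop := fun s =>
    q ∈ s → ∃ S : Set E, ind E S ∉ Q.asIdeal ∧ ∀ p ∈ S, (p : PrimeSpectrum A) ∈ s
  have hPinter : ∀ s t, P s → P t → P (s ∩ t) := by
    intro s t hs ht hqst
    obtain ⟨S, hS, hSs⟩ := hs hqst.1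
    obtain ⟨T, hT, hTt⟩ := ht hqst.2
    refine ⟨S ∩ T, ?_, fun p hp => ⟨hSs p hp.1, hTt p hp.2⟩⟩
    rw [← ind_mul]
    intro hmul
    rcases Q.isPrime.mem_or_mem hmul with h | h
    · exact hS h
    · exact hT h
  have hPuniv : P univ := by
    intro _
    refine ⟨univ, ?_, fun p _ => mem_univ _⟩
    rw [ind_univ]
    exact fun h => Q.isPrime.ne_top ((Ideal.eq_top_iff_one _).2 h)
  -- basic closed sets `V(g)`
  have hPzero : ∀ g : A, P (PrimeSpectrum.zeroLocus {g}) := by
    intro g hg
    have hgq : g ∈ q.asIdeal := by
      simpa [PrimeSpectrum.mem_zeroLocus] using hg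
    refine ⟨{p : E | g ∈ p.1.asIdeal}, ?_, ?_⟩
    · intro hind
      have hcompl : ind E {p : E | g ∈ p.1.asIdeal}ᶜ ∈ Q.asIdeal := by
        have : ind E {p : E | g ∈ p.1.asIdeal}ᶜ =
            piResHom E g * (fun p => (piResHom E g p)⁻¹) := by
          funext p
          simp only [ind, mem_compl_iff, mem_setOf_eq, Pi.mul_apply, piResHom_apply]
          by_cases hgp : g ∈ p.1.asIdeal
          · simp [hgp, Ideal.algebraMap_residueField_eq_zero.2 hgp]
          · have hne : algebraMap A p.1.asIdeal.ResidueField g ≠ 0 := fun h0 =>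
              hgp (Ideal.algebraMap_residueField_eq_zero.1 h0)
            simp [hgp, mul_inv_cancel₀ hne]
        rw [this]
        exact Q.asIdeal.mul_mem_right _ ((hmem g).1 hgq)
      have h1 : (1 : PiRes E) ∈ Q.asIdeal := by
        rw [← ind_add_compl {p : E | g ∈ p.1.asIdeal}]
        exact Q.asIdeal.add_mem hind hcompl
      exact Q.isPrime.ne_top ((Ideal.eq_top_iff_one _).2 h1)
    · intro p hp
      simpa [PrimeSpectrum.mem_zeroLocus] using hp
  have hPzeroFin : ∀ t : Finset A, P (PrimeSpectrum.zeroLocus (t : Set A)) := by
    intro t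
    induction t using Finset.induction_on with
    | empty =>
      simpa using hPuniv
    | insert g t _ ih =>
      have : PrimeSpectrum.zeroLocus ((insert g t : Finset A) : Set A) =
          PrimeSpectrum.zeroLocus {g} ∩ PrimeSpectrum.zeroLocus (t : Set A) := by
        rw [Finset.coe_insert, Set.insert_eq, PrimeSpectrum.zeroLocus_union]
      rw [this]
      exact hPinter _ _ (hPzero g) ih
  have hPgen : ∀ s, TopologicalSpace.GenerateOpen
      (constructibleTopologySubbasis (PrimeSpectrum A)) s → P s := by
    intro s hs
    induction hs with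
    | basic s hs =>
      rcases hs with hs | hs
      · -- compact open
        obtain ⟨t, rfl⟩ := PrimeSpectrum.isCompact_isOpen_iff.1 ⟨hs.2, hs.1⟩
        intro hqs
        have : ∃ f ∈ t, f ∉ q.asIdeal := by
          by_contra hcon
          push_neg at hcon
          exact hqs (fun f hf => hcon f hf)
        obtain ⟨f, hft, hfq⟩ := this
        refine ⟨{p : E | f ∉ p.1.asIdeal}, ?_, ?_⟩
        · intro hind
          apply hfq
          rw [hmem]
          have : piResHom E f = piResHom E f * ind E {p : E | f ∉ p.1.asIdeal} := by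
            funext p
            simp only [ind, mem_setOf_eq, Pi.mul_apply, piResHom_apply]
            by_cases hfp : f ∈ p.1.asIdeal
            · simp [hfp, Ideal.algebraMap_residueField_eq_zero.2 hfp]
            · simp [hfp]
          rw [this]
          exact Q.asIdeal.mul_mem_left _ hind
        · intro p hp hpz
          exact hp (hpz hft)
      · -- complement of a compact open
        obtain ⟨t, ht⟩ := PrimeSpectrum.isCompact_isOpen_iff.1 ⟨hs.2, hs.1.isOpen_compl⟩
        have : s = PrimeSpectrum.zeroLocus (t : Set A) := by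
          rw [← compl_compl s, ← ht, compl_compl]
        rw [this]
        exact hPzeroFin t
    | univ => exact hPuniv
    | inter s t _ _ ihs iht => exact hPinter s t ihs iht
    | sUnion S _ ih =>
      rintro ⟨s, hsS, hqs⟩
      obtain ⟨T, hT, hTs⟩ := ih s hsS hqs
      exact ⟨T, hT, fun p hp => ⟨s, hsS, hTs p hp⟩⟩
  have hopen : IsOpen (up Eᶜ) := by
    rw [up_compl]
    exact hE.isOpen_compl
  obtain ⟨S, hS, hSE⟩ := hPgen Eᶜ (isOpen_up_iff.1 hopen) hq
  have hSempty : S = ∅ := by
    ext p
    simp only [mem_empty_iff_false, iff_false]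
    intro hp
    exact hSE p hp p.2
  rw [hSempty, ind_empty] at hS
  exact hS Q.asIdeal.zero_mem

/-- A subset of `Spec A` closed for the constructible topology is the image of `Spec` of the
product of the residue fields of its points. -/
theorem range_comap_piResHom (hE : IsClosed (up E)) :
    range (PrimeSpectrum.comap (piResHom E)) = E := by
  apply subset_antisymm
  · rintro _ ⟨Q, rfl⟩
    exact comap_piResHom_mem hE Q
  · intro p hp
    exact mem_range_comap_piResHom hp

end PiRes

end Groth.Agent.Lib.Helper36
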