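import Groth.Agent.Lib.Helper36.ProConsScheme2
import Groth.Agent.Lib.Helper36.ProConsAffine
import Groth.Agent.S15542
import Mathlib.AlgebraicGeometry.Limits

set_option autoImplicit false

open Topology Set AlgebraicGeometry CategoryTheory
open scoped Set.Notation

namespace Groth.Agent.Lib.Helper36

universe u

/-- A pro-constructible subset of `Spec A` is the image of an affine scheme. -/
theorem exists_affine_range_eq_of_isProConstructible_Spec (A : CommRingCat.{u})
    {E : Set (Spec A)} (hE : ProCons.IsProConstructible E) :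
    ∃ (B : CommRingCat.{u}) (φ : A ⟶ B), range (Spec.map φ).base = E := by
  have hcl : IsClosed (up (Z := PrimeSpectrum A) E) :=
    isClosed_up_of_isProConstructible_of_spectral (X := PrimeSpectrum A) hE
  refine ⟨CommRingCat.of (PiRes (A := A) E), CommRingCat.ofHom (piResHom (A := A) E), ?_⟩
  exact range_comap_piResHom (A := A) hcl

/-- For an affine open `U` of a scheme `X` and a pro-constructible `E ⊆ X`, the set `E ∩ U` is the
image of an affine scheme. -/
theorem exists_affine_range_eq_inter {X : Scheme.{u}} {U : X.Opens} (hU : IsAffineOpen U)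
    {E : Set X} (hE : ProCons.IsProConstructible E) :
    ∃ (Y : Scheme.{u}) (g : Y ⟶ X), IsAffine Y ∧ range g.base = E ∩ U := by
  obtain ⟨B, φ, hφ⟩ := exists_affine_range_eq_of_isProConstructible_Spec Γ(X, U)
    (Groth.Agent.S15542.result hU.fromSpec E hE)
  refine ⟨Spec B, Spec.map φ ≫ hU.fromSpec, inferInstance, ?_⟩
  have h1 : range (Spec.map φ ≫ hU.fromSpec).base =
      hU.fromSpec.base '' range (Spec.map φ).base := by
    rw [← range_comp]
    rfl
  rw [h1, hφ, image_preimage_eq_inter_range]
  congr 1
  exact hU.range_fromSpec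

/-- On a quasi-compact scheme, every pro-constructible subset is the image of an affine scheme. -/
theorem exists_affine_range_eq {X : Scheme.{u}} [CompactSpace X] {E : Set X}
    (hE : ProCons.IsProConstructible E) :
    ∃ (X' : Scheme.{u}) (f : X' ⟶ X), IsAffine X' ∧ range f.base = E := by
  obtain ⟨s, hs, hsU⟩ := isCompact_and_isOpen_iff_finite_and_eq_biUnion_affineOpens.1
    ⟨isCompact_univ (X := X), isOpen_univ⟩
  choose Y g hY hg using fun U : s => exists_affine_range_eq_inter U.1.2 hE
  haveI : Finite s := hs.to_subtype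
  refine ⟨∐ Y, Limits.Sigma.desc g, inferInstance, ?_⟩
  have hdesc : ∀ (i : s) (z : Y i),
      (Limits.Sigma.desc g).base ((Limits.Sigma.ι Y i).base z) = (g i).base z := by
    intro i z
    rw [← Scheme.Hom.comp_apply, Limits.Sigma.ι_desc]
  ext x
  constructor
  · rintro ⟨y, rfl⟩
    obtain ⟨⟨i, z⟩, rfl⟩ := (sigmaMk Y).surjective y
    rw [sigmaMk_mk]
    have h2 := hdesc i z
    have h3 : (g i).base z ∈ E ∩ (i.1 : X.Opens) := by
      rw [← hg i]
      exact ⟨z, rfl⟩
    exact h2 ▸ h3.1
  · intro hx
    have hxu : x ∈ (univ : Set X) := mem_univ x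
    rw [hsU] at hxu
    obtain ⟨U, hU, hxU⟩ := mem_iUnion₂.1 hxu
    have hxr : x ∈ range (g ⟨U, hU⟩).base := by
      rw [hg]
      exact ⟨hx, hxU⟩
    obtain ⟨z, rfl⟩ := hxr
    exact ⟨(Limits.Sigma.ι Y ⟨U, hU⟩).base z, hdesc ⟨U, hU⟩ z⟩

/-- EGA IV 1.9.5 (ix): on a quasi-compact quasi-separated scheme, the pro-constructible subsets are
exactly the images of affine schemes. -/
theorem scheme_isProConstructible_iff_exists_affine (X : Scheme.{u}) [CompactSpace X]
    [QuasiSeparatedSpace X] (E : Set X) :
    ProCons.IsProConstructible E ↔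
      ∃ (X' : Scheme.{u}) (f : X' ⟶ X), IsAffine X' ∧ range f.base = E := by
  constructor
  · exact exists_affine_range_eq
  · rintro ⟨X', f, hX', rfl⟩
    rw [← image_univ]
    exact scheme_isProConstructible_image f
      (isProConstructible_of_isLocallyConstructible IsLocallyConstructible.univ)

end Groth.Agent.Lib.Helper36
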