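import Groth.Agent.Lib.Helper36.AlgSpHasAt
import Groth.Agent.Lib.Helper30.SmoothLocal

/-!
# Reducedness of the local rings is an étale-local property of germs (helper36)
-/

universe u

open CategoryTheory CategoryTheory.Limits AlgebraicGeometry Opposite

namespace Groth.Agent.Lib.Helper36.AlgSpHasAt

open AlgSp

theorem isEtaleLocalGerm_isReduced_stalk :
    IsEtaleLocalGerm.{u} (fun U u => _root_.IsReduced ↥(U.presheaf.stalk u)) := by
  intro R U g _ r
  exact Groth.Agent.Lib.Helper30.SmoothLocal.stalk_reduced_iff_of_smoothAt g r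
    (by rw [g.smoothLocus_eq_top]; trivial)

end Groth.Agent.Lib.Helper36.AlgSpHasAt
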