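import Groth.Agent.Lib.Helper57.EtRes5

set_option autoImplicit false
universe u
open CategoryTheory CategoryTheory.Limits AlgebraicGeometry TopologicalSpace

namespace Groth.Agent.Lib.Helper36.UnivInjEt

open AlgebraicGeometry.Scheme.Pullback

/-- The spectrum of a ring map which is an epimorphism towards fields is universally injective. -/
theorem universallyInjective_SpecMap_of_epi {k K : CommRingCat.{u}} (φ : k ⟶ K)
    (h : ∀ (L : Type u) [Field L] (ψ₁ ψ₂ : K ⟶ CommRingCat.of L), φ ≫ ψ₁ = φ ≫ ψ₂ → ψ₁ = ψ₂) :
    UniversallyInjective (Spec.map φ) := by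
  refine ((tfae_universallyInjective (Spec.map φ)).out 0 1).2 ?_
  intro L _ g₁ g₂ hg
  dsimp only at hg
  obtain ⟨ψ₁, rfl⟩ := Spec.map_surjective g₁
  obtain ⟨ψ₂, rfl⟩ := Spec.map_surjective g₂
  rw [← Spec.map_comp, ← Spec.map_comp] at hg
  rw [h L ψ₁ ψ₂ (Spec.map_injective hg)]

variable {X Y B : Scheme.{u}} {f : X ⟶ B} {g : Y ⟶ B}

/-- If the left leg of the triplet is purely inseparable on residue fields then the tensor product
of residue fields has a unique prime. -/
theorem subsingleton_spec_tensor_of_pi (T : Triplet f g)
    (h : letI := (f.residueFieldMap T.x).hom.toAlgebra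
      IsPurelyInseparable ↑(B.residueField (f T.x)) ↑(X.residueField T.x)) :
    Subsingleton (Spec T.tensor) := by
  have hui : UniversallyInjective
      (Spec.map ((B.residueFieldCongr T.hx).inv ≫ f.residueFieldMap T.x)) := by
    apply universallyInjective_SpecMap_of_epi
    intro L _ ψ₁ ψ₂ hψ
    rw [Category.assoc, Category.assoc] at hψ
    have hψ' : f.residueFieldMap T.x ≫ ψ₁ = f.residueFieldMap T.x ≫ ψ₂ := (cancel_epi _).1 hψ
    let _ := (f.residueFieldMap T.x).hom.toAlgebra
    have hinj := IsPurelyInseparable.injective_comp_algebraMap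
      ↑(B.residueField (f T.x)) ↑(X.residueField T.x) L
    have := hinj (a₁ := ψ₁.hom) (a₂ := ψ₂.hom) (congrArg CommRingCat.Hom.hom hψ')
    exact CommRingCat.hom_ext this
  have hpb := T.isPullback_SpecMap_tensor
  have h2 : UniversallyInjective (Spec.map T.tensorInr) :=
    MorphismProperty.of_isPullback hpb hui
  have hinj : Function.Injective (Spec.map T.tensorInr) := (Spec.map T.tensorInr).injective
  have : Subsingleton ↥(Spec (Y.residueField T.y)) :=
    inferInstanceAs (Subsingleton (PrimeSpectrum (Y.residueField T.y)))
  exact hinj.subsingleton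

/-- Over a point with purely inseparable residue field extension, a point of the fibre product is
determined by its projections. -/
theorem eq_of_fst_eq_of_snd_eq_of_pi (w w' : ↑(pullback f g))
    (h1 : pullback.fst f g w = pullback.fst f g w') (h2 : pullback.snd f g w = pullback.snd f g w')
    (h : letI := (f.residueFieldMap (pullback.fst f g w')).hom.toAlgebra
      IsPurelyInseparable ↑(B.residueField (f (pullback.fst f g w')))
        ↑(X.residueField (pullback.fst f g w'))) : w = w' := by
  apply carrierEquiv.injective
  have hT : Triplet.ofPoint w = Triplet.ofPoint w' := by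
    ext
    · exact h1
    · exact h2
  apply carrierEquiv_eq_iff.mpr
  refine ⟨hT, ?_⟩
  have hs : Subsingleton (Spec (carrierEquiv w').fst.tensor) :=
    subsingleton_spec_tensor_of_pi (Triplet.ofPoint w') h
  exact hs.elim _ _

/-- Variant of `eq_of_fst_eq_of_snd_eq_of_pi` with the first projection named. -/
theorem eq_of_fst_eq_of_snd_eq_of_pi' (w w' : ↑(pullback f g)) (x : X)
    (hx : pullback.fst f g w' = x) (h1 : pullback.fst f g w = x)
    (h2 : pullback.snd f g w = pullback.snd f g w')
    (h : letI := (f.residueFieldMap x).hom.toAlgebra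
      IsPurelyInseparable ↑(B.residueField (f x)) ↑(X.residueField x)) : w = w' := by
  subst hx
  exact eq_of_fst_eq_of_snd_eq_of_pi w w' h1 h2 h

end Groth.Agent.Lib.Helper36.UnivInjEt
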