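import Groth.Agent.Lib.Helper36.UnivInjEt
import Groth.Agent.Lib.Helper36.FibrePts2
import Groth.Agent.Lib.Helper37.DecentMor2
import Groth.Agent.Lib.Helper23.AlgSpInj2
import Groth.Agent.Lib.Helper17.AtlasCover
import Groth.Agent.S9940

set_option autoImplicit false
universe u
open CategoryTheory CategoryTheory.Limits AlgebraicGeometry TopologicalSpace

namespace Groth.Agent.Lib.Helper36.UnivInjEt

open AlgSp Groth.Agent.Lib.Helper37.AlgSpPoints Groth.Agent.Lib.Helper36.FibrePts
  Groth.Agent.Lib.Helper36.QFLocus Groth.Agent.Lib.Helper23.AlgSpMor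

variable {S : Scheme.{u}}

/-- Two charts defining the same point admit a common field-valued lift. -/
theorem exists_lift_of_ofPt_eq {F : Sp S} {U T : Over S} (p : (yon S).obj U ⟶ F)
    (hp : Representable p) (a : (yon S).obj T ⟶ F) (u : ↥U.left) (t : ↥T.left)
    (h : Points.ofPt p u = Points.ofPt a t) :
    ∃ (Ω : Type u) (_ : Field Ω) (w : Spec (CommRingCat.of Ω) ⟶ S) (α : Over.mk w ⟶ U)
      (i : Over.mk w ⟶ T), (yon S).map α ≫ p = (yon S).map i ≫ a ∧ (∀ s, α.left s = u) ∧
      (∀ s, i.left s = t) := by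
  have sq := hp.isPullback' a
  obtain ⟨e, he1, he2⟩ := (ofPt_eq_ofPt_iff sq u t).1 h
  refine ⟨↥((hp.pullback a).left.residueField e), inferInstance,
    (hp.pullback a).left.fromSpecResidueField e ≫ (hp.pullback a).hom,
    Over.homMk ((hp.pullback a).left.fromSpecResidueField e) rfl ≫ hp.fst' a,
    Over.homMk ((hp.pullback a).left.fromSpecResidueField e) rfl ≫ hp.snd a, ?_, ?_, ?_⟩
  · rw [Functor.map_comp, Functor.map_comp, Category.assoc, Category.assoc, sq.w]
  · intro s
    show (hp.fst' a).left ((hp.pullback a).left.fromSpecResidueField e s) = u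
    rw [Scheme.fromSpecResidueField_apply, he1]
  · intro s
    show (hp.snd a).left ((hp.pullback a).left.fromSpecResidueField e s) = t
    rw [Scheme.fromSpecResidueField_apply, he2]

/-- The scheme-base case: a morphism locally of finite type to a scheme which is injective on
points after every étale base change has surjective diagonal. -/
theorem surj_diag_of_scheme_base (X : Space S) (V : Over S) (f : X.obj ⟶ (yon S).obj V)
    (hft : LocP @LocallyOfFiniteType f)
    (H : ∀ (V' : Over S) (g : V' ⟶ V), Etale g.left → ∀ (P : Sp S) (fst : P ⟶ X.obj)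
      (snd : P ⟶ (yon S).obj V'), IsPullback fst snd f ((yon S).map g) →
      Function.Injective (Points.map snd)) :
    IsSurjectiveMor (pullback.diagonal f) := by
  intro z
  induction z using Points.ind with
  | h q =>
  have hsubq : Subsingleton ↥q.pt.left := inferInstanceAs (Subsingleton (PrimeSpectrum q.K))
  let cp : ↥q.pt.left := IsLocalRing.closedPoint q.K
  obtain ⟨a, ha⟩ : ∃ a : (yon S).obj q.pt ⟶ X.obj, a = q.toHom ≫ pullback.fst f f := ⟨_, rfl⟩
  obtain ⟨b, hb⟩ : ∃ b : (yon S).obj q.pt ⟶ X.obj, b = q.toHom ≫ pullback.snd f f := ⟨_, rfl⟩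
  have hab : a ≫ f = b ≫ f := by
    rw [ha, hb, Category.assoc, Category.assoc, pullback.condition]
  -- Step A: `f` is injective on points
  have hinjf : Function.Injective (Points.map f) :=
    H V (𝟙 V) (show Etale (𝟙 V.left) from inferInstance) X.obj (𝟙 _) f
      (by rw [CategoryTheory.Functor.map_id]; exact IsPullback.id_horiz f)
  have hxab : Points.ofPt a cp = Points.ofPt b cp := by
    apply hinjf
    rw [Points.map_ofPt, Points.map_ofPt, hab]
  -- Step B: a chart
  obtain ⟨U, p, hpe, hps⟩ := X.property.atlas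
  obtain ⟨u, hu⟩ := ofPt_surjective p hps (Points.ofPt a cp)
  obtain ⟨hU, hhU⟩ := (yon S).map_surjective (p ≫ f)
  have hlft : LocallyOfFiniteType hU.left :=
    hft p (𝟙 _) hU hpe (repWith_id _ _) (by rw [hhU, Category.comp_id])
  -- Step C: lifts of `a` and `b` to the chart
  obtain ⟨Ω₁, _, w₁, α₁, i₁, hα₁, hα₁u, -⟩ := exists_lift_of_ofPt_eq p hpe.rep a u cp hu
  have hu₂ : Points.ofPt p u =
      Points.ofPt ((yon S).map i₁ ≫ b) (IsLocalRing.closedPoint Ω₁) := by
    rw [ofPt_map_comp, hu, hxab]
    congr 1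
    exact Subsingleton.elim _ _
  obtain ⟨Ω, _, w, β, i₂, hβ, hβu, -⟩ :=
    exists_lift_of_ofPt_eq p hpe.rep ((yon S).map i₁ ≫ b) u (IsLocalRing.closedPoint Ω₁) hu₂
  obtain ⟨α, hαdef⟩ : ∃ α : Over.mk w ⟶ U, α = i₂ ≫ α₁ := ⟨_, rfl⟩
  obtain ⟨i, hidef⟩ : ∃ i : Over.mk w ⟶ q.pt, i = i₂ ≫ i₁ := ⟨_, rfl⟩
  have hα : (yon S).map α ≫ p = (yon S).map i ≫ a := by
    rw [hαdef, hidef, Functor.map_comp, Category.assoc, hα₁, Functor.map_comp, Category.assoc]
  have hβ' : (yon S).map β ≫ p = (yon S).map i ≫ b := by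
    rw [hβ, hidef, Functor.map_comp, Category.assoc]
  have hαu : ∀ s, α.left s = u := fun s => by
    rw [hαdef]; exact hα₁u _
  have hγ : α ≫ hU = β ≫ hU := by
    apply (yon S).map_injective
    have e1 : (yon S).map (α ≫ hU) = ((yon S).map i ≫ a) ≫ f := by
      rw [Functor.map_comp, hhU, ← Category.assoc, hα]
    have e2 : (yon S).map (β ≫ hU) = ((yon S).map i ≫ b) ≫ f := by
      rw [Functor.map_comp, hhU, ← Category.assoc, hβ']
    rw [e1, e2, Category.assoc, Category.assoc, hab]
  -- Step D: quasi-finiteness at `u`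
  let Y' : Space S := ⟨(yon S).obj V, IsAlgSpace.yon_obj V⟩
  let f' : X ⟶ Y' := ObjectProperty.homMk f
  have hq : hU.left.QuasiFiniteAt u := by
    have hx : Points.ofPt p u ∈ qfLocus f' := by
      apply mem_qfLocus_of_isolated f' hft (Groth.Agent.Lib.Helper37.DecentMor2.isDecent_yon V) _
        Set.univ isOpen_univ trivial
      intro x' _ he
      exact hinjf he
    exact (mem_qfLocus_iff_of_chart f' hft p (𝟙 _) hU hpe (repWith_id _ _)
      (by rw [hhU]; exact (Category.comp_id _).symm) u).1 hx
  -- Step E: étale neighbourhood with purely inseparable residue fields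
  obtain ⟨U₀, g, u₀, hge, hgu₀, J, hJ, Vo, v, hv, -, hall⟩ :=
    Groth.Agent.Lib.Helper57.EtRes.exists_etale_nbhd_purelyInseparable_open hU.left (hU.left u)
      (fun _ : Unit => u) (fun _ _ _ => Subsingleton.elim _ _) (fun _ => rfl) (fun _ => hq)
  -- the étale neighbourhood and the base-changed chart as objects over `S`
  let V' : Over S := Over.mk (g ≫ V.hom)
  let g' : V' ⟶ V := Over.homMk g rfl
  let U'o : Over S := Over.mk (pullback.fst hU.left g ≫ U.hom)
  let fst' : U'o ⟶ U := Over.homMk (pullback.fst hU.left g) rfl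
  have hUw : hU.left ≫ V.hom = U.hom := Over.w hU
  let snd' : U'o ⟶ V' := Over.homMk (pullback.snd hU.left g) (by
    show pullback.snd hU.left g ≫ g ≫ V.hom = pullback.fst hU.left g ≫ U.hom
    rw [← hUw, ← Category.assoc, ← Category.assoc, pullback.condition])
  have hfs : fst' ≫ hU = snd' ≫ g' := by
    apply Over.OverMorphism.ext
    show pullback.fst hU.left g ≫ hU.left = pullback.snd hU.left g ≫ g
    exact pullback.condition
  -- Step F: a further field extension carrying a point of `V'` over `u₀`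
  have hsubΩ : Subsingleton ↥(Spec (CommRingCat.of Ω)) :=
    inferInstanceAs (Subsingleton (PrimeSpectrum Ω))
  obtain ⟨ω, hω1, hω2⟩ := Scheme.Pullback.exists_preimage_pullback (f := (α ≫ hU).left) (g := g)
    (IsLocalRing.closedPoint Ω) u₀ (by
      show hU.left (α.left _) = g u₀
      rw [hαu, hgu₀])
  let Pω := pullback (α ≫ hU).left g
  let w' : Spec (CommRingCat.of ↥(Pω.residueField ω)) ⟶ S :=
    Pω.fromSpecResidueField ω ≫ pullback.fst (α ≫ hU).left g ≫ w
  let ε : Over.mk w' ⟶ Over.mk w :=
    Over.homMk (Pω.fromSpecResidueField ω ≫ pullback.fst (α ≫ hU).left g) (by simp [w'])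
  have hαUw : (α ≫ hU).left ≫ V.hom = w := Over.w (α ≫ hU)
  let δ : Over.mk w' ⟶ V' :=
    Over.homMk (Pω.fromSpecResidueField ω ≫ pullback.snd (α ≫ hU).left g) (by
      show (Pω.fromSpecResidueField ω ≫ pullback.snd (α ≫ hU).left g) ≫ g ≫ V.hom = w'
      rw [Category.assoc, ← Category.assoc (pullback.snd _ _), ← pullback.condition,
        Category.assoc, hαUw])
  have hεδ : ε ≫ α ≫ hU = δ ≫ g' := by
    apply Over.OverMorphism.ext
    show (Pω.fromSpecResidueField ω ≫ pullback.fst (α ≫ hU).left g) ≫ (α ≫ hU).left =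
      (Pω.fromSpecResidueField ω ≫ pullback.snd (α ≫ hU).left g) ≫ g
    rw [Category.assoc, Category.assoc, pullback.condition]
  have hδu₀ : ∀ s, δ.left s = u₀ := by
    intro s
    show pullback.snd (α ≫ hU).left g (Pω.fromSpecResidueField ω s) = u₀
    rw [Scheme.fromSpecResidueField_apply, hω2]
  -- lifts of `α`, `β` to the base-changed chart
  have hcondα : (ε ≫ α).left ≫ hU.left = δ.left ≫ g := by
    have := congrArg (fun m => m.left) hεδ
    simp only [Over.comp_left] at this
    rw [Over.comp_left, Category.assoc]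
    exact this
  have hcondβ : (ε ≫ β).left ≫ hU.left = δ.left ≫ g := by
    have h1 : ε ≫ β ≫ hU = δ ≫ g' := by rw [← hγ]; exact hεδ
    have := congrArg (fun m => m.left) h1
    simp only [Over.comp_left] at this
    rw [Over.comp_left, Category.assoc]
    exact this
  have hU'o : U'o.hom = pullback.fst hU.left g ≫ U.hom := rfl
  let α' : Over.mk w' ⟶ U'o := Over.homMk (pullback.lift (ε ≫ α).left δ.left hcondα) (by
    rw [hU'o, ← Category.assoc, pullback.lift_fst]
    exact Over.w (ε ≫ α))
  let β' : Over.mk w' ⟶ U'o := Over.homMk (pullback.lift (ε ≫ β).left δ.left hcondβ) (by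
    rw [hU'o, ← Category.assoc, pullback.lift_fst]
    exact Over.w (ε ≫ β))
  have hα'fst : α' ≫ fst' = ε ≫ α := by
    apply Over.OverMorphism.ext
    show pullback.lift (ε ≫ α).left δ.left hcondα ≫ pullback.fst hU.left g = (ε ≫ α).left
    exact pullback.lift_fst _ _ _
  have hβ'fst : β' ≫ fst' = ε ≫ β := by
    apply Over.OverMorphism.ext
    show pullback.lift (ε ≫ β).left δ.left hcondβ ≫ pullback.fst hU.left g = (ε ≫ β).left
    exact pullback.lift_fst _ _ _
  have hα'snd : α' ≫ snd' = δ := by
    apply Over.OverMorphism.ext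
    show pullback.lift (ε ≫ α).left δ.left hcondα ≫ pullback.snd hU.left g = δ.left
    exact pullback.lift_snd _ _ _
  have hβ'snd : β' ≫ snd' = δ := by
    apply Over.OverMorphism.ext
    show pullback.lift (ε ≫ β).left δ.left hcondβ ≫ pullback.snd hU.left g = δ.left
    exact pullback.lift_snd _ _ _
  let cp' : ↥(Spec (CommRingCat.of ↥(Pω.residueField ω))) :=
    IsLocalRing.closedPoint ↥(Pω.residueField ω)
  -- the two points of the base-changed chart
  have hwα1 : pullback.fst hU.left g (α'.left cp') = u := by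
    have := congrArg (fun m => m.left cp') hα'fst
    simp only [Over.comp_left, Scheme.Hom.comp_apply] at this
    rw [show pullback.fst hU.left g = fst'.left from rfl, this, hαu]
  have hwβ1 : pullback.fst hU.left g (β'.left cp') = u := by
    have := congrArg (fun m => m.left cp') hβ'fst
    simp only [Over.comp_left, Scheme.Hom.comp_apply] at this
    rw [show pullback.fst hU.left g = fst'.left from rfl, this, hβu]
  have hwα2 : pullback.snd hU.left g (α'.left cp') = u₀ := by
    have := congrArg (fun m => m.left cp') hα'snd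
    simp only [Over.comp_left, Scheme.Hom.comp_apply] at this
    rw [show pullback.snd hU.left g = snd'.left from rfl, this, hδu₀]
  have hwβ2 : pullback.snd hU.left g (β'.left cp') = u₀ := by
    have := congrArg (fun m => m.left cp') hβ'snd
    simp only [Over.comp_left, Scheme.Hom.comp_apply] at this
    rw [show pullback.snd hU.left g = snd'.left from rfl, this, hδu₀]
  obtain ⟨jα, hjα⟩ := hall (α'.left cp') () hwα2 hwα1
  -- Step G: the base-changed algebraic space and its chart
  have sqX' : IsPullback (pullback.fst f ((yon S).map g')) (pullback.snd f ((yon S).map g')) f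
      ((yon S).map g') := IsPullback.of_hasPullback _ _
  have hinj' : Function.Injective (Points.map (pullback.snd f ((yon S).map g'))) :=
    H V' g' hge _ _ _ sqX'
  have hX' : IsAlgSpace (pullback f ((yon S).map g')) :=
    isAlgSpace_of_isPullback X.property (IsAlgSpace.yon_obj V') (IsAlgSpace.yon_obj V).diag sqX'
  have hp'cond : ((yon S).map fst' ≫ p) ≫ f = (yon S).map snd' ≫ (yon S).map g' := by
    rw [Category.assoc, ← hhU, ← Functor.map_comp, ← Functor.map_comp, hfs]
  obtain ⟨p', hp'1, hp'2⟩ : ∃ p' : (yon S).obj U'o ⟶ pullback f ((yon S).map g'),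
      p' ≫ pullback.fst f ((yon S).map g') = (yon S).map fst' ≫ p ∧
      p' ≫ pullback.snd f ((yon S).map g') = (yon S).map snd' :=
    ⟨pullback.lift _ _ hp'cond, pullback.lift_fst _ _ _, pullback.lift_snd _ _ _⟩
  have hp'w : Points.ofPt p' (α'.left cp') = Points.ofPt p' (β'.left cp') := by
    apply hinj'
    rw [Points.map_ofPt, Points.map_ofPt, hp'2, ← Category.comp_id ((yon S).map snd'),
      ofPt_map_comp, ofPt_map_comp]
    congr 1
    exact hwα2.trans hwβ2.symm
  have hrep' : Representable p' := hX'.representable_from_yon p'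
  have sqR := hrep'.isPullback' p'
  obtain ⟨r, hr1, hr2⟩ := (ofPt_eq_ofPt_iff sqR (α'.left cp') (β'.left cp')).1 hp'w
  -- Step H: the two points of `U' ×_{V'} U'` agree
  have hprs : hrep'.fst' p' ≫ snd' = hrep'.snd p' ≫ snd' := by
    apply (yon S).map_injective
    rw [Functor.map_comp, Functor.map_comp, ← hp'2, ← Category.assoc, ← Category.assoc, sqR.w]
  have hmcond : (hrep'.fst' p').left ≫ pullback.snd hU.left g =
      (hrep'.snd p').left ≫ pullback.snd hU.left g := by
    have := congrArg (fun m => m.left) hprs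
    simp only [Over.comp_left] at this
    exact this
  have hτcond : α'.left ≫ pullback.snd hU.left g = β'.left ≫ pullback.snd hU.left g := by
    have h1 := congrArg (fun m => m.left) hα'snd
    have h2 := congrArg (fun m => m.left) hβ'snd
    simp only [Over.comp_left] at h1 h2
    exact h1.trans h2.symm
  have hcrux : (pullback.lift (hrep'.fst' p').left (hrep'.snd p').left hmcond :
        (hrep'.pullback p').left ⟶ pullback (pullback.snd hU.left g) (pullback.snd hU.left g)) r =
      (pullback.lift α'.left β'.left hτcond :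
        _ ⟶ pullback (pullback.snd hU.left g) (pullback.snd hU.left g)) cp' := by
    apply eq_of_fst_eq_of_snd_eq_of_pi' _ _ (v () jα) ?_ ?_ ?_ (hv () jα).2.2.2.2.1.2
    · rw [← Scheme.Hom.comp_apply, pullback.lift_fst, hjα]
    · rw [← Scheme.Hom.comp_apply, pullback.lift_fst, hr1, hjα]
    · rw [← Scheme.Hom.comp_apply, ← Scheme.Hom.comp_apply, pullback.lift_snd, pullback.lift_snd]
      exact hr2
  -- Step I: a further extension over which the two lifts factor through `U' ×_{X'} U'`
  obtain ⟨ρ, hρ1, hρ2⟩ := Scheme.Pullback.exists_preimage_pullback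
    (f := (pullback.lift α'.left β'.left hτcond :
        _ ⟶ pullback (pullback.snd hU.left g) (pullback.snd hU.left g)))
    (g := (pullback.lift (hrep'.fst' p').left (hrep'.snd p').left hmcond :
        (hrep'.pullback p').left ⟶ pullback (pullback.snd hU.left g) (pullback.snd hU.left g)))
    cp' r hcrux.symm
  obtain ⟨τ, hτ⟩ : ∃ τ : Spec (CommRingCat.of ↥(Pω.residueField ω)) ⟶
      pullback (pullback.snd hU.left g) (pullback.snd hU.left g),
      τ = pullback.lift α'.left β'.left hτcond := ⟨_, rfl⟩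
  obtain ⟨m, hm⟩ : ∃ m : (hrep'.pullback p').left ⟶
      pullback (pullback.snd hU.left g) (pullback.snd hU.left g),
      m = pullback.lift (hrep'.fst' p').left (hrep'.snd p').left hmcond := ⟨_, rfl⟩
  rw [← hτ, ← hm] at ρ
  have hτ1 : τ ≫ pullback.fst _ _ = α'.left := by rw [hτ]; exact pullback.lift_fst _ _ _
  have hτ2 : τ ≫ pullback.snd _ _ = β'.left := by rw [hτ]; exact pullback.lift_snd _ _ _
  have hm1 : m ≫ pullback.fst _ _ = (hrep'.fst' p').left := by
    rw [hm]; exact pullback.lift_fst _ _ _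
  have hm2 : m ≫ pullback.snd _ _ = (hrep'.snd p').left := by
    rw [hm]; exact pullback.lift_snd _ _ _
  let Pρ := pullback τ m
  obtain ⟨ε', hε'⟩ : ∃ ε' : Spec (CommRingCat.of ↥(Pρ.residueField ρ)) ⟶
      Spec (CommRingCat.of ↥(Pω.residueField ω)),
      ε' = Pρ.fromSpecResidueField ρ ≫ pullback.fst τ m := ⟨_, rfl⟩
  obtain ⟨ρ', hρ'⟩ : ∃ ρ' : Spec (CommRingCat.of ↥(Pρ.residueField ρ)) ⟶ (hrep'.pullback p').left,
      ρ' = Pρ.fromSpecResidueField ρ ≫ pullback.snd τ m := ⟨_, rfl⟩
  have hερ : ε' ≫ τ = ρ' ≫ m := by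
    rw [hε', hρ', Category.assoc, Category.assoc, pullback.condition]
  have h1 : ρ' ≫ (hrep'.fst' p').left = ε' ≫ α'.left := by
    rw [← hm1, ← Category.assoc, ← hερ, Category.assoc, hτ1]
  have h2 : ρ' ≫ (hrep'.snd p').left = ε' ≫ β'.left := by
    rw [← hm2, ← Category.assoc, ← hερ, Category.assoc, hτ2]
  obtain ⟨w'', hw''⟩ : ∃ w'' : Spec (CommRingCat.of ↥(Pρ.residueField ρ)) ⟶ S, w'' = ε' ≫ w' :=
    ⟨_, rfl⟩
  let εo : Over.mk w'' ⟶ Over.mk w' := Over.homMk ε' hw''.symm
  let ρo : Over.mk w'' ⟶ hrep'.pullback p' := Over.homMk ρ' (by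
    show ρ' ≫ (hrep'.pullback p').hom = w''
    rw [hw'', ← Over.w (hrep'.fst' p'), ← Category.assoc, h1, Category.assoc]
    congr 1
    exact Over.w α')
  have hO1 : ρo ≫ hrep'.fst' p' = εo ≫ α' := Over.OverMorphism.ext h1
  have hO2 : ρo ≫ hrep'.snd p' = εo ≫ β' := Over.OverMorphism.ext h2
  have hkey : (yon S).map (εo ≫ α') ≫ p' = (yon S).map (εo ≫ β') ≫ p' := by
    rw [← hO1, ← hO2, Functor.map_comp, Functor.map_comp, Category.assoc, Category.assoc, sqR.w]
  -- Step J: back to `X`
  obtain ⟨I, hI⟩ : ∃ I : Over.mk w'' ⟶ q.pt, I = (εo ≫ ε) ≫ i := ⟨_, rfl⟩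
  have hIa : (yon S).map I ≫ a = (yon S).map (εo ≫ α') ≫ p' ≫ pullback.fst f ((yon S).map g') := by
    rw [hp'1, ← Category.assoc, ← Functor.map_comp, Category.assoc, hα'fst, ← Category.assoc,
      Functor.map_comp, Category.assoc, hα, hI, Functor.map_comp, Category.assoc]
  have hIb : (yon S).map I ≫ b = (yon S).map (εo ≫ β') ≫ p' ≫ pullback.fst f ((yon S).map g') := by
    rw [hp'1, ← Category.assoc, ← Functor.map_comp, Category.assoc, hβ'fst, ← Category.assoc,
      Functor.map_comp, Category.assoc, hβ', hI, Functor.map_comp, Category.assoc]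
  have hIab : (yon S).map I ≫ a = (yon S).map I ≫ b := by
    rw [hIa, hIb, ← Category.assoc, hkey, Category.assoc]
  -- Step K: conclusion
  refine ⟨Points.ofPt ((yon S).map I ≫ a) (IsLocalRing.closedPoint ↥(Pρ.residueField ρ)), ?_⟩
  have hfac : ((yon S).map I ≫ a) ≫ pullback.diagonal f = (yon S).map I ≫ q.toHom := by
    apply pullback.hom_ext
    · rw [Category.assoc, Category.assoc, pullback.diagonal_fst, Category.comp_id, Category.assoc,
        ← ha]
    · rw [Category.assoc, Category.assoc, pullback.diagonal_snd, Category.comp_id, Category.assoc,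
        ← hb, hIab]
  rw [Points.map_ofPt, hfac, ofPt_map_comp, Points.ofPt_toHom]

end Groth.Agent.Lib.Helper36.UnivInjEt
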