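import Mathlib
import Groth.Agent.Lib.Helper36.AlgSpHasAtMor
import Groth.Agent.Lib.Helper46.EtLocal

/-!
# Unramified locus and base change (helper36)

* `mem_support_baseChange`: support of a finite module and base change.
* `mem_unramifiedLocus_of_baseChange`: the unramified locus of a base change lies over the
  unramified locus (essentially finite type).
* `unramified_nbhd_descent`: scheme-level descent of "unramified near a point" along arbitrary base
  change for morphisms locally of finite type.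
* `isEtaleLocalGermMor_nbhd`: "P near the point" is étale local on source and target.
* `nbhd_of_isPullback`: base change preserves "P near the point".
-/

set_option linter.style.haveILetI false

universe u
open TensorProduct CategoryTheory CategoryTheory.Limits AlgebraicGeometry

namespace Groth.Agent.Lib.Helper36.UnramBC

open Groth.Agent.Lib.Helper36.AlgSpHasAtMor Groth.Agent.Lib.Helper46

/-- If `A → L` is a ring map to a field with kernel `p` and `p` is in the support of the finite
module `M`, then `L ⊗[A] M` is nontrivial. -/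
theorem nontrivial_tensor_of_mem_support {A L M : Type*} [CommRing A] [Field L] [Algebra A L]
    [AddCommGroup M] [Module A M] [Module.Finite A M] (p : PrimeSpectrum A)
    (hp : p.asIdeal = RingHom.ker (algebraMap A L)) (h : p ∈ Module.support A M) :
    Nontrivial (L ⊗[A] M) := by
  rw [Module.mem_support_iff_nontrivial_residueField_tensorProduct] at h
  let K := p.asIdeal.ResidueField
  have hf₁ : p.asIdeal ≤ RingHom.ker (algebraMap A L) := hp.le
  have hf₂ : p.asIdeal.primeCompl ≤ (IsUnit.submonoid L).comap (algebraMap A L) := by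
    intro x hx
    change IsUnit (algebraMap A L x)
    rw [isUnit_iff_ne_zero]
    intro h0
    exact hx (hp ▸ (RingHom.mem_ker.2 h0))
  letI : Algebra K L := (Ideal.ResidueField.lift p.asIdeal (algebraMap A L) hf₁ hf₂).toAlgebra
  haveI : IsScalarTower A K L := IsScalarTower.of_algebraMap_eq' (by
    ext r
    exact (Ideal.ResidueField.lift_algebraMap p.asIdeal (algebraMap A L) hf₁ hf₂ r).symm)
  let e2 := AlgebraTensorModule.cancelBaseChange A K L L M
  have : Nontrivial (L ⊗[K] (K ⊗[A] M)) := inferInstance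
  exact e2.toEquiv.nontrivial_congr.1 this

/-- Support of a base change contains the preimage of the support (finite module). -/
theorem mem_support_baseChange {A A' M : Type*} [CommRing A] [CommRing A'] [Algebra A A']
    [AddCommGroup M] [Module A M] [Module.Finite A M] (p' : PrimeSpectrum A')
    (h : PrimeSpectrum.comap (algebraMap A A') p' ∈ Module.support A M) :
    p' ∈ Module.support A' (A' ⊗[A] M) := by
  rw [Module.mem_support_iff_nontrivial_residueField_tensorProduct]
  let K' := p'.asIdeal.ResidueField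
  let e1 := AlgebraTensorModule.cancelBaseChange A A' K' K' M
  have : Nontrivial (K' ⊗[A] M) := by
    refine nontrivial_tensor_of_mem_support _ ?_ h
    ext x
    rw [PrimeSpectrum.comap_asIdeal, Ideal.mem_comap, RingHom.mem_ker,
      IsScalarTower.algebraMap_apply A A' K', Ideal.algebraMap_residueField_eq_zero]
  exact e1.toEquiv.nontrivial_congr.2 this

/-- The unramified locus of a base change is contained in (in fact equal to) the preimage of the
unramified locus. -/
theorem mem_unramifiedLocus_of_baseChange (R S A B : Type*) [CommRing R] [CommRing S] [Algebra R S]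
    [CommRing A] [CommRing B] [Algebra R A] [Algebra R B] [Algebra A B] [Algebra S B]
    [IsScalarTower R A B] [IsScalarTower R S B] [Algebra.IsPushout R S A B]
    [Algebra.EssFiniteType R A] (q : PrimeSpectrum B) (h : q ∈ Algebra.unramifiedLocus S B) :
    PrimeSpectrum.comap (algebraMap A B) q ∈ Algebra.unramifiedLocus R A := by
  rw [Algebra.unramifiedLocus_eq_compl_support] at h ⊢
  intro hq
  apply h
  rw [← (KaehlerDifferential.tensorKaehlerEquiv R S A B).support_eq]
  exact mem_support_baseChange q hq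

/-- `D(g).ι ≫ Spec.map (R → A)` is formally unramified iff `R → A_g` is. -/
theorem formallyUnramified_basicOpen_ι_comp_iff {R A : Type u} [CommRing R] [CommRing A]
    [Algebra R A] (g : A) :
    FormallyUnramified (Scheme.Opens.ι (X := Spec (.of A)) (PrimeSpectrum.basicOpen g) ≫
      Spec.map (CommRingCat.ofHom (algebraMap R A))) ↔
    Algebra.FormallyUnramified R (Localization.Away g) := by
  have key := basicOpenIsoSpecAway_hom_SpecMap (R := CommRingCat.of A) g
  rw [← key, Category.assoc, ← Spec.map_comp,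
    MorphismProperty.cancel_left_of_respectsIso (P := @FormallyUnramified),
    HasRingHomProperty.Spec_iff (P := @FormallyUnramified), ← CommRingCat.ofHom_comp,
    CommRingCat.hom_ofHom, ← IsScalarTower.algebraMap_eq,
    RingHom.formallyUnramified_algebraMap]

theorem spec_unramified_descent (R S A B : Type u) [CommRing R] [CommRing S] [Algebra R S]
    [CommRing A] [CommRing B] [Algebra R A] [Algebra R B] [Algebra A B] [Algebra S B]
    [IsScalarTower R A B] [IsScalarTower R S B] [Algebra.IsPushout R S A B]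
    [Algebra.FiniteType R A] (q : PrimeSpectrum B) (W' : (Spec (.of B)).Opens) (hq : q ∈ W')
    (hW' : FormallyUnramified (W'.ι ≫ Spec.map (CommRingCat.ofHom (algebraMap S B)))) :
    ∃ W : (Spec (.of A)).Opens, PrimeSpectrum.comap (algebraMap A B) q ∈ W ∧
      FormallyUnramified (W.ι ≫ Spec.map (CommRingCat.ofHom (algebraMap R A))) := by
  obtain ⟨_, ⟨b, rfl⟩, hqb, hle⟩ := TopologicalSpace.Opens.isBasis_iff_nbhd.1
    (PrimeSpectrum.isBasis_basic_opens (R := B)) (U := W') hq
  have h1 : FormallyUnramified (Scheme.Opens.ι (X := Spec (.of B)) (PrimeSpectrum.basicOpen b) ≫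
      Spec.map (CommRingCat.ofHom (algebraMap S B))) := by
    rw [← Scheme.homOfLE_ι _ hle, Category.assoc]
    exact MorphismProperty.comp_mem _ _ _ inferInstance hW'
  rw [formallyUnramified_basicOpen_ι_comp_iff] at h1
  have h2 : q ∈ Algebra.unramifiedLocus S B :=
    (Algebra.basicOpen_subset_unramifiedLocus_iff.2 h1) hqb
  have h3 := mem_unramifiedLocus_of_baseChange R S A B q h2
  set p := PrimeSpectrum.comap (algebraMap A B) q
  have : Algebra.IsUnramifiedAt R p.asIdeal := h3
  obtain ⟨g, hg, hgu⟩ := Algebra.exists_formallyUnramified_of_isUnramifiedAt (R := R) p.asIdeal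
  exact ⟨PrimeSpectrum.basicOpen g, hg, (formallyUnramified_basicOpen_ι_comp_iff g).2 hgu⟩

attribute [local instance] Algebra.TensorProduct.rightAlgebra in
theorem specPullback_unramified_descent {R A S : CommRingCat.{u}} (φ : R ⟶ A) (ψ : R ⟶ S)
    (hφ : φ.hom.FiniteType) (t : ↥(pullback (Spec.map φ) (Spec.map ψ)))
    (W' : (pullback (Spec.map φ) (Spec.map ψ)).Opens) (ht : t ∈ W')
    (hW' : FormallyUnramified (W'.ι ≫ pullback.snd (Spec.map φ) (Spec.map ψ))) :
    ∃ W : (Spec A).Opens, pullback.fst (Spec.map φ) (Spec.map ψ) t ∈ W ∧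
      FormallyUnramified (W.ι ≫ Spec.map φ) := by
  algebraize [φ.hom, ψ.hom]
  let e : pullback (Spec.map φ) (Spec.map ψ) ≅ Spec (.of (A ⊗[R] S)) := pullbackSpecIso R A S
  have he1 : e.inv ≫ pullback.fst (Spec.map φ) (Spec.map ψ) =
      Spec.map (CommRingCat.ofHom (algebraMap A (A ⊗[R] S))) := pullbackSpecIso_inv_fst' R A S
  have he2 : e.inv ≫ pullback.snd (Spec.map φ) (Spec.map ψ) =
      Spec.map (CommRingCat.ofHom (algebraMap S (A ⊗[R] S))) := pullbackSpecIso_inv_snd R A S
  have hft : Algebra.FiniteType R A := hφ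
  have hq : e.hom t ∈ e.inv ⁻¹ᵁ W' := by
    change e.inv (e.hom t) ∈ W'
    rw [← Scheme.Hom.comp_apply, e.hom_inv_id]
    exact ht
  have hW'B : FormallyUnramified ((e.inv ⁻¹ᵁ W').ι ≫
      Spec.map (CommRingCat.ofHom (algebraMap S (A ⊗[R] S)))) := by
    rw [← he2, ← Category.assoc, ← morphismRestrict_ι, Category.assoc]
    exact MorphismProperty.comp_mem _ _ _ inferInstance hW'
  obtain ⟨W, hW1, hW2⟩ := spec_unramified_descent R S A (A ⊗[R] S) (e.hom t) (e.inv ⁻¹ᵁ W') hq hW'B
  refine ⟨W, ?_, hW2⟩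
  have : pullback.fst (Spec.map φ) (Spec.map ψ) t =
      Spec.map (CommRingCat.ofHom (algebraMap A (A ⊗[R] S))) (e.hom t) := by
    rw [← he1, Scheme.Hom.comp_apply, ← Scheme.Hom.comp_apply e.hom e.inv, e.hom_inv_id]
    rfl
  rw [this]
  exact hW1

/-- Descent of "unramified in a neighbourhood" along an arbitrary base change, for a morphism
locally of finite type. -/
theorem unramified_nbhd_descent {U U' V V' : Scheme.{u}} (h : U ⟶ V) (h' : U' ⟶ V') (α : U' ⟶ U)
    (β : V' ⟶ V) (sq : IsPullback α h' h β) [LocallyOfFiniteType h] (u' : ↥U') (W' : U'.Opens)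
    (hu' : u' ∈ W') (hW' : FormallyUnramified (W'.ι ≫ h')) :
    ∃ W : U.Opens, α u' ∈ W ∧ FormallyUnramified (W.ι ≫ h) := by
  have hvv : β (h' u') = h (α u') := by
    rw [← Scheme.Hom.comp_apply, ← Scheme.Hom.comp_apply, sq.w]
  obtain ⟨Vo, hVo, hvVo, -⟩ := exists_isAffineOpen_mem_and_subset
    (x := h (α u')) (U := ⊤) trivial
  obtain ⟨V'o, hV'o, hv'V'o, hV'le⟩ := exists_isAffineOpen_mem_and_subset
    (x := h' u') (U := β ⁻¹ᵁ Vo) (by change β (h' u') ∈ Vo; rw [hvv]; exact hvVo)
  obtain ⟨Uo, hUo, huUo, hUle⟩ := exists_isAffineOpen_mem_and_subset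
    (x := α u') (U := h ⁻¹ᵁ Vo) hvVo
  have hUle' : Uo ≤ h ⁻¹ᵁ Vo := hUle
  have hV'le' : V'o ≤ β ⁻¹ᵁ Vo := hV'le
  set φ := h.appLE Vo Uo hUle'
  set ψ := β.appLE Vo V'o hV'le'
  have hφ : φ.hom.FiniteType :=
    HasRingHomProperty.appLE (P := @LocallyOfFiniteType) h inferInstance ⟨Vo, hVo⟩ ⟨Uo, hUo⟩ hUle'
  have e₁ : Spec.map φ ≫ hVo.fromSpec = hUo.fromSpec ≫ h :=
    IsAffineOpen.SpecMap_appLE_fromSpec h hVo hUo hUle'
  have e₂ : Spec.map ψ ≫ hVo.fromSpec = hV'o.fromSpec ≫ β :=
    IsAffineOpen.SpecMap_appLE_fromSpec β hVo hV'o hV'le'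
  let J := pullback.map (Spec.map φ) (Spec.map ψ) h β hUo.fromSpec hV'o.fromSpec hVo.fromSpec e₁ e₂
  let J' := J ≫ sq.isoPullback.inv
  have hJ'1 : J' ≫ α = pullback.fst _ _ ≫ hUo.fromSpec := by
    simp only [J', J, Category.assoc, sq.isoPullback_inv_fst]
    exact pullback.lift_fst _ _ _
  have hJ'2 : J' ≫ h' = pullback.snd _ _ ≫ hV'o.fromSpec := by
    simp only [J', J, Category.assoc, sq.isoPullback_inv_snd]
    exact pullback.lift_snd _ _ _
  -- u' is in the range of J'
  obtain ⟨t, ht⟩ : ∃ t, J' t = u' := by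
    have hr : sq.isoPullback.hom u' ∈ Set.range J := by
      rw [Scheme.Pullback.range_map]
      refine ⟨?_, ?_⟩
      · change pullback.fst h β (sq.isoPullback.hom u') ∈ Set.range hUo.fromSpec
        rw [← Scheme.Hom.comp_apply, sq.isoPullback_hom_fst, hUo.range_fromSpec]
        exact huUo
      · change pullback.snd h β (sq.isoPullback.hom u') ∈ Set.range hV'o.fromSpec
        rw [← Scheme.Hom.comp_apply, sq.isoPullback_hom_snd, hV'o.range_fromSpec]
        exact hv'V'o
    obtain ⟨t, ht⟩ := hr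
    refine ⟨t, ?_⟩
    change sq.isoPullback.inv (J t) = u'
    rw [ht, ← Scheme.Hom.comp_apply, sq.isoPullback.hom_inv_id]
    rfl
  have htW : t ∈ J' ⁻¹ᵁ W' := by
    change J' t ∈ W'
    rw [ht]; exact hu'
  have hWT : FormallyUnramified ((J' ⁻¹ᵁ W').ι ≫ pullback.snd (Spec.map φ) (Spec.map ψ)) := by
    have : FormallyUnramified (((J' ⁻¹ᵁ W').ι ≫ pullback.snd (Spec.map φ) (Spec.map ψ)) ≫
        hV'o.fromSpec) := by
      rw [Category.assoc, ← hJ'2, ← Category.assoc, ← morphismRestrict_ι, Category.assoc]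
      exact MorphismProperty.comp_mem _ _ _ inferInstance hW'
    exact FormallyUnramified.of_comp _ hV'o.fromSpec
  obtain ⟨WA, hWA1, hWA2⟩ := specPullback_unramified_descent φ ψ hφ t (J' ⁻¹ᵁ W') htW hWT
  refine ⟨hUo.fromSpec ''ᵁ WA, ?_, ?_⟩
  · refine ⟨(pullback.fst (Spec.map φ) (Spec.map ψ)) t, hWA1, ?_⟩
    rw [← ht, ← Scheme.Hom.comp_apply, hJ'1]
    rfl
  · let i : (hUo.fromSpec ''ᵁ WA).toScheme ≅ WA.toScheme :=
      IsOpenImmersion.isoOfRangeEq (hUo.fromSpec ''ᵁ WA).ι (WA.ι ≫ hUo.fromSpec) (by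
        rw [Scheme.Opens.range_ι, Scheme.Hom.comp_base, TopCat.coe_comp, Set.range_comp,
          Scheme.Opens.range_ι]
        rfl)
    have hi : i.hom ≫ WA.ι ≫ hUo.fromSpec = (hUo.fromSpec ''ᵁ WA).ι :=
      IsOpenImmersion.isoOfRangeEq_hom_fac _ _ _
    rw [← hi, Category.assoc, Category.assoc, ← e₁, ← Category.assoc WA.ι]
    refine MorphismProperty.comp_mem _ _ _ inferInstance ?_
    exact MorphismProperty.comp_mem _ _ _ hWA2 inferInstance

/-- "`P` holds on a neighbourhood of the point" is étale local on source and target, for `P` étale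
local on source and target. -/
theorem isEtaleLocalGermMor_nbhd {P : MorphismProperty Scheme.{u}} (hP : EtLocal P) :
    IsEtaleLocalGermMor (fun U _ h u => ∃ W : U.Opens, u ∈ W ∧ P (W.ι ≫ h)) := by
  intro U U' V V' h h' a b _ _ comm u'
  constructor
  · rintro ⟨W, hW, hPW⟩
    refine ⟨a ⁻¹ᵁ W, hW, ?_⟩
    have h1 : P ((a ∣_ W) ≫ W.ι ≫ h) := hP.precomp _ _ inferInstance hPW
    rw [← Category.assoc, morphismRestrict_ι, Category.assoc, ← comm, ← Category.assoc] at h1
    exact hP.cancel _ b inferInstance h1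
  · rintro ⟨W', hW', hPW'⟩
    have h1 : P ((W'.ι ≫ h') ≫ b) := hP.postcomp _ _ inferInstance hPW'
    rw [Category.assoc, comm, ← Category.assoc] at h1
    -- the open image of W' under a
    have hopen : IsOpen (a '' (W' : Set ↥U')) := a.isOpenMap _ W'.2
    let W : U.Opens := ⟨a '' (W' : Set ↥U'), hopen⟩
    have hr : Set.range (W'.ι ≫ a) ⊆ Set.range W.ι := by
      rw [Scheme.Opens.range_ι, Scheme.Hom.comp_base, TopCat.coe_comp, Set.range_comp,
        Scheme.Opens.range_ι]
      rfl
    let g : W'.toScheme ⟶ W.toScheme := IsOpenImmersion.lift W.ι (W'.ι ≫ a) hr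
    have hg : g ≫ W.ι = W'.ι ≫ a := IsOpenImmersion.lift_fac _ _ _
    have hge : Etale g := by
      have : Etale (g ≫ W.ι) := by rw [hg]; infer_instance
      exact MorphismProperty.of_postcomp (W := @Etale) (W' := @Etale) g W.ι inferInstance this
    have hgs : Surjective g := by
      refine ⟨fun w => ?_⟩
      obtain ⟨w', hw', hw'2⟩ := w.2
      refine ⟨⟨w', hw'⟩, ?_⟩
      apply W.ι.isOpenEmbedding.injective
      rw [← Scheme.Hom.comp_apply, hg]
      exact hw'2
    refine ⟨W, ⟨u', hW', rfl⟩, ?_⟩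
    refine hP.of_cover g (W.ι ≫ h) hge hgs ?_
    rw [← Category.assoc, hg]
    exact h1

/-- Base change preserves "`P` holds on a neighbourhood of the point". -/
theorem nbhd_of_isPullback {P : MorphismProperty Scheme.{u}} [P.IsStableUnderBaseChange]
    {U U' V V' : Scheme.{u}} (h : U ⟶ V) (h' : U' ⟶ V') (α : U' ⟶ U) (β : V' ⟶ V)
    (sq : IsPullback α h' h β) (u' : ↥U') (H : ∃ W : U.Opens, α u' ∈ W ∧ P (W.ι ≫ h)) :
    ∃ W' : U'.Opens, u' ∈ W' ∧ P (W'.ι ≫ h') := by
  obtain ⟨W, hW, hPW⟩ := H
  exact ⟨α ⁻¹ᵁ W, hW, P.of_isPullback ((isPullback_morphismRestrict α W).paste_vert sq) hPW⟩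

end Groth.Agent.Lib.Helper36.UnramBC
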