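import Mathlib
import Groth.Prelude.Def_CohB1
import Groth.Prelude.Def_Flat
import Groth.Agent.Lib.Helper5.WidePB
import Groth.Agent.Lib.Helper73.DimFormula.FiberDimAdd
import Groth.Agent.Lib.Helper73.DimFormula.FieldExtScheme
import Groth.Agent.Lib.Helper73.DimFormula.Chevalley

set_option autoImplicit false
universe u
open CategoryTheory CategoryTheory.Limits AlgebraicGeometry

namespace Groth.Agent.Lib.Helper36.WidePBWP2

open Groth.Agent.Lib.Helper5.WidePB Groth.Agent.Lib.Helper73

/-- fibre dimension of an isomorphism is `≤ 0`. -/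
theorem fibreDimAt_id_le (B : Scheme.{u}) (p : ↥B) :
    FlatMor.fibreDimAt (𝟙 B) p ≤ 0 := by
  rw [← quasiFiniteAt_iff_fibreDimAt_le_zero]
  exact Scheme.Hom.quasiFiniteAt (𝟙 B) p

/-- a model of the wide pullback with the fibre dimension bound. -/
theorem exists_model (d : ℕ) : ∀ (n : ℕ) {B : Scheme.{u}} (objs : Fin n → Scheme.{u})
    (arrows : ∀ k, objs k ⟶ B) [∀ k, LocallyOfFiniteType (arrows k)]
    (_ : ∀ k (p : objs k), FlatMor.fibreDimAt (arrows k) p ≤ ((d : ℕ) : WithBot ℕ∞)),
    ∃ (W : Scheme.{u}) (b : W ⟶ B) (π : ∀ k, W ⟶ objs k), IsWidePB arrows b π ∧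
      LocallyOfFiniteType b ∧ ∀ p : ↥W, FlatMor.fibreDimAt b p ≤ ((n * d : ℕ) : WithBot ℕ∞) := by
  intro n
  induction n with
  | zero =>
    intro B objs arrows _ h
    refine ⟨B, 𝟙 B, fun k => Fin.elim0 k, ⟨fun k => Fin.elim0 k, ?_, ?_⟩, inferInstance, ?_⟩
    · intro Z z zk _
      exact ⟨z, Category.comp_id _, fun k => Fin.elim0 k⟩
    · intro Z l l' h1 _
      simpa using h1
    · intro p
      simpa using fibreDimAt_id_le B p
  | succ n ih =>
    intro B objs arrows _ h
    obtain ⟨W', b', π', h', hlft', hdim'⟩ := ih (fun k : Fin n => objs k.castSucc)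
      (fun k : Fin n => arrows k.castSucc) (fun k p => h k.castSucc p)
    have sq : IsPullback (pullback.fst (arrows (Fin.last n)) b') (pullback.snd (arrows (Fin.last n)) b')
        (arrows (Fin.last n)) b' := IsPullback.of_hasPullback _ _
    refine ⟨pullback (arrows (Fin.last n)) b', pullback.snd _ _ ≫ b', _,
      isWidePB_succ arrows b' π' h' _ _ sq, inferInstance, ?_⟩
    intro p
    have h1 := fibreDimAt_comp_le_add (pullback.snd (arrows (Fin.last n)) b') b' p
    have h2 : FlatMor.fibreDimAt (pullback.snd (arrows (Fin.last n)) b') p =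
        FlatMor.fibreDimAt (arrows (Fin.last n)) (pullback.fst (arrows (Fin.last n)) b' p) :=
      fibreDimAt_eq_of_isPullback (arrows (Fin.last n)) b' _ _ sq p
    have h3 := h (Fin.last n) (pullback.fst (arrows (Fin.last n)) b' p)
    have h4 := hdim' (pullback.snd (arrows (Fin.last n)) b' p)
    rw [h2] at h1
    refine h1.trans ((add_le_add h3 h4).trans (le_of_eq ?_))
    have : ((n + 1) * d : ℕ) = d + n * d := by ring
    rw [this, Nat.cast_add]

theorem fibreDimAt_wideBase_le {n : ℕ} {B : Scheme.{u}} (objs : Fin n → Scheme.{u})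
    (arrows : ∀ k, objs k ⟶ B) [∀ k, LocallyOfFiniteType (arrows k)] (d : ℕ)
    (h : ∀ k (p : objs k), FlatMor.fibreDimAt (arrows k) p ≤ ((d : ℕ) : WithBot ℕ∞))
    (p : ↥(widePullback B objs arrows)) :
    FlatMor.fibreDimAt (WidePullback.base arrows) p ≤ ((n * d : ℕ) : WithBot ℕ∞) := by
  obtain ⟨W, b, π, hW, hlft, hdim⟩ := exists_model d n objs arrows h
  obtain ⟨e, he, -⟩ := hW.exists_iso
  have sq : IsPullback e.hom (WidePullback.base arrows) b (𝟙 B) :=
    IsPullback.of_horiz_isIso ⟨by rw [he, Category.comp_id]⟩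
  rw [fibreDimAt_eq_of_isPullback b (𝟙 B) e.hom (WidePullback.base arrows) sq p]
  exact hdim _

end Groth.Agent.Lib.Helper36.WidePBWP2
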